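import Cfsg.Agent.StdRank2.UFour.GrowSq

/-!
# Structure constants of the grown Sylow 2-subgroup of `U₄(q)`, `U₅(q)`: the common part, I

`AGrown E`: the grown root groups `A, C, Z, B` (`Bb`) over the root groups `xa, xc, xz, xb` and a Weyl
element `nb` with `nb : A ↔ C`, `nb xb(1) nb = xb(1) nb xb(1)`.  This is common to `UFour.Grown` and
`UFive.Grown`.

`th a b` is the `C`-component of `[a, b]` (`a ∈ A`, `b ∈ B`).
-/

set_option autoImplicit false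
set_option linter.unusedSectionVars false

namespace Cfsg.Agent.StdRank2.SC

open Subgroup Cfsg.Agent.StdRank2.UFour

variable {F : Type*} [Field F] [CharP F 2] {B : Bar F} {G : Type*} [Group G]

/-- The common input. -/
structure AGrown (E : WEnv B G) extends WGrown E where
  A : Subgroup G
  nb : G
  rootA : Root E E.xa A
  Z_A : ∀ g ∈ Z, ∀ k ∈ A, g * k = k * g
  A_C : ∀ a ∈ A, ∀ c ∈ C, ∃ r ∈ Z, a * c * a⁻¹ = r * c
  A_B : ∀ a ∈ A, ∀ g ∈ Bb, ∃ r ∈ Z, ∃ c ∈ C, a * g * a⁻¹ = r * c * g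
  nb_Z : ∀ g ∈ Z, nb * g * nb⁻¹ ∈ Z
  nb_A : ∀ g ∈ A, nb * g * nb⁻¹ ∈ C
  nb_C : ∀ g ∈ C, nb * g * nb⁻¹ ∈ A
  t_nb : E.t * nb = nb * E.t
  nb_sq : nb * nb = 1
  nb_a : ∀ x, nb * E.xa x * nb⁻¹ = E.xc x
  nb_c : ∀ x, nb * E.xc x * nb⁻¹ = E.xa x
  nb_T : ∀ g, g ∈ E.T ↔ nb * g * nb⁻¹ ∈ E.T
  nb_b : nb * E.xb 1 * nb = E.xb 1 * nb * E.xb 1

/-! ### General facts on `Root` -/

section Root

variable {E : WEnv B G} {M : Type*} {x : M → G} {R : Subgroup G}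

theorem r_t_conj (h : Root E x R) {g : G} {c : M} (hg : g ∈ R) (hc : g * E.t * g⁻¹ = x c * E.t) :
    E.t * g * E.t⁻¹ = g * x c := by
  have h1 : g⁻¹ = g := WEnv.inv_of_sq (h.sq g hg)
  rw [h1] at hc
  have h2 : g * (g * E.t * g) = E.t * g := by
    rw [← mul_assoc, ← mul_assoc, h.sq g hg, one_mul]
  rw [← h2, hc]; group

theorem r_comm (h : Root E x R) {g k : G} (hg : g ∈ R) (hk : k ∈ R) : Commute g k := by
  have h1 := h.sq _ (R.mul_mem hg hk)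
  have h2 := h.sq _ hg
  have h3 := h.sq _ hk
  have h4 : g * (g * k * (g * k)) * k = k * g := by
    calc g * (g * k * (g * k)) * k = (g * g) * k * g * (k * k) := by group
      _ = k * g := by rw [h2, h3, one_mul, mul_one]
  rw [h1, mul_one] at h4
  exact h4

/-- an element of the torus commuting with the root group commutes with the grown root group. -/
theorem r_T_comm (h : Root E x R) {g : G} (hg : g ∈ E.T) (hx : ∀ c, g * x c = x c * g)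
    {r : G} (hr : r ∈ R) : Commute g r := by
  obtain ⟨c, hc⟩ := h.conj_t r hr
  have ht := E.T_t g hg
  have h1 : (g * r * g⁻¹) * E.t * (g * r * g⁻¹)⁻¹ = x c * E.t := by
    calc (g * r * g⁻¹) * E.t * (g * r * g⁻¹)⁻¹ = g * r * (g⁻¹ * E.t * g) * r⁻¹ * g⁻¹ := by group
      _ = g * (r * E.t * r⁻¹) * g⁻¹ := by
          rw [mul_assoc g⁻¹, ht]; group
      _ = (g * x c * g⁻¹) * (g * E.t * g⁻¹) := by rw [hc]; group
      _ = x c * E.t := by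
          rw [hx, ← ht]; group
  have hr' := h.conj_T g hg r hr
  have h2 : (g * r * g⁻¹ * r⁻¹) * E.t = E.t * (g * r * g⁻¹ * r⁻¹) := by
    have h3 : r * E.t = x c * E.t * r := WEnv.conj_eq_iff.1 hc
    have h4 : (g * r * g⁻¹) * E.t = x c * E.t * (g * r * g⁻¹) := WEnv.conj_eq_iff.1 h1
    have h5 : r⁻¹ * (x c * E.t) = E.t * r⁻¹ := by
      rw [inv_mul_eq_iff_eq_mul, ← mul_assoc, h3]; group
    have h6 : (x c * E.t)⁻¹ * (g * r * g⁻¹) = (g * r * g⁻¹) * E.t⁻¹ := by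
      rw [inv_mul_eq_iff_eq_mul, ← mul_assoc, ← h4]; group
    have h7 : E.t * r⁻¹ * (x c * E.t)⁻¹ = r⁻¹ := by rw [← h5]; group
    -- commute with the product
    have h8 : (g * r * g⁻¹) * r = r * (g * r * g⁻¹) := r_comm h hr' hr
    have h9 : (g * r * g⁻¹) * r⁻¹ = r⁻¹ * (g * r * g⁻¹) :=
      (show Commute (g * r * g⁻¹) r from h8).inv_right.eq
    calc (g * r * g⁻¹ * r⁻¹) * E.t = r⁻¹ * ((g * r * g⁻¹) * E.t) := by rw [h9, mul_assoc]
      _ = r⁻¹ * (x c * E.t) * (g * r * g⁻¹) := by rw [h4]; group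
      _ = E.t * (r⁻¹ * (g * r * g⁻¹)) := by rw [h5, mul_assoc]
      _ = _ := by rw [← h9]
  obtain ⟨c', hc'⟩ := h.cent _ (R.mul_mem hr' (R.inv_mem hr)) h2
  have h3 : g * r * g⁻¹ = x c' * r := by rw [← hc']; group
  obtain ⟨m, hm, hgm⟩ := E.T_odd g hg
  have h4 := odd_fix hm hgm h3 (hx c') (h.sq _ (h.mem c'))
  rw [h4, one_mul] at h3
  exact WEnv.conj_eq_iff.1 h3

/-- two elements of the torus acting in the same way on the root group act in the same way on the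
grown root group. -/
theorem r_T_eq (h : Root E x R) {g k : G} (hg : g ∈ E.T) (hk : k ∈ E.T)
    (hx : ∀ c, g * x c * g⁻¹ = k * x c * k⁻¹) {r : G} (hr : r ∈ R) : g * r * g⁻¹ = k * r * k⁻¹ := by
  have h1 : Commute (k⁻¹ * g) r := by
    refine r_T_comm h (E.T.mul_mem (E.T.inv_mem hk) hg) (fun c => ?_) hr
    have := hx c
    calc k⁻¹ * g * x c = k⁻¹ * (g * x c * g⁻¹) * g := by group
      _ = x c * (k⁻¹ * g) := by rw [this]; group
  calc g * r * g⁻¹ = k * ((k⁻¹ * g) * r * (k⁻¹ * g)⁻¹) * k⁻¹ := by group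
    _ = k * r * k⁻¹ := by rw [h1.eq, mul_inv_cancel_right]

/-- two elements with the same image of `t` differ by an element of the root group. -/
theorem r_eq_of (h : Root E x R) {g k : G} {c : M} (hg : g ∈ R) (hk : k ∈ R)
    (h1 : g * E.t * g⁻¹ = x c * E.t) (h2 : k * E.t * k⁻¹ = x c * E.t) : ∃ c', g = x c' * k := by
  have h3 : (k⁻¹ * g) * E.t = E.t * (k⁻¹ * g) := by
    have h4 : g * E.t = x c * E.t * g := WEnv.conj_eq_iff.1 h1
    have h5 : k * E.t = x c * E.t * k := WEnv.conj_eq_iff.1 h2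
    have h6 : k⁻¹ * (x c * E.t) = E.t * k⁻¹ := by
      rw [inv_mul_eq_iff_eq_mul, ← mul_assoc, h5]; group
    calc k⁻¹ * g * E.t = k⁻¹ * (x c * E.t) * g := by rw [mul_assoc, h4]; group
      _ = _ := by rw [h6, mul_assoc]
  obtain ⟨c', hc'⟩ := h.cent _ (R.mul_mem (R.inv_mem hk) hg) h3
  refine ⟨c', ?_⟩
  rw [← hc', (r_comm h (R.inv_mem hk) hg).eq]; group

end Root

variable {E : WEnv B G}

/-! ### Facts on the root groups -/

theorem xa_eq_w {s : F} {v : B.V} (h : E.xa s = E.w v) : s = 0 ∧ v = 0 := by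
  have h1 := E.conj_ma s (0, 0, 1)
  have h2 : E.xa s * E.w (0, 0, 1) * (E.xa s)⁻¹ = E.w (0, 0, 1) := by
    rw [h, E.w_comm, mul_inv_cancel_right]
  have h3 := E.w_injective (h1.symm.trans h2)
  have h4 := congrArg (fun v => v.2.1) h3
  have h5 : s = 0 := by simpa [Bar.ma] using h4
  refine ⟨h5, ?_⟩
  rw [h5, E.xa_zero] at h
  exact E.w_eq_one h.symm

theorem xz_inj {k k' : B.K} (h : E.xz k = E.xz k') : k = k' := by
  rw [← E.w_z, ← E.w_z] at h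
  exact congrArg Prod.fst (E.w_injective h)

theorem xb_inj {k k' : B.K} (h : E.xb k = E.xb k') : k = k' := by
  rw [← E.w_b, ← E.w_b] at h
  exact congrArg (fun v => v.2.2) (E.w_injective h)

theorem xc_inj {k k' : F} (h : E.xc k = E.xc k') : k = k' := by
  rw [← E.w_c, ← E.w_c] at h
  exact congrArg (fun v => v.2.1) (E.w_injective h)

theorem xa_inj {k k' : F} (h : E.xa k = E.xa k') : k = k' := by
  have h1 : E.xa (k + k') = E.w 0 := by rw [E.xa_add, h, E.xa_sq, E.w_zero]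
  have h2 := (xa_eq_w h1).1
  have h3 := Bar.add_self k'
  exact add_right_cancel (h2.trans h3.symm)

namespace AGrown

variable (D : AGrown E)

theorem nb_inv : D.nb⁻¹ = D.nb := WEnv.inv_of_sq D.nb_sq

theorem nb_nb (g : G) : D.nb * (D.nb * g * D.nb⁻¹) * D.nb⁻¹ = g := by
  calc D.nb * (D.nb * g * D.nb⁻¹) * D.nb⁻¹ = (D.nb * D.nb) * g * (D.nb * D.nb)⁻¹ := by group
    _ = g := by rw [D.nb_sq]; group

variable {D}

theorem cZA {r a : G} (hr : r ∈ D.Z) (ha : a ∈ D.A) : Commute r a := D.Z_A r hr a ha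
theorem cZC {r a : G} (hr : r ∈ D.Z) (ha : a ∈ D.C) : Commute r a := D.Z_C r hr a ha
theorem cZB {r a : G} (hr : r ∈ D.Z) (ha : a ∈ D.Bb) : Commute r a := D.Z_B r hr a ha
theorem cCB {r a : G} (hr : r ∈ D.C) (ha : a ∈ D.Bb) : Commute r a := D.C_B r hr a ha
theorem cZZ {r a : G} (hr : r ∈ D.Z) (ha : a ∈ D.Z) : Commute r a := r_comm D.rootZ hr ha
theorem cCC {r a : G} (hr : r ∈ D.C) (ha : a ∈ D.C) : Commute r a := r_comm D.rootC hr ha
theorem cAA {r a : G} (hr : r ∈ D.A) (ha : a ∈ D.A) : Commute r a := r_comm D.rootA hr ha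
theorem cBB {r a : G} (hr : r ∈ D.Bb) (ha : a ∈ D.Bb) : Commute r a := r_comm D.rootB hr ha

theorem xz_mem (k : B.K) : E.xz k ∈ D.Z := D.rootZ.mem k
theorem xc_mem (k : F) : E.xc k ∈ D.C := D.rootC.mem k
theorem xa_mem (k : F) : E.xa k ∈ D.A := D.rootA.mem k
theorem xb_mem (k : B.K) : E.xb k ∈ D.Bb := D.rootB.mem k

/-- the image of `t` under `r c`. -/
theorem zc_t {r c : G} (hr : r ∈ D.Z) (hc : c ∈ D.C) {k : B.K} {y : F}
    (h1 : r * E.t * r⁻¹ = E.xz k * E.t) (h2 : c * E.t * c⁻¹ = E.xc y * E.t) :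
    (r * c) * E.t * (r * c)⁻¹ = E.w (k, y, 0) * E.t := by
  calc (r * c) * E.t * (r * c)⁻¹ = r * (c * E.t * c⁻¹) * r⁻¹ := by group
    _ = r * E.xc y * r⁻¹ * (r * E.t * r⁻¹) := by rw [h2]; group
    _ = E.xc y * (E.xz k * E.t) := by
        rw [(cZC hr (xc_mem y)).eq, mul_inv_cancel_right, h1]
    _ = _ := by
        rw [← mul_assoc, ← E.z_c]
        simp [WEnv.w, E.xb_zero]

theorem ZC_inf {r c : G} (hr : r ∈ D.Z) (hc : c ∈ D.C) (h : r * c = 1) : r = 1 ∧ c = 1 := by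
  obtain ⟨k, hk⟩ := D.rootZ.conj_t r hr
  obtain ⟨y, hy⟩ := D.rootC.conj_t c hc
  have h1 := zc_t hr hc hk hy
  rw [h, one_mul, inv_one, mul_one] at h1
  have h2 : E.w (k, y, 0) = 1 := by
    have := mul_right_cancel ((one_mul E.t).trans h1)
    exact this.symm
  have h3 := E.w_eq_one h2
  have hk0 : k = 0 := congrArg Prod.fst h3
  have hy0 : y = 0 := congrArg (fun v => v.2.1) h3
  rw [hk0, E.xz_zero, one_mul] at hk
  rw [hy0, E.xc_zero, one_mul] at hy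
  obtain ⟨k', hk'⟩ := D.rootZ.cent r hr (WEnv.conj_eq_iff.1 hk)
  obtain ⟨y', hy'⟩ := D.rootC.cent c hc (WEnv.conj_eq_iff.1 hy)
  have h4 : E.w (k', y', 0) = 1 := by
    rw [← h, hk', hy']; simp [WEnv.w, E.xb_zero]
  have h5 := E.w_eq_one h4
  have hk0' : k' = 0 := congrArg Prod.fst h5
  have hy0' : y' = 0 := congrArg (fun v => v.2.1) h5
  rw [hk', hy', hk0', hy0', E.xz_zero, E.xc_zero]
  exact ⟨rfl, rfl⟩

theorem ZC_uniq {r c r' c' : G} (hr : r ∈ D.Z) (hc : c ∈ D.C) (hr' : r' ∈ D.Z) (hc' : c' ∈ D.C)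
    (h : r * c = r' * c') : r = r' ∧ c = c' := by
  have h1 : (r'⁻¹ * r) * (c * c'⁻¹) = 1 := by
    calc (r'⁻¹ * r) * (c * c'⁻¹) = r'⁻¹ * (r * c) * c'⁻¹ := by group
      _ = 1 := by rw [h]; group
  obtain ⟨h2, h3⟩ := ZC_inf (D.Z.mul_mem (D.Z.inv_mem hr') hr) (D.C.mul_mem hc (D.C.inv_mem hc')) h1
  exact ⟨(inv_mul_eq_one.1 h2).symm, mul_inv_eq_one.1 h3⟩

/-- `A ∩ Z C = 1`. -/
theorem A_inf {a r c : G} (ha : a ∈ D.A) (hr : r ∈ D.Z) (hc : c ∈ D.C) (h : a = r * c) : a = 1 := by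
  obtain ⟨s, hs⟩ := D.rootA.conj_t a ha
  obtain ⟨k, hk⟩ := D.rootZ.conj_t r hr
  obtain ⟨y, hy⟩ := D.rootC.conj_t c hc
  have h1 := zc_t hr hc hk hy
  rw [← h, hs] at h1
  obtain ⟨hs0, hv⟩ := xa_eq_w (mul_right_cancel h1)
  rw [hs0, E.xa_zero, one_mul] at hs
  have hk0 : k = 0 := congrArg Prod.fst hv
  have hy0 : y = 0 := congrArg (fun v => v.2.1) hv
  rw [hk0, E.xz_zero, one_mul] at hk
  rw [hy0, E.xc_zero, one_mul] at hy
  obtain ⟨k', hk'⟩ := D.rootZ.cent r hr (WEnv.conj_eq_iff.1 hk)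
  obtain ⟨y', hy'⟩ := D.rootC.cent c hc (WEnv.conj_eq_iff.1 hy)
  obtain ⟨s', hs'⟩ := D.rootA.cent a ha (WEnv.conj_eq_iff.1 hs)
  have h4 : E.xa s' = E.w (k', y', 0) := by
    rw [← hs', h, hk', hy']; simp [WEnv.w, E.xb_zero]
  rw [hs', (xa_eq_w h4).1, E.xa_zero]

/-! ### The commutator map `th : A × B → C` -/

open Classical in
variable (D) in
/-- the `C`-component of `[a, b]`. -/
noncomputable def th (a b : G) : G :=
  if h : ∃ c ∈ D.C, ∃ r ∈ D.Z, a * b * a⁻¹ = r * c * b then h.choose else 1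

theorem th_eq {a b c r : G} (hc : c ∈ D.C) (hr : r ∈ D.Z) (h : a * b * a⁻¹ = r * c * b) :
    D.th a b = c := by
  have h0 : ∃ c ∈ D.C, ∃ r ∈ D.Z, a * b * a⁻¹ = r * c * b := ⟨c, hc, r, hr, h⟩
  rw [th, dif_pos h0]
  obtain ⟨h1, r', hr', h2⟩ := h0.choose_spec
  exact (ZC_uniq hr hc hr' h1 (mul_right_cancel (h.symm.trans h2))).2.symm

theorem th_spec {a b : G} (ha : a ∈ D.A) (hb : b ∈ D.Bb) :
    D.th a b ∈ D.C ∧ ∃ r ∈ D.Z, a * b * a⁻¹ = r * D.th a b * b := by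
  obtain ⟨r, hr, c, hc, h⟩ := D.A_B a ha b hb
  rw [th_eq hc hr h]
  exact ⟨hc, r, hr, h⟩

theorem th_mem {a b : G} (ha : a ∈ D.A) (hb : b ∈ D.Bb) : D.th a b ∈ D.C := (th_spec ha hb).1

theorem th_mul_left {a a' b : G} (ha : a ∈ D.A) (ha' : a' ∈ D.A) (hb : b ∈ D.Bb) :
    D.th (a * a') b = D.th a b * D.th a' b := by
  obtain ⟨hc, r, hr, h⟩ := th_spec ha hb
  obtain ⟨hc', r', hr', h'⟩ := th_spec ha' hb
  obtain ⟨r'', hr'', h''⟩ := D.A_C a ha _ hc'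
  refine th_eq (D.C.mul_mem hc hc') (D.Z.mul_mem (D.Z.mul_mem hr' hr'') hr) ?_
  calc (a * a') * b * (a * a')⁻¹ = a * (a' * b * a'⁻¹) * a⁻¹ := by group
    _ = (a * r' * a⁻¹) * (a * D.th a' b * a⁻¹) * (a * b * a⁻¹) := by rw [h']; group
    _ = r' * (r'' * D.th a' b) * (r * D.th a b * b) := by
        rw [← (cZA hr' ha).eq, mul_inv_cancel_right, h'', h]
    _ = r' * r'' * (D.th a' b * r) * D.th a b * b := by group
    _ = r' * r'' * r * (D.th a' b * D.th a b) * b := by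
        rw [← (cZC hr hc').eq]; group
    _ = _ := by rw [(cCC hc' hc).eq]

theorem th_mul_right {a b b' : G} (ha : a ∈ D.A) (hb : b ∈ D.Bb) (hb' : b' ∈ D.Bb) :
    D.th a (b * b') = D.th a b * D.th a b' := by
  obtain ⟨hc, r, hr, h⟩ := th_spec ha hb
  obtain ⟨hc', r', hr', h'⟩ := th_spec ha hb'
  refine th_eq (D.C.mul_mem hc hc') (D.Z.mul_mem hr hr') ?_
  calc a * (b * b') * a⁻¹ = (a * b * a⁻¹) * (a * b' * a⁻¹) := by group
    _ = r * D.th a b * (b * r') * D.th a b' * b' := by rw [h, h']; group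
    _ = r * (D.th a b * r') * (b * D.th a b') * b' := by rw [← (cZB hr' hb).eq]; group
    _ = r * r' * (D.th a b * D.th a b') * (b * b') := by
        rw [← (cCB hc' hb).eq, ← (cZC hr' hc).eq]; group

theorem th_conj {n a b : G} (ha : a ∈ D.A) (hb : b ∈ D.Bb) (hZ : ∀ r ∈ D.Z, n * r * n⁻¹ ∈ D.Z)
    (hC : ∀ r ∈ D.C, n * r * n⁻¹ ∈ D.C) :
    D.th (n * a * n⁻¹) (n * b * n⁻¹) = n * D.th a b * n⁻¹ := by
  obtain ⟨hc, r, hr, h⟩ := th_spec ha hb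
  refine th_eq (hC _ hc) (hZ r hr) ?_
  calc n * a * n⁻¹ * (n * b * n⁻¹) * (n * a * n⁻¹)⁻¹ = n * (a * b * a⁻¹) * n⁻¹ := by group
    _ = _ := by rw [h]; group

theorem th_T {g a b : G} (hg : g ∈ E.T) (ha : a ∈ D.A) (hb : b ∈ D.Bb) :
    D.th (g * a * g⁻¹) (g * b * g⁻¹) = g * D.th a b * g⁻¹ :=
  th_conj ha hb (D.rootZ.conj_T g hg) (D.rootC.conj_T g hg)

theorem t_Z {r : G} (hr : r ∈ D.Z) : E.t * r * E.t⁻¹ ∈ D.Z := by
  obtain ⟨c, hc⟩ := D.rootZ.conj_t r hr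
  rw [r_t_conj D.rootZ hr hc]
  exact D.Z.mul_mem hr (xz_mem c)

theorem t_C {r : G} (hr : r ∈ D.C) : E.t * r * E.t⁻¹ ∈ D.C := by
  obtain ⟨c, hc⟩ := D.rootC.conj_t r hr
  rw [r_t_conj D.rootC hr hc]
  exact D.C.mul_mem hr (xc_mem c)

theorem t_A {r : G} (hr : r ∈ D.A) : E.t * r * E.t⁻¹ ∈ D.A := by
  obtain ⟨c, hc⟩ := D.rootA.conj_t r hr
  rw [r_t_conj D.rootA hr hc]
  exact D.A.mul_mem hr (xa_mem c)

theorem t_B {r : G} (hr : r ∈ D.Bb) : E.t * r * E.t⁻¹ ∈ D.Bb := by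
  obtain ⟨c, hc⟩ := D.rootB.conj_t r hr
  rw [r_t_conj D.rootB hr hc]
  exact D.Bb.mul_mem hr (xb_mem c)

theorem th_t {a b : G} (ha : a ∈ D.A) (hb : b ∈ D.Bb) :
    D.th (E.t * a * E.t⁻¹) (E.t * b * E.t⁻¹) = E.t * D.th a b * E.t⁻¹ :=
  th_conj ha hb (fun _ => t_Z) (fun _ => t_C)

theorem th_xa_xb (s : F) (k : B.K) : D.th (E.xa s) (E.xb k) = E.xc (s * k) :=
  th_eq (xc_mem _) (xz_mem _) (E.a_b s k)

/-- the basic relation: `th a xb(1) = nb a nb⁻¹`. -/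
theorem th_one {a : G} (ha : a ∈ D.A) : D.th a (E.xb 1) = D.nb * a * D.nb⁻¹ := by
  set x := E.xb 1 with hx
  have hxB : x ∈ D.Bb := xb_mem 1
  have hxx : x * x = 1 := E.xb_sq 1
  have hxi : x⁻¹ = x := WEnv.inv_of_sq hxx
  set n := D.nb with hn
  have hnn : n * n = 1 := D.nb_sq
  have hni : n⁻¹ = n := D.nb_inv
  -- `x a x⁻¹ = c r a`
  have key : ∀ a ∈ D.A, ∃ c ∈ D.C, ∃ r ∈ D.Z, c = D.th a x ∧ x * a * x⁻¹ = c * r * a := by
    intro a ha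
    obtain ⟨hc, r, hr, h⟩ := th_spec ha hxB
    refine ⟨_, hc, r, hr, rfl, ?_⟩
    have hai : a⁻¹ = a := WEnv.inv_of_sq (D.rootA.sq a ha)
    have hci : (D.th a x)⁻¹ = D.th a x := WEnv.inv_of_sq (D.rootC.sq _ hc)
    have hri : r⁻¹ = r := WEnv.inv_of_sq (D.rootZ.sq _ hr)
    have h1 : a * x * a⁻¹ * x⁻¹ = r * D.th a x := by rw [h]; group
    have h2 : x * a * x⁻¹ = (a * x * a⁻¹ * x⁻¹)⁻¹ * a := by group
    rw [h2, h1, mul_inv_rev, hci, hri]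
  obtain ⟨c, hc, r, hr, hcd, h1⟩ := key a ha
  have ha1 : n * c * n⁻¹ ∈ D.A := D.nb_C c hc
  obtain ⟨c2, hc2, r2, hr2, -, h2⟩ := key _ ha1
  have hc0 : n * a * n⁻¹ ∈ D.C := D.nb_A a ha
  have hr' : n * r * n⁻¹ ∈ D.Z := D.nb_Z r hr
  have e1 : (x * n * x) * a * (x * n * x)⁻¹ =
      c2 * r2 * (n * c * n⁻¹) * (n * r * n⁻¹) * (n * a * n⁻¹) := by
    have f1 : x * (n * r * n⁻¹) * x⁻¹ = n * r * n⁻¹ := by
      rw [← (cZB hr' hxB).eq, mul_inv_cancel_right]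
    have f2 : x * (n * a * n⁻¹) * x⁻¹ = n * a * n⁻¹ := by
      rw [← (cCB hc0 hxB).eq, mul_inv_cancel_right]
    calc (x * n * x) * a * (x * n * x)⁻¹ = x * n * (x * a * x⁻¹) * n⁻¹ * x⁻¹ := by group
      _ = (x * (n * c * n⁻¹) * x⁻¹) * (x * (n * r * n⁻¹) * x⁻¹) * (x * (n * a * n⁻¹) * x⁻¹) := by
          rw [h1]; group
      _ = _ := by rw [h2, f1, f2]
  have e2 : (n * x * n) * a * (n * x * n)⁻¹ = a := by
    have f2 : x * (n * a * n⁻¹) * x⁻¹ = n * a * n⁻¹ := by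
      rw [← (cCB hc0 hxB).eq, mul_inv_cancel_right]
    calc (n * x * n) * a * (n * x * n)⁻¹ = n * (x * (n * a * n⁻¹) * x⁻¹) * n⁻¹ := by group
      _ = (n * n) * a * (n * n)⁻¹ := by rw [f2]; group
      _ = a := by rw [hnn]; group
  have hrel : n * x * n = x * n * x := D.nb_b
  rw [hrel, e1] at e2
  -- `a = c2 r2 a1 r' c0`
  obtain ⟨r3, hr3, h3⟩ := D.A_C _ ha1 _ hc0
  have e3 : a * (n * c * n⁻¹)⁻¹ = (r2 * (n * r * n⁻¹) * r3) * (c2 * (n * a * n⁻¹)) := by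
    calc a * (n * c * n⁻¹)⁻¹
        = c2 * r2 * (n * c * n⁻¹) * (n * r * n⁻¹) * (n * a * n⁻¹) * (n * c * n⁻¹)⁻¹ := by rw [e2]
      _ = c2 * r2 * ((n * c * n⁻¹) * (n * r * n⁻¹)) * (n * a * n⁻¹) * (n * c * n⁻¹)⁻¹ := by
          simp only [mul_assoc]
      _ = c2 * r2 * ((n * r * n⁻¹) * (n * c * n⁻¹)) * (n * a * n⁻¹) * (n * c * n⁻¹)⁻¹ := by
          rw [(cZA hr' ha1).eq]
      _ = c2 * (r2 * (n * r * n⁻¹)) * ((n * c * n⁻¹) * (n * a * n⁻¹) * (n * c * n⁻¹)⁻¹) := by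
          simp only [mul_assoc]
      _ = (c2 * (r2 * (n * r * n⁻¹) * r3)) * (n * a * n⁻¹) := by rw [h3]; simp only [mul_assoc]
      _ = _ := by
          rw [← (cZC (D.Z.mul_mem (D.Z.mul_mem hr2 hr') hr3) hc2).eq]; simp only [mul_assoc]
  have e4 := A_inf (D.A.mul_mem ha (D.A.inv_mem ha1)) (D.Z.mul_mem (D.Z.mul_mem hr2 hr') hr3)
    (D.C.mul_mem hc2 hc0) e3
  have e5 : a = n * c * n⁻¹ := mul_inv_eq_one.1 e4
  rw [← hcd, e5]
  calc c = (n * n) * c * (n * n)⁻¹ := by rw [hnn]; group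
    _ = n * (n * c * n⁻¹) * n⁻¹ := by group

end AGrown

end Cfsg.Agent.StdRank2.SC
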