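import Cfsg.Agent.StdRank2.UFour.Field

/-!
# Bilinear maps `F × F → F` over the fixed field

`bil`: a `K`-bilinear map is `c₁ x y + c₂ x̄ y + c₃ x ȳ + c₄ x̄ ȳ`; `bil_zero`, `bil_one`: equivariance kills all but one
term.  `exists_norm`: a norm one element `a` with `a³ ≠ 1`.
-/

set_option autoImplicit false
set_option linter.unusedSectionVars false

namespace Cfsg.Agent.StdRank2.SC

open Cfsg.Agent.StdRank2.UFour

variable {F : Type*} [Field F] [CharP F 2] (B : Bar F)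

theorem tr_ne {θ : F} (h : B.s θ ≠ θ) : θ + B.s θ ≠ 0 := by
  intro h1
  apply h
  have := Bar.add_self θ
  linear_combination h1 - this

/-- decomposition over `K`. -/
theorem dec {θ : F} (h : B.s θ ≠ θ) (x : F) : ∃ k l : B.K, x = (k : F) + (l : F) * θ := by
  have ht := tr_ne B h
  have hl : B.s ((x + B.s x) * (θ + B.s θ)⁻¹) = (x + B.s x) * (θ + B.s θ)⁻¹ := by
    rw [map_mul, map_inv₀, map_add, map_add, B.invol, B.invol, add_comm (B.s x), add_comm (B.s θ)]
  have hk : B.s (x + (x + B.s x) * (θ + B.s θ)⁻¹ * θ) = x + (x + B.s x) * (θ + B.s θ)⁻¹ * θ := by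
    rw [map_add, map_mul, hl]
    have h1 : (x + B.s x) * (θ + B.s θ)⁻¹ * (θ + B.s θ) = x + B.s x := by
      rw [mul_assoc, inv_mul_cancel₀ ht, mul_one]
    have h2 := Bar.add_self ((x + B.s x) * (θ + B.s θ)⁻¹ * θ)
    have h3 := Bar.add_self (B.s x)
    linear_combination h1 - h2 + h3
  refine ⟨⟨_, hk⟩, ⟨_, hl⟩, ?_⟩
  change x = x + (x + B.s x) * (θ + B.s θ)⁻¹ * θ + (x + B.s x) * (θ + B.s θ)⁻¹ * θ
  have h2 := Bar.add_self ((x + B.s x) * (θ + B.s θ)⁻¹ * θ)
  linear_combination -h2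

/-- linear maps. -/
theorem lin (B : Bar F) {f : F → F} (hadd : ∀ x y, f (x + y) = f x + f y)
    (hk : ∀ (k : B.K) x, f ((k : F) * x) = (k : F) * f x) {θ : F} (h : B.s θ ≠ θ) (x : F) :
    f x = (f 1 + (f θ + θ * f 1) * (θ + B.s θ)⁻¹) * x + (f θ + θ * f 1) * (θ + B.s θ)⁻¹ * B.s x := by
  have ht := tr_ne B h
  obtain ⟨k, l, rfl⟩ := dec B h x
  have h1 : f (k : F) = (k : F) * f 1 := by rw [← hk, mul_one]
  rw [hadd, hk, h1, map_add, map_mul, B.s_K, B.s_K]
  set q := (f θ + θ * f 1) * (θ + B.s θ)⁻¹ with hq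
  have h2 : q * (θ + B.s θ) = f θ + θ * f 1 := by
    rw [hq, mul_assoc, inv_mul_cancel₀ ht, mul_one]
  have h3 := Bar.add_self (q * (k : F))
  have h4 := Bar.add_self ((l : F) * θ * f 1)
  linear_combination -(l : F) * h2 - h3 - h4

theorem lin_zero {p q : F} (h : ∀ x, p * x + q * B.s x = 0) : p = 0 ∧ q = 0 := by
  obtain ⟨θ, hθ⟩ := B.ne
  have h1 := h 1
  rw [map_one, mul_one, mul_one] at h1
  have h2 : q = p := by
    have := Bar.add_self p
    linear_combination h1 - this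
  have h3 := h θ
  rw [h2] at h3
  have h4 : p * (θ + B.s θ) = 0 := by rw [mul_add]; exact h3
  have h5 : p = 0 := (mul_eq_zero.1 h4).resolve_right (tr_ne B hθ)
  exact ⟨h5, by rw [h2, h5]⟩

/-- bilinear maps. -/
theorem bil {g : F → F → F} (ha : ∀ x x' y, g (x + x') y = g x y + g x' y)
    (hb : ∀ x y y', g x (y + y') = g x y + g x y')
    (hk1 : ∀ (k : B.K) x y, g ((k : F) * x) y = (k : F) * g x y)
    (hk2 : ∀ (k : B.K) x y, g x ((k : F) * y) = (k : F) * g x y) :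
    ∃ c1 c2 c3 c4 : F, ∀ x y, g x y = c1 * x * y + c2 * B.s x * y + c3 * x * B.s y + c4 * B.s x * B.s y := by
  obtain ⟨θ, hθ⟩ := B.ne
  set d := (θ + B.s θ)⁻¹ with hd
  have h1 : ∀ x y, g x y = (g x 1 + (g x θ + θ * g x 1) * d) * y + (g x θ + θ * g x 1) * d * B.s y :=
    fun x y => lin B (f := g x) (hb x) (fun k y => hk2 k x y) hθ y
  have h2 : ∀ x, g x 1 = (g 1 1 + (g θ 1 + θ * g 1 1) * d) * x + (g θ 1 + θ * g 1 1) * d * B.s x :=
    fun x => lin B (f := fun x => g x 1) (fun x y => ha x y 1) (fun k x => hk1 k x 1) hθ x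
  have h3 : ∀ x, g x θ = (g 1 θ + (g θ θ + θ * g 1 θ) * d) * x + (g θ θ + θ * g 1 θ) * d * B.s x :=
    fun x => lin B (f := fun x => g x θ) (fun x y => ha x y θ) (fun k x => hk1 k x θ) hθ x
  refine ⟨(g 1 1 + (g θ 1 + θ * g 1 1) * d) + ((g 1 θ + (g θ θ + θ * g 1 θ) * d) +
      θ * (g 1 1 + (g θ 1 + θ * g 1 1) * d)) * d,
    ((g θ 1 + θ * g 1 1) * d) + ((g θ θ + θ * g 1 θ) * d + θ * ((g θ 1 + θ * g 1 1) * d)) * d,
    ((g 1 θ + (g θ θ + θ * g 1 θ) * d) + θ * (g 1 1 + (g θ 1 + θ * g 1 1) * d)) * d,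
    ((g θ θ + θ * g 1 θ) * d + θ * ((g θ 1 + θ * g 1 1) * d)) * d, fun x y => ?_⟩
  rw [h1 x y, h2 x, h3 x]
  ring

theorem bil_uniq {c1 c2 c3 c4 : F}
    (h : ∀ x y, c1 * x * y + c2 * B.s x * y + c3 * x * B.s y + c4 * B.s x * B.s y = 0) :
    c1 = 0 ∧ c2 = 0 ∧ c3 = 0 ∧ c4 = 0 := by
  have h1 : ∀ y, c1 * y + c3 * B.s y = 0 ∧ c2 * y + c4 * B.s y = 0 := by
    intro y
    refine lin_zero B (fun x => ?_)
    linear_combination h x y
  obtain ⟨h2, h3⟩ := lin_zero B (fun y => (h1 y).1)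
  obtain ⟨h4, h5⟩ := lin_zero B (fun y => (h1 y).2)
  exact ⟨h2, h4, h3, h5⟩

/-- equivariance: only `x̄ y` survives. -/
theorem bil_one {g : F → F → F} (ha : ∀ x x' y, g (x + x') y = g x y + g x' y)
    (hb : ∀ x y y', g x (y + y') = g x y + g x y')
    (hk1 : ∀ (k : B.K) x y, g ((k : F) * x) y = (k : F) * g x y)
    (hk2 : ∀ (k : B.K) x y, g x ((k : F) * y) = (k : F) * g x y)
    {l m n : F} (hn : ∀ x y, g (l * x) (m * y) = n * g x y) (h1 : l * m ≠ n)
    (h3 : l * B.s m ≠ n) (h4 : B.s l * B.s m ≠ n) (x y : F) :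
    g x y = g 1 1 * B.s x * y := by
  obtain ⟨c1, c2, c3, c4, hc⟩ := bil B ha hb hk1 hk2
  have key : ∀ x y, c1 * (l * m - n) * x * y + c2 * (B.s l * m - n) * B.s x * y +
      c3 * (l * B.s m - n) * x * B.s y + c4 * (B.s l * B.s m - n) * B.s x * B.s y = 0 := by
    intro x y
    have h5 := hn x y
    rw [hc, hc, map_mul, map_mul] at h5
    linear_combination h5
  obtain ⟨e1, -, e3, e4⟩ := bil_uniq B key
  have f1 : c1 = 0 := (mul_eq_zero.1 e1).resolve_right (sub_ne_zero.2 h1)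
  have f3 : c3 = 0 := (mul_eq_zero.1 e3).resolve_right (sub_ne_zero.2 h3)
  have f4 : c4 = 0 := (mul_eq_zero.1 e4).resolve_right (sub_ne_zero.2 h4)
  rw [hc x y, hc 1 1, f1, f3, f4, map_one]; ring

/-- equivariance: nothing survives. -/
theorem bil_zero {g : F → F → F} (ha : ∀ x x' y, g (x + x') y = g x y + g x' y)
    (hb : ∀ x y y', g x (y + y') = g x y + g x y')
    (hk1 : ∀ (k : B.K) x y, g ((k : F) * x) y = (k : F) * g x y)
    (hk2 : ∀ (k : B.K) x y, g x ((k : F) * y) = (k : F) * g x y)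
    {l m n : F} (hn : ∀ x y, g (l * x) (m * y) = n * g x y) (h1 : l * m ≠ n) (h2 : B.s l * m ≠ n)
    (h3 : l * B.s m ≠ n) (h4 : B.s l * B.s m ≠ n) (x y : F) : g x y = 0 := by
  have h5 := bil_one B ha hb hk1 hk2 hn h1 h3 h4
  have h6 := hn 1 1
  rw [h5 (l * 1) (m * 1), mul_one, mul_one] at h6
  have h7 : g 1 1 * (B.s l * m - n) = 0 := by linear_combination h6
  have h8 : g 1 1 = 0 := (mul_eq_zero.1 h7).resolve_right (sub_ne_zero.2 h2)
  rw [h5 x y, h8]; ring

/-- a norm one element with `a³ ≠ 1`. -/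
theorem exists_norm {lam : B.K} (h0 : lam ≠ 0) (h1 : lam ≠ 1) :
    ∃ a : Fˣ, B.nm (a : F) = 1 ∧ (a : F) ^ 3 ≠ 1 := by
  by_contra hcon
  push Not at hcon
  -- `x³ ∈ K` for all `x`
  have h2 : ∀ x : F, B.s (x ^ 3) = x ^ 3 := by
    intro x
    by_cases hx : x = 0
    · rw [hx]; simp
    · have hs : B.s x ≠ 0 := (map_ne_zero_iff B.s B.s.injective).2 hx
      have h3 := hcon (Units.mk0 (x / B.s x) (div_ne_zero hx hs)) (by
        apply Subtype.ext
        change x / B.s x * B.s (x / B.s x) = 1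
        rw [map_div₀, B.invol]; field_simp)
      rw [Units.val_mk0, div_pow, div_eq_one_iff_eq (pow_ne_zero _ hs)] at h3
      rw [map_pow, h3]
  obtain ⟨y, hy⟩ := B.ne
  apply hy
  -- `k y² + k² y ∈ K`
  have h3 : ∀ k : B.K, B.s ((k : F) * y ^ 2 + (k : F) ^ 2 * y) = (k : F) * y ^ 2 + (k : F) ^ 2 * y := by
    intro k
    have e1 := h2 (y + k)
    have e2 := h2 y
    have e3 : B.s ((k : F) ^ 3) = (k : F) ^ 3 := by rw [map_pow, B.s_K]
    have e4 : (k : F) * y ^ 2 + (k : F) ^ 2 * y = (y + k) ^ 3 + y ^ 3 + (k : F) ^ 3 := by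
      have := Bar.add_self ((k : F) * y ^ 2 + (k : F) ^ 2 * y + y ^ 3 + (k : F) ^ 3)
      linear_combination -this
    rw [e4, map_add, map_add, e1, e2, e3]
  have h4 := h3 1
  have h5 := h3 lam
  rw [map_add, map_mul, map_mul, map_pow, map_pow, B.s_K] at h4 h5
  have hne : ((lam : F)) * (1 + lam) ≠ 0 := by
    refine mul_ne_zero ?_ ?_
    · intro h; exact h0 (Subtype.ext h)
    · intro h
      apply h1
      apply Subtype.ext
      change (lam : F) = 1
      have := Bar.add_self (1 : F)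
      linear_combination h - this
  have h6 : (lam : F) * (1 + lam) * (B.s y) = (lam : F) * (1 + lam) * y := by
    have e : ((1 : B.K) : F) = 1 := rfl
    rw [e] at h4
    have h7 := Bar.add_self ((lam : F) * (B.s y) + (lam : F) * y)
    linear_combination h5 - (lam : F) * h4 + (lam : F) * Bar.add_self (B.s y) - (lam : F) * Bar.add_self y
  exact mul_left_cancel₀ hne h6

/-- a derivation of a perfect field of characteristic 2 vanishes. -/
theorem der_zero [Finite F] {δ : B.K → F} (hmul : ∀ x y : B.K, δ (x * y) = (y : F) * δ x + (x : F) * δ y) (x : B.K) : δ x = 0 := by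
  have h1 : Function.Injective (fun x : B.K => x * x) := by
    intro x y h
    have h2 : (x + y) * (x + y) = 0 := by
      have e1 := B.K_add_self (x * y)
      have e2 := B.K_add_self (y * y)
      have e3 : x * x = y * y := h
      linear_combination e3 + e1 + e2
    have h3 : x + y = 0 := mul_self_eq_zero.1 h2
    have h4 := B.K_add_self y
    exact add_right_cancel (h3.trans h4.symm)
  have h2 : Function.Surjective (fun x : B.K => x * x) := Finite.surjective_of_injective h1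
  obtain ⟨y, rfl⟩ := h2 x
  change δ (y * y) = 0
  rw [hmul]
  exact Bar.add_self _

end Cfsg.Agent.StdRank2.SC
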