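import Cfsg.Agent.StdRank2.SC.Base

/-!
# Structure constants, II: the operator `e` on `A` and its eigenvectors

`be ∈ B` over `xb 1`, `ee a = nb (th a be) nb⁻¹`, `ea s = ee (xa s)`, so `A = {xa s · ea s'}`,
`ee (ea s) = xa (N s) · ea s`.  `N ∈ K`.
-/

set_option autoImplicit false
set_option linter.unusedSectionVars false

namespace Cfsg.Agent.StdRank2.SC

open Subgroup Cfsg.Agent.StdRank2.UFour

variable {F : Type*} [Field F] [CharP F 2] {B : Bar F} {G : Type*} [Group G]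

/-- `g` is in the torus and acts with the weights `μ` (on `a`), `ν` (on `b`). -/
structure Wt (E : WEnv B G) (g : G) (μ : Fˣ) (ν : B.Kˣ) : Prop where
  mem : g ∈ E.T
  a : ∀ x, g * E.xa x * g⁻¹ = E.xa (μ * x)
  c : ∀ x, g * E.xc x * g⁻¹ = E.xc (μ * ((ν : B.K) : F) * x)
  b : ∀ x, g * E.xb x * g⁻¹ = E.xb (ν * x)
  z : ∀ x, g * E.xz x * g⁻¹ = E.xz (B.nm μ * ν * x)

theorem Wt.h (E : WEnv B G) (μ : Fˣ) (ν : B.Kˣ) : Wt E (E.h μ ν) μ ν :=
  ⟨E.h_mem μ ν, E.h_a μ ν, E.h_c μ ν, E.h_b μ ν, E.h_z μ ν⟩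

theorem exists_Wt {E : WEnv B G} {g : G} (hg : g ∈ E.T) : ∃ μ ν, Wt E g μ ν := by
  obtain ⟨μ, ν, h1, h2, h3, h4⟩ := E.T_act g hg
  exact ⟨μ, ν, hg, h1, h2, h3, h4⟩

variable {E : WEnv B G}

namespace AGrown

variable (D : AGrown E)

theorem exists_be : ∃ g, g ∈ D.Bb ∧ g * E.t * g⁻¹ = E.xb 1 * E.t := by
  obtain ⟨g, hg, h⟩ := D.rootB.onto 1
  exact ⟨g, hg, h⟩

/-- an element of `B` over `xb 1`. -/
noncomputable def be : G := D.exists_be.choose

theorem be_mem : D.be ∈ D.Bb := D.exists_be.choose_spec.1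

theorem be_t : D.be * E.t * D.be⁻¹ = E.xb 1 * E.t := D.exists_be.choose_spec.2

theorem t_be : E.t * D.be * E.t⁻¹ = D.be * E.xb 1 := r_t_conj D.rootB D.be_mem D.be_t

/-- the operator `e` on `A`. -/
noncomputable def ee (a : G) : G := D.nb * D.th a D.be * D.nb⁻¹

variable {D}

theorem ee_mem {a : G} (ha : a ∈ D.A) : D.ee a ∈ D.A := D.nb_C _ (th_mem ha D.be_mem)

theorem ee_mul {a a' : G} (ha : a ∈ D.A) (ha' : a' ∈ D.A) : D.ee (a * a') = D.ee a * D.ee a' := by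
  unfold ee
  rw [th_mul_left ha ha' D.be_mem]; group

theorem th_be (a : G) : D.th a D.be = D.nb * D.ee a * D.nb⁻¹ := (D.nb_nb _).symm

theorem ee_t {a : G} (ha : a ∈ D.A) :
    E.t * D.ee a * E.t⁻¹ = D.ee (E.t * a * E.t⁻¹) * (E.t * a * E.t⁻¹) := by
  have h1 := th_t ha D.be_mem
  rw [D.t_be, th_mul_right (t_A ha) D.be_mem (xb_mem 1), th_one (t_A ha)] at h1
  have ht : E.t * D.nb = D.nb * E.t := D.t_nb
  calc E.t * D.ee a * E.t⁻¹ = (E.t * D.nb) * D.th a D.be * (E.t * D.nb)⁻¹ := by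
        unfold ee; group
    _ = D.nb * (E.t * D.th a D.be * E.t⁻¹) * D.nb⁻¹ := by rw [ht]; group
    _ = (D.nb * D.th (E.t * a * E.t⁻¹) D.be * D.nb⁻¹) *
          (D.nb * (D.nb * (E.t * a * E.t⁻¹) * D.nb⁻¹) * D.nb⁻¹) := by rw [← h1]; group
    _ = _ := by rw [D.nb_nb]; rfl

/-- elements of the torus with `a`-weight `μ` act on `A` in the same way. -/
theorem T_A {g k a : G} (hg : g ∈ E.T) (hk : k ∈ E.T) {μ : F}
    (h1 : ∀ x, g * E.xa x * g⁻¹ = E.xa (μ * x)) (h2 : ∀ x, k * E.xa x * k⁻¹ = E.xa (μ * x))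
    (ha : a ∈ D.A) : g * a * g⁻¹ = k * a * k⁻¹ :=
  r_T_eq D.rootA hg hk (fun c => (h1 c).trans (h2 c).symm) ha

theorem nb_T_a {g : G} {ρ : F} (hc : ∀ x, g * E.xc x * g⁻¹ = E.xc (ρ * x)) (x : F) :
    (D.nb * g * D.nb⁻¹) * E.xa x * (D.nb * g * D.nb⁻¹)⁻¹ = E.xa (ρ * x) := by
  have h1 : D.nb⁻¹ * E.xa x * D.nb = E.xc x := by
    rw [← D.nb_a x, D.nb_inv]
  calc (D.nb * g * D.nb⁻¹) * E.xa x * (D.nb * g * D.nb⁻¹)⁻¹
      = D.nb * (g * (D.nb⁻¹ * E.xa x * D.nb) * g⁻¹) * D.nb⁻¹ := by group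
    _ = _ := by rw [h1, hc, D.nb_c]

theorem ee_T {g a : G} {μ : Fˣ} (hg : Wt E g μ 1) (ha : a ∈ D.A) :
    D.ee (g * a * g⁻¹) = g * D.ee a * g⁻¹ := by
  have h1 : Commute g D.be := r_T_comm D.rootB hg.mem (fun c => by
    have := hg.b c
    rw [Units.val_one, one_mul] at this
    exact WEnv.conj_eq_iff.1 this) D.be_mem
  have h2 : g * D.be * g⁻¹ = D.be := by rw [h1.eq, mul_inv_cancel_right]
  have h3 := th_T hg.mem ha D.be_mem
  rw [h2] at h3
  have h4 : ∀ x, g * E.xc x * g⁻¹ = E.xc ((μ : F) * x) := fun x => by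
    have := hg.c x
    rwa [Units.val_one, B.K.coe_one, mul_one] at this
  calc D.ee (g * a * g⁻¹) = (D.nb * g * D.nb⁻¹) * D.ee a * (D.nb * g * D.nb⁻¹)⁻¹ := by
        unfold ee; rw [h3]; group
    _ = g * D.ee a * g⁻¹ := T_A ((D.nb_T g).1 hg.mem) hg.mem (nb_T_a h4) hg.a (ee_mem ha)

variable (D) in
/-- `ea s = e (xa s)`. -/
noncomputable def ea (s : F) : G := D.ee (E.xa s)

theorem ea_mem (s : F) : D.ea s ∈ D.A := ee_mem (xa_mem s)

theorem ea_add (s s' : F) : D.ea (s + s') = D.ea s * D.ea s' := by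
  unfold ea
  rw [E.xa_add, ee_mul (xa_mem _) (xa_mem _)]

theorem ea_zero : D.ea 0 = 1 := WEnv.hom_zero ea_add

theorem ea_sq (s : F) : D.ea s * D.ea s = 1 := D.rootA.sq _ (ea_mem s)

theorem t_xa (s : F) : E.t * E.xa s * E.t⁻¹ = E.xa s := by rw [E.t_a, mul_inv_cancel_right]

theorem t_ea (s : F) : E.t * D.ea s * E.t⁻¹ = D.ea s * E.xa s := by
  have := ee_t (D := D) (xa_mem (D := D) s)
  rwa [t_xa] at this

theorem ea_t (s : F) : D.ea s * E.t * (D.ea s)⁻¹ = E.xa s * E.t := by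
  rw [WEnv.inv_of_sq (ea_sq s)]
  calc D.ea s * E.t * D.ea s = D.ea s * (E.t * D.ea s * E.t⁻¹) * E.t := by group
    _ = (D.ea s * D.ea s) * E.xa s * E.t := by rw [t_ea]; group
    _ = _ := by rw [ea_sq, one_mul]

theorem ea_T {g : G} (hg : g ∈ E.T) {μ : F} (h1 : ∀ x, g * E.xa x * g⁻¹ = E.xa (μ * x)) (s : F) :
    g * D.ea s * g⁻¹ = D.ea (μ * s) := by
  by_cases hμ : μ = 0
  · exfalso
    have h2 := h1 1
    rw [hμ, zero_mul, E.xa_zero] at h2
    have h3 : E.xa 1 = E.xa 0 := by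
      rw [E.xa_zero]
      have := mul_inv_eq_one.1 h2
      exact mul_eq_left.1 this
    exact one_ne_zero (xa_inj h3)
  · have hw := Wt.h E (Units.mk0 μ hμ) 1
    rw [T_A hg hw.mem h1 hw.a (ea_mem s), ea, ← ee_T hw (xa_mem s), hw.a]
    rfl

/-- normal form in `A`. -/
theorem A_form {a : G} (ha : a ∈ D.A) : ∃ s s', a = E.xa s * D.ea s' := by
  obtain ⟨s', hs'⟩ := D.rootA.conj_t a ha
  obtain ⟨s, hs⟩ := r_eq_of D.rootA ha (ea_mem s') hs' (ea_t s')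
  exact ⟨s, s', hs⟩

theorem form_t (s s' : F) : (E.xa s * D.ea s') * E.t * (E.xa s * D.ea s')⁻¹ = E.xa s' * E.t := by
  calc (E.xa s * D.ea s') * E.t * (E.xa s * D.ea s')⁻¹
      = E.xa s * (D.ea s' * E.t * (D.ea s')⁻¹) * (E.xa s)⁻¹ := by group
    _ = E.xa s * (E.xa s' * E.t) * (E.xa s)⁻¹ := by rw [ea_t]
    _ = E.xa s' * (E.xa s * E.t) * (E.xa s)⁻¹ := by
        rw [← mul_assoc, ← E.xa_add, add_comm, E.xa_add]; group
    _ = _ := by rw [← E.t_a]; group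

theorem A_uniq {s s' u u' : F} (h : E.xa s * D.ea s' = E.xa u * D.ea u') : s = u ∧ s' = u' := by
  have h1 := form_t (D := D) s s'
  rw [h, form_t] at h1
  have h2 := xa_inj (mul_right_cancel h1)
  rw [h2] at h
  exact ⟨xa_inj (mul_right_cancel h), h2.symm⟩

theorem exists_N : ∃ N : F, D.ee (D.ea 1) = E.xa N * D.ea 1 := by
  obtain ⟨N, v, h⟩ := A_form (ee_mem (ea_mem (D := D) 1))
  have h1 := ee_t (D := D) (ea_mem 1)
  rw [t_ea, ee_mul (ea_mem 1) (xa_mem 1)] at h1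
  have h2 : D.ee (D.ea 1) * D.ee (E.xa 1) * (D.ea 1 * E.xa 1) = D.ee (D.ea 1) * E.xa 1 := by
    calc D.ee (D.ea 1) * D.ee (E.xa 1) * (D.ea 1 * E.xa 1)
        = D.ee (D.ea 1) * (D.ea 1 * D.ea 1) * E.xa 1 := by
          rw [show D.ee (E.xa 1) = D.ea 1 from rfl]; group
      _ = _ := by rw [ea_sq, mul_one]
  rw [h2] at h1
  have h3 : E.t * D.ee (D.ea 1) * E.t⁻¹ = D.ee (D.ea 1) * E.xa v := by
    rw [h]
    calc E.t * (E.xa N * D.ea v) * E.t⁻¹ = (E.t * E.xa N * E.t⁻¹) * (E.t * D.ea v * E.t⁻¹) := by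
          group
      _ = _ := by rw [t_xa, t_ea, mul_assoc]
  have h4 : v = 1 := xa_inj (mul_left_cancel (h3.symm.trans h1))
  exact ⟨N, by rw [h, h4]⟩

variable (D) in
/-- `e² = e + N`. -/
noncomputable def N : F := D.exists_N.choose

theorem ee_ea (s : F) : D.ee (D.ea s) = E.xa (D.N * s) * D.ea s := by
  by_cases hs : s = 0
  · rw [hs, mul_zero, ea_zero, E.xa_zero, mul_one]
    have : D.ee (1 * 1) = D.ee 1 * D.ee 1 := ee_mul (D.A.one_mem) (D.A.one_mem)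
    rw [mul_one] at this
    exact left_eq_mul.1 this
  · have hw := Wt.h E (Units.mk0 s hs) 1
    have h1 : D.ea s = E.h (Units.mk0 s hs) 1 * D.ea 1 * (E.h (Units.mk0 s hs) 1)⁻¹ := by
      rw [ea_T hw.mem hw.a, Units.val_mk0, mul_one]
    have h2 := D.exists_N.choose_spec
    have h3 : D.ee (D.ea s) = E.h (Units.mk0 s hs) 1 * D.ee (D.ea 1) *
        (E.h (Units.mk0 s hs) 1)⁻¹ := by
      rw [← ee_T hw (ea_mem 1), ← h1]
    rw [h3, h2]
    calc E.h (Units.mk0 s hs) 1 * (E.xa D.exists_N.choose * D.ea 1) * (E.h (Units.mk0 s hs) 1)⁻¹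
        = (E.h (Units.mk0 s hs) 1 * E.xa D.exists_N.choose * (E.h (Units.mk0 s hs) 1)⁻¹) *
          (E.h (Units.mk0 s hs) 1 * D.ea 1 * (E.h (Units.mk0 s hs) 1)⁻¹) := by group
      _ = _ := by
          rw [← h1, hw.a, Units.val_mk0, mul_comm s]; rfl

/-! ### `C` -/

variable (D) in
/-- `ec s = nb (ea s) nb⁻¹`. -/
noncomputable def ec (s : F) : G := D.nb * D.ea s * D.nb⁻¹

theorem ec_mem (s : F) : D.ec s ∈ D.C := D.nb_A _ (ea_mem s)

theorem ec_add (s s' : F) : D.ec (s + s') = D.ec s * D.ec s' := by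
  unfold ec; rw [ea_add]; group

theorem ec_zero : D.ec 0 = 1 := WEnv.hom_zero ec_add

theorem nb_ec (s : F) : D.nb * D.ec s * D.nb⁻¹ = D.ea s := D.nb_nb _

theorem t_ec (s : F) : E.t * D.ec s * E.t⁻¹ = D.ec s * E.xc s := by
  have ht : E.t * D.nb = D.nb * E.t := D.t_nb
  calc E.t * D.ec s * E.t⁻¹ = (E.t * D.nb) * D.ea s * (E.t * D.nb)⁻¹ := by unfold ec; group
    _ = D.nb * (E.t * D.ea s * E.t⁻¹) * D.nb⁻¹ := by rw [ht]; group
    _ = (D.nb * D.ea s * D.nb⁻¹) * (D.nb * E.xa s * D.nb⁻¹) := by rw [t_ea]; group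
    _ = _ := by rw [D.nb_a]; rfl

theorem ec_T {g : G} (hg : g ∈ E.T) {ρ : F} (h1 : ∀ x, g * E.xc x * g⁻¹ = E.xc (ρ * x)) (s : F) :
    g * D.ec s * g⁻¹ = D.ec (ρ * s) := by
  have h2 := ea_T (D := D) ((D.nb_T g).1 hg) (nb_T_a h1) s
  have h3 : D.nb * g * D.nb⁻¹ = D.nb⁻¹ * g * D.nb := by rw [D.nb_inv]
  calc g * D.ec s * g⁻¹ = D.nb * ((D.nb⁻¹ * g * D.nb) * D.ea s * (D.nb⁻¹ * g * D.nb)⁻¹) * D.nb⁻¹ := by
        unfold ec; group
    _ = _ := by rw [← h3, h2]; rfl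

/-- normal form in `C`. -/
theorem C_form {c : G} (hc : c ∈ D.C) : ∃ s s', c = E.xc s * D.ec s' := by
  obtain ⟨s, s', h⟩ := A_form (D.nb_C c hc)
  refine ⟨s, s', ?_⟩
  have h1 := D.nb_nb c
  rw [h] at h1
  rw [← h1, ← D.nb_a]
  unfold ec; group

theorem C_uniq {s s' u u' : F} (h : E.xc s * D.ec s' = E.xc u * D.ec u') : s = u ∧ s' = u' := by
  have h1 : ∀ s s', D.nb * (E.xc s * D.ec s') * D.nb⁻¹ = E.xa s * D.ea s' := by
    intro s s'
    calc D.nb * (E.xc s * D.ec s') * D.nb⁻¹ = (D.nb * E.xc s * D.nb⁻¹) * (D.nb * D.ec s' * D.nb⁻¹) := by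
          group
      _ = _ := by rw [D.nb_c, nb_ec]
  have h2 := h1 s s'
  rw [h, h1] at h2
  exact ⟨(A_uniq h2).1.symm, (A_uniq h2).2.symm⟩

/-! ### `B` -/

open Classical in
variable (D) in
/-- the element of `B` over `xb k`. -/
noncomputable def eb (k : B.K) : G :=
  if h : k = 0 then 1 else E.h 1 (Units.mk0 k h) * D.be * (E.h 1 (Units.mk0 k h))⁻¹

theorem eb_zero : D.eb 0 = 1 := by rw [eb, dif_pos rfl]

theorem eb_of {k : B.K} (h : k ≠ 0) :
    D.eb k = E.h 1 (Units.mk0 k h) * D.be * (E.h 1 (Units.mk0 k h))⁻¹ := by rw [eb, dif_neg h]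

theorem eb_mem (k : B.K) : D.eb k ∈ D.Bb := by
  by_cases h : k = 0
  · rw [h, eb_zero]; exact D.Bb.one_mem
  · rw [eb_of h]; exact D.rootB.conj_T _ (E.h_mem _ _) _ D.be_mem

theorem eb_one : D.eb 1 = D.be := by
  rw [eb_of one_ne_zero]
  have hw := Wt.h E 1 (Units.mk0 (1 : B.K) one_ne_zero)
  have h1 : Commute (E.h 1 (Units.mk0 (1 : B.K) one_ne_zero)) D.be :=
    r_T_comm D.rootB hw.mem (fun c => by
      have := hw.b c
      rw [Units.val_mk0, one_mul] at this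
      exact WEnv.conj_eq_iff.1 this) D.be_mem
  rw [h1.eq, mul_inv_cancel_right]

theorem eb_t (k : B.K) : D.eb k * E.t * (D.eb k)⁻¹ = E.xb k * E.t := by
  by_cases h : k = 0
  · rw [h, eb_zero, E.xb_zero]; group
  · have hw := Wt.h E 1 (Units.mk0 k h)
    have ht := E.T_t _ hw.mem
    rw [eb_of h]
    calc _ = E.h 1 (Units.mk0 k h) * D.be * ((E.h 1 (Units.mk0 k h))⁻¹ *
          (E.t * E.h 1 (Units.mk0 k h))) * D.be⁻¹ * (E.h 1 (Units.mk0 k h))⁻¹ := by group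
      _ = E.h 1 (Units.mk0 k h) * (D.be * E.t * D.be⁻¹) * (E.h 1 (Units.mk0 k h))⁻¹ := by
          rw [ht]; group
      _ = (E.h 1 (Units.mk0 k h) * E.xb 1 * (E.h 1 (Units.mk0 k h))⁻¹) *
          (E.h 1 (Units.mk0 k h) * E.t * (E.h 1 (Units.mk0 k h))⁻¹) := by rw [D.be_t]; group
      _ = _ := by
          rw [hw.b, ← ht, Units.val_mk0, mul_one]; group

theorem eb_T {g : G} (hg : g ∈ E.T) {ν : B.K} (h1 : ∀ x, g * E.xb x * g⁻¹ = E.xb (ν * x)) (k : B.K) :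
    g * D.eb k * g⁻¹ = D.eb (ν * k) := by
  by_cases hν : ν = 0
  · exfalso
    have h2 := h1 1
    rw [hν, zero_mul, E.xb_zero] at h2
    have h3 : E.xb 1 = E.xb 0 := by
      rw [E.xb_zero]
      exact mul_eq_left.1 (mul_inv_eq_one.1 h2)
    exact one_ne_zero (xb_inj h3)
  · by_cases h : k = 0
    · rw [h, mul_zero, eb_zero]; group
    · have hne : ν * k ≠ 0 := mul_ne_zero hν h
      rw [eb_of h, eb_of hne]
      have hw := Wt.h E 1 (Units.mk0 k h)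
      have hw' := Wt.h E 1 (Units.mk0 _ hne)
      have := r_T_eq D.rootB (E.T.mul_mem hg hw.mem) hw'.mem (fun c => ?_) D.be_mem
      · rw [← this]; group
      · calc g * E.h 1 (Units.mk0 k h) * E.xb c * (g * E.h 1 (Units.mk0 k h))⁻¹
            = g * (E.h 1 (Units.mk0 k h) * E.xb c * (E.h 1 (Units.mk0 k h))⁻¹) * g⁻¹ := by group
          _ = _ := by rw [hw.b, h1, hw'.b, Units.val_mk0, Units.val_mk0, mul_assoc]

theorem B_form {b : G} (hb : b ∈ D.Bb) : ∃ k k', b = E.xb k * D.eb k' := by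
  obtain ⟨k', hk'⟩ := D.rootB.conj_t b hb
  obtain ⟨k, hk⟩ := r_eq_of D.rootB hb (eb_mem k') hk' (eb_t k')
  exact ⟨k, k', hk⟩

theorem th_right_one {a : G} : D.th a 1 = 1 :=
  th_eq D.C.one_mem D.Z.one_mem (by group)

theorem Wt_one_comm {g : G} {ν : B.Kˣ} (hg : Wt E g 1 ν) {a : G} (ha : a ∈ D.A) : g * a * g⁻¹ = a := by
  have h1 : Commute g a := r_T_comm D.rootA hg.mem (fun c => by
    have := hg.a c
    rw [Units.val_one, one_mul] at this
    exact WEnv.conj_eq_iff.1 this) ha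
  rw [h1.eq, mul_inv_cancel_right]

theorem th_xa_eb (s : F) (k : B.K) : D.th (E.xa s) (D.eb k) = D.ec ((k : F) * s) := by
  by_cases h : k = 0
  · rw [h, eb_zero, th_right_one]; simp [ec_zero]
  · have hw := Wt.h E 1 (Units.mk0 k h)
    have h1 := th_T hw.mem (xa_mem (D := D) s) D.be_mem
    rw [Wt_one_comm (D := D) hw (xa_mem s), ← eb_of h, th_be] at h1
    rw [h1]
    refine (ec_T hw.mem (ρ := (k : F)) (fun x => ?_) s)
    rw [hw.c]; simp

theorem th_ea_xb (s : F) (k : B.K) : D.th (D.ea s) (E.xb k) = D.ec ((k : F) * s) := by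
  by_cases h : k = 0
  · rw [h, E.xb_zero, th_right_one]; simp [ec_zero]
  · have hw := Wt.h E 1 (Units.mk0 k h)
    have h1 := th_T hw.mem (ea_mem (D := D) s) (xb_mem (D := D) 1)
    rw [Wt_one_comm hw (ea_mem s), hw.b, Units.val_mk0, mul_one, th_one (ea_mem s)] at h1
    rw [h1]
    refine (ec_T hw.mem (ρ := (k : F)) (fun x => ?_) s)
    rw [hw.c]; simp

theorem th_ea_eb (s : F) (k : B.K) :
    D.th (D.ea s) (D.eb k) = E.xc (D.N * ((k : F) * s)) * D.ec ((k : F) * s) := by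
  by_cases h : k = 0
  · rw [h, eb_zero, th_right_one]; simp [ec_zero, E.xc_zero]
  · have hw := Wt.h E 1 (Units.mk0 k h)
    have h1 := th_T hw.mem (ea_mem (D := D) s) D.be_mem
    rw [Wt_one_comm hw (ea_mem s), ← eb_of h, th_be, ee_ea] at h1
    have h2 : D.nb * (E.xa (D.N * s) * D.ea s) * D.nb⁻¹ = E.xc (D.N * s) * D.ec s := by
      rw [← D.nb_a]; unfold ec; group
    rw [h1, h2]
    have h3 : ∀ x, E.h 1 (Units.mk0 k h) * E.xc x * (E.h 1 (Units.mk0 k h))⁻¹ = E.xc ((k : F) * x) := by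
      intro x; rw [hw.c]; simp
    calc E.h 1 (Units.mk0 k h) * (E.xc (D.N * s) * D.ec s) * (E.h 1 (Units.mk0 k h))⁻¹
        = (E.h 1 (Units.mk0 k h) * E.xc (D.N * s) * (E.h 1 (Units.mk0 k h))⁻¹) *
          (E.h 1 (Units.mk0 k h) * D.ec s * (E.h 1 (Units.mk0 k h))⁻¹) := by group
      _ = _ := by rw [h3, ec_T hw.mem h3, mul_left_comm]

/-! ### `th` is faithful -/

theorem th_faithful {b : G} (hb : b ∈ D.Bb) (h : ∀ s, D.th (E.xa s) b = 1) : b = 1 := by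
  obtain ⟨k, k', rfl⟩ := B_form hb
  have h1 := h 1
  rw [th_mul_right (xa_mem 1) (xb_mem k) (eb_mem k'), th_xa_xb, th_xa_eb, one_mul, mul_one] at h1
  have h2 : E.xc (k : F) * D.ec (k' : F) = E.xc 0 * D.ec 0 := by
    rw [h1, E.xc_zero, ec_zero, mul_one]
  obtain ⟨h3, h4⟩ := C_uniq h2
  have h5 : k = 0 := Subtype.ext h3
  have h6 : k' = 0 := Subtype.ext h4
  rw [h5, h6, E.xb_zero, eb_zero, mul_one]

theorem eb_add (k k' : B.K) : D.eb (k + k') = D.eb k * D.eb k' := by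
  have hm := D.Bb.mul_mem (eb_mem k) (eb_mem k')
  have h1 : D.eb (k + k') * (D.eb k * D.eb k')⁻¹ = 1 := by
    have hi : (D.eb k * D.eb k')⁻¹ = D.eb k * D.eb k' := WEnv.inv_of_sq (D.rootB.sq _ hm)
    rw [hi]
    refine th_faithful (D.Bb.mul_mem (eb_mem _) hm) (fun s => ?_)
    rw [th_mul_right (xa_mem s) (eb_mem _) hm, th_mul_right (xa_mem s) (eb_mem _) (eb_mem _),
      th_xa_eb, th_xa_eb, th_xa_eb]
    have h2 : ((k + k' : B.K) : F) * s = (k : F) * s + (k' : F) * s := by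
      rw [← add_mul]; rfl
    rw [h2, ec_add]
    exact D.rootC.sq _ (D.C.mul_mem (ec_mem _) (ec_mem _))
  exact mul_inv_eq_one.1 h1

theorem t_eb (k : B.K) : E.t * D.eb k * E.t⁻¹ = D.eb k * E.xb k := r_t_conj D.rootB (eb_mem k) (eb_t k)

/-! ### The form `ph a c = [a, c] ∈ Z` -/

/-- the commutator. -/
def ph (a c : G) : G := a * c * a⁻¹ * c⁻¹

theorem ph_spec (a c : G) : a * c * a⁻¹ = ph a c * c := by unfold ph; group

theorem ph_mem {a c : G} (ha : a ∈ D.A) (hc : c ∈ D.C) : ph a c ∈ D.Z := by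
  obtain ⟨r, hr, h⟩ := D.A_C a ha c hc
  rw [ph, h, mul_inv_cancel_right]; exact hr

theorem ph_mul_left {a a' c : G} (ha : a ∈ D.A) (ha' : a' ∈ D.A) (hc : c ∈ D.C) :
    ph (a * a') c = ph a c * ph a' c := by
  have h1 := ph_mem ha' hc
  have h2 : (a * a') * c * (a * a')⁻¹ = (ph a c * ph a' c) * c := by
    calc (a * a') * c * (a * a')⁻¹ = a * (a' * c * a'⁻¹) * a⁻¹ := by group
      _ = (a * ph a' c * a⁻¹) * (a * c * a⁻¹) := by rw [ph_spec a' c]; group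
      _ = ph a' c * (ph a c * c) := by
          rw [← (cZA h1 ha).eq, mul_inv_cancel_right, ph_spec]
      _ = _ := by rw [← mul_assoc, (cZZ h1 (ph_mem ha hc)).eq]
  rw [ph, h2, mul_inv_cancel_right]

theorem ph_mul_right {a c c' : G} (ha : a ∈ D.A) (hc : c ∈ D.C) (hc' : c' ∈ D.C) :
    ph a (c * c') = ph a c * ph a c' := by
  have h1 := ph_mem ha hc'
  have h2 : a * (c * c') * a⁻¹ = (ph a c * ph a c') * (c * c') := by
    calc a * (c * c') * a⁻¹ = (a * c * a⁻¹) * (a * c' * a⁻¹) := by group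
      _ = ph a c * (c * ph a c') * c' := by rw [ph_spec, ph_spec]; group
      _ = _ := by rw [← (cZC h1 hc).eq]; group
  rw [ph, h2, mul_inv_cancel_right]

theorem ph_conj (g a c : G) : ph (g * a * g⁻¹) (g * c * g⁻¹) = g * ph a c * g⁻¹ := by
  unfold ph; group

/-- symmetry. -/
theorem ph_symm {a a' b : G} (ha : a ∈ D.A) (ha' : a' ∈ D.A) (hb : b ∈ D.Bb) :
    ph a (D.th a' b) = ph a' (D.th a b) := by
  have key : ∀ a ∈ D.A, ∀ a' ∈ D.A, ∃ r ∈ D.Z, ∃ r' ∈ D.Z, a * b * a⁻¹ = r * D.th a b * b ∧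
      a' * b * a'⁻¹ = r' * D.th a' b * b ∧
      (a * a') * b * (a * a')⁻¹ = (ph a (D.th a' b) * (r * r')) * (D.th a b * D.th a' b) * b := by
    intro a ha a' ha'
    obtain ⟨hc, r, hr, h⟩ := th_spec ha hb
    obtain ⟨hc', r', hr', h'⟩ := th_spec ha' hb
    refine ⟨r, hr, r', hr', h, h', ?_⟩
    have hp := ph_mem ha hc'
    calc (a * a') * b * (a * a')⁻¹ = a * (a' * b * a'⁻¹) * a⁻¹ := by group
      _ = (a * r' * a⁻¹) * (a * D.th a' b * a⁻¹) * (a * b * a⁻¹) := by rw [h']; group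
      _ = r' * (ph a (D.th a' b) * D.th a' b) * (r * D.th a b * b) := by
          rw [← (cZA hr' ha).eq, mul_inv_cancel_right, h, ph_spec]
      _ = r' * ph a (D.th a' b) * (D.th a' b * r) * D.th a b * b := by group
      _ = (r' * ph a (D.th a' b) * r) * (D.th a' b * D.th a b) * b := by
          rw [← (cZC hr hc').eq]; group
      _ = _ := by
          rw [(cCC hc' hc).eq, (cZZ hr' hp).eq, mul_assoc (ph a (D.th a' b)), (cZZ hr' hr).eq]
  obtain ⟨r, hr, r', hr', h1, h2, h3⟩ := key a ha a' ha'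
  obtain ⟨s', hs', s, hs, h1', h2', h3'⟩ := key a' ha' a ha
  have e1 : s = r := by
    have := h1.symm.trans h2'
    exact (mul_right_cancel (mul_right_cancel this)).symm
  have e2 : s' = r' := by
    have := h2.symm.trans h1'
    exact (mul_right_cancel (mul_right_cancel this)).symm
  rw [e1, e2, (cAA ha' ha).eq, h3, (cCC (th_mem ha' hb) (th_mem ha hb)).eq, (cZZ hr' hr).eq] at h3'
  exact mul_right_cancel (mul_right_cancel (mul_right_cancel h3'))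

end AGrown

end Cfsg.Agent.StdRank2.SC
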