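import Cfsg.Agent.StdRank2.SC.Four

/-!
# Structure constants, V: the field case `ε̄ = ε + 1`, groups `A`, `B`, `C`, `Z`

`f : F → Z` bijective, `b : F → B` bijective,
`[a₀ s, b x] = c₀ (x s)`, `[a₁ s, b x] = c₁ (x̄ s)`, `[aᵢ s, cᵢ s'] = 1`, `[a₀ s, c₁ s'] = f (s s̄')`,
`[a₁ s, c₀ s'] = f (s̄ s')`.
-/

set_option autoImplicit false
set_option linter.unusedSectionVars false

namespace Cfsg.Agent.StdRank2.SC

open Subgroup Cfsg.Agent.StdRank2.UFour

variable {F : Type*} [Field F] [CharP F 2] {B : Bar F} {G : Type*} [Group G]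
variable {E : WEnv B G} {D : AGrown E}

namespace Eps

variable (P : Eps D)

/-- `f x = [a₀ x, c₁ 1]` (field case). -/
noncomputable def f (x : F) : G := D.psi (P.pv false x) (P.pv true 1)

/-- the first coordinate of `b x`. -/
def kb (hF : B.s P.e = P.e + 1) (x : F) : B.K := ⟨x + (x + B.s x) * P.e, by
  rw [Bar.mem_K, map_add, map_mul, map_add, B.invol, hF]
  have := Bar.add_self (B.s x)
  linear_combination this⟩

/-- parametrisation of `B` (field case). -/
noncomputable def b (hF : B.s P.e = P.e + 1) (x : F) : G := P.bb (P.kb hF x) (B.tr x)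

variable {P}

section fieldCase

variable (hF : B.s P.e = P.e + 1)
include hF

theorem s_ep (j : Bool) : B.s (P.ep j) = P.ep (!j) := by
  cases j
  · exact hF
  · change B.s (P.e + 1) = P.e
    rw [map_add, map_one, hF, add_assoc, Bar.add_self, add_zero]

theorem psi_same (i : Bool) (s s' : F) : D.psi (P.pv i s) (P.pv i s') = 1 :=
  psi_vanish (by rw [s_ep hF]; exact (P.ep_ne i).symm) s s'

theorem comm_a_c (i : Bool) (s s' : F) : Commute (P.a i s) (P.c i s') := by
  have h := psi_same hF i s s'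
  rw [← ph_a_c, AGrown.ph] at h
  exact mul_inv_eq_iff_eq_mul.1 (mul_inv_eq_one.1 h)

omit hF in
theorem psi_ft (s s' : F) : D.psi (P.pv false s) (P.pv true s') = P.f (s * B.s s') := psi_move _ _ _ _

omit hF in
theorem psi_tf (s s' : F) : D.psi (P.pv true s) (P.pv false s') = P.f (s' * B.s s) := by
  rw [AGrown.psi_symm, psi_ft]

omit hF in
theorem f_add (x y : F) : P.f (x + y) = P.f x * P.f y := by
  unfold f; rw [P.pv_add, AGrown.psi_add_left]

omit hF in
theorem f_mem (x : F) : P.f x ∈ D.Z := AGrown.psi_mem _ _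

omit hF in
theorem f_zero : P.f 0 = 1 := WEnv.hom_zero f_add

omit hF in
theorem t_f (x : F) : E.t * P.f x * E.t⁻¹ = P.f (B.s x) := by
  unfold f
  rw [AGrown.psi_t, P.t_pv, P.t_pv]
  change D.psi (P.pv true x) (P.pv false 1) = _
  rw [psi_tf, one_mul]; rfl

theorem f_mul_s (x : F) : P.f x * P.f (B.s x) = E.xz (B.tr x) := by
  have h := AGrown.psi_base (D := D) x 1
  rw [map_one, mul_one, P.pv_base x, P.pv_base 1, AGrown.psi_add_left, AGrown.psi_add_right,
    AGrown.psi_add_right, psi_same hF, psi_same hF, psi_tf, one_mul, one_mul, mul_one] at h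
  exact h

theorem f_K (k : B.K) : P.f (k : F) = E.xz k := by
  obtain ⟨x, rfl⟩ := B.tr_surj k
  rw [← f_mul_s hF, ← f_add]; rfl

theorem f_inj {x y : F} (h : P.f x = P.f y) : x = y := by
  have h1 : P.f (x + y) = 1 := by
    rw [f_add, h]; exact D.rootZ.sq _ (f_mem _)
  have h2 : P.f (B.s (x + y)) = 1 := by
    rw [← t_f, h1]; group
  have h3 := f_mul_s hF (x + y)
  rw [h1, h2, one_mul] at h3
  have h4 : B.tr (x + y) = 0 := xz_inj (h3.symm.trans (E.xz_zero).symm)
  have h5 : B.s (x + y) = x + y := by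
    have h6 : (x + y) + B.s (x + y) = 0 := congrArg Subtype.val h4
    have h7 := Bar.add_self (x + y)
    linear_combination h6 - h7
  have h6 := f_K (P := P) hF ⟨x + y, h5⟩
  change P.f (x + y) = _ at h6
  rw [h1] at h6
  have h7 : (⟨x + y, h5⟩ : B.K) = 0 := xz_inj (h6.symm.trans (E.xz_zero).symm)
  have h8 : x + y = 0 := congrArg Subtype.val h7
  have h9 := Bar.add_self y
  linear_combination h8 - h9

theorem f_t (x : F) : P.f x * E.t * (P.f x)⁻¹ = E.xz (B.tr x) * E.t := by
  have h1 : (P.f x)⁻¹ = P.f x := WEnv.inv_of_sq (D.rootZ.sq _ (f_mem x))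
  calc P.f x * E.t * (P.f x)⁻¹ = P.f x * (E.t * P.f x * E.t⁻¹) * E.t := by rw [h1]; group
    _ = _ := by rw [t_f, f_mul_s hF]

theorem exists_f {r : G} (hr : r ∈ D.Z) : ∃ x, r = P.f x := by
  obtain ⟨k, hk⟩ := D.rootZ.conj_t r hr
  obtain ⟨x, hx⟩ := B.tr_surj k
  have h1 := f_t (P := P) hF x
  rw [hx] at h1
  obtain ⟨c, hc⟩ := r_eq_of D.rootZ hr (f_mem x) hk h1
  exact ⟨c + x, by rw [hc, f_add, f_K hF]⟩

omit hF in
theorem T_f {g : G} {μ : Fˣ} {ν : B.Kˣ} (hg : Wt E g μ ν) (x : F) :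
    g * P.f x * g⁻¹ = P.f (((B.nm μ : B.K) : F) * ((ν : B.K) : F) * x) := by
  unfold f
  rw [AGrown.psi_T hg, P.sc_pv, P.sc_pv, psi_move, mul_one]
  congr 2
  rw [map_mul, B.s_K]
  change μ * x * (B.s μ * ((ν : B.K) : F)) = μ * B.s μ * ((ν : B.K) : F) * x
  ring

/-- **exactness.** -/
theorem tz_one (i : Bool) (s : F) {g : G} (hg : g ∈ D.Bb) : D.tz (P.a i s) g = 1 := by
  choose ζ hζ using fun s => exists_f (P := P) hF (AGrown.tz_mem (D := D) (a_mem (P := P) i s) hg)
  have hadd : ∀ s s', ζ (s + s') = ζ s + ζ s' := by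
    intro s s'
    refine f_inj hF ?_
    rw [f_add, ← hζ, ← hζ, ← hζ, a_add, AGrown.tz_mul_left (a_mem i s) (a_mem i s') hg]
    obtain ⟨k, k', rfl⟩ := exists_b (P := P) hg
    rw [th_a_bb, ph_a_c, psi_same hF, mul_one]
  have hmul : ∀ μ : Fˣ, ∀ s, ζ (μ * s) = ((B.nm μ : B.K) : F) * ζ s := by
    intro μ s
    refine f_inj hF ?_
    have hw := Wt.h E μ 1
    have hb : E.h μ 1 * g * (E.h μ 1)⁻¹ = g := by
      have h1 : Commute (E.h μ 1) g := r_T_comm D.rootB hw.mem (fun c => by
        have := hw.b c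
        rw [Units.val_one, one_mul] at this
        exact WEnv.conj_eq_iff.1 this) hg
      rw [h1.eq, mul_inv_cancel_right]
    have h2 := AGrown.tz_T (D := D) hw.mem (a_mem (P := P) i s) hg
    rw [T_a hw, hb, hζ, hζ, T_f hw, Units.val_one, B.K.coe_one, mul_one] at h2
    exact h2
  rw [hζ, quad_zero B hadd hmul, f_zero]

theorem conj_bb (i : Bool) (s : F) (k k' : B.K) :
    P.a i s * P.bb k k' * (P.a i s)⁻¹ = P.c i (((k : F) + (k' : F) * P.ep i) * s) * P.bb k k' := by
  rw [AGrown.tz_spec (D := D), tz_one hF i s (bb_mem k k'), one_mul, th_a_bb]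

theorem b_mem (x : F) : P.b hF x ∈ D.Bb := bb_mem _ _

omit hF in
theorem kb_add (hF : B.s P.e = P.e + 1) (x y : F) : P.kb hF (x + y) = P.kb hF x + P.kb hF y := by
  apply Subtype.ext
  change x + y + (x + y + B.s (x + y)) * P.e = x + (x + B.s x) * P.e + (y + (y + B.s y) * P.e)
  rw [map_add]; ring

theorem b_add (x y : F) : P.b hF (x + y) = P.b hF x * P.b hF y := by
  unfold b; rw [kb_add, B.tr_add, bb_add]

theorem exists_b' {g : G} (hg : g ∈ D.Bb) : ∃ x, g = P.b hF x := by
  obtain ⟨k, k', rfl⟩ := exists_b (P := P) hg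
  refine ⟨(k : F) + k' * P.e, ?_⟩
  have h1 : B.tr ((k : F) + k' * P.e) = k' := by
    apply Subtype.ext
    change (k : F) + k' * P.e + B.s ((k : F) + k' * P.e) = k'
    rw [map_add, map_mul, B.s_K, B.s_K, hF]
    have := Bar.add_self ((k : F) + k' * P.e)
    linear_combination this
  have h2 : P.kb hF ((k : F) + k' * P.e) = k := by
    apply Subtype.ext
    have h3 : (k : F) + k' * P.e + B.s ((k : F) + k' * P.e) = k' := congrArg Subtype.val h1
    change (k : F) + k' * P.e + ((k : F) + k' * P.e + B.s ((k : F) + k' * P.e)) * P.e = k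
    rw [h3]
    have := Bar.add_self ((k' : F) * P.e)
    linear_combination this
  unfold b
  rw [h1, h2]

theorem conj_b_false (s x : F) :
    P.a false s * P.b hF x * (P.a false s)⁻¹ = P.c false (x * s) * P.b hF x := by
  unfold b
  rw [conj_bb hF]
  congr 3
  change x + (x + B.s x) * P.e + (x + B.s x) * P.e = x
  have := Bar.add_self ((x + B.s x) * P.e)
  linear_combination this

theorem conj_b_true (s x : F) :
    P.a true s * P.b hF x * (P.a true s)⁻¹ = P.c true (B.s x * s) * P.b hF x := by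
  unfold b
  rw [conj_bb hF]
  congr 3
  change x + (x + B.s x) * P.e + (x + B.s x) * (P.e + 1) = B.s x
  have := Bar.add_self ((x + B.s x) * P.e + x)
  linear_combination this

theorem b_inj {x y : F} (h : P.b hF x = P.b hF y) : x = y := by
  have h1 := conj_b_false hF 1 x
  rw [h, conj_b_false hF 1 y] at h1
  have h2 := c_inj (mul_right_cancel h1)
  rw [mul_one, mul_one] at h2
  exact h2.symm

theorem t_b (x : F) : E.t * P.b hF x * E.t⁻¹ = P.b hF (B.s x) := by
  unfold b
  rw [t_bb, B.tr_s]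
  congr 1
  apply Subtype.ext
  change x + (x + B.s x) * P.e + (x + B.s x) = B.s x + (B.s x + B.s (B.s x)) * P.e
  rw [B.invol]
  have := Bar.add_self x
  linear_combination this

end fieldCase

end Eps

end Cfsg.Agent.StdRank2.SC
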