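import Cfsg.Agent.StdRank2.SC.FiveEF
import Cfsg.Agent.UTRec.Main

/-!
# `U₅(q)`, field case: the grown group is `UT₅(q²)`

`rf i j : F → G` (`i < j < 5`): the ten root groups; `roots : UTRec.Roots 5 |F| (XF ...)`;
`S5 Gr = A ⊔ Bb ⊔ C ⊔ Z ⊔ P ⊔ R`; `exists_UT : S5 Gr ≃* UT 5 R`, `|R| = |F|`; `card_S5 = |F| ^ 10`.
-/

set_option autoImplicit false
set_option linter.unusedSectionVars false

open scoped commutatorElement

namespace Cfsg.Agent.StdRank2.SC.Five

open Subgroup Cfsg.Agent.StdRank2.UFour Cfsg.Agent.StdRank2.UFive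
open Cfsg.Agent.StdRank2.SC.Eps (lt tr_lt)

variable {F : Type*} [Field F] [CharP F 2] {B : Bar F} {G : Type*} [Group G] [Finite G]
variable {E : UFive.Env B G} {Gr : UFive.Grown E} {P : Eps (ag Gr)} {H : Hp E}
variable (hF : B.s P.e = P.e + 1)
include hF

omit [Finite G] in
/-- `na (b x) na⁻¹ = f x`. -/
theorem na_bF (x : F) : E.na * P.b hF x * E.na⁻¹ = P.f x := by
  have hb : P.b hF x ∈ Gr.Bb := Eps.b_mem (P := P) hF x
  rw [← rule6 hb, Eps.xa_eq (P := P) 1, AGrown.tz_mul_left (D := ag Gr) (a_memA false 1) (a_memA true 1) hb,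
    Eps.tz_one hF false 1 hb, Eps.tz_one hF true 1 hb, one_mul, one_mul]
  have h1 : (ag Gr).th (P.a true 1) (P.b hF x) = P.c true (B.s x) := by
    refine AGrown.th_eq (D := ag Gr) (c_memC true _) Gr.Z.one_mem ?_
    rw [one_mul, Eps.conj_b_true hF, mul_one]
  rw [h1]
  change (ag Gr).psi (P.pv false 1) (P.pv true (B.s x)) = _
  rw [psi_ft', B.invol, one_mul]

omit [Finite G] in
theorem na_fF (x : F) : E.na * P.f x * E.na⁻¹ = P.b hF x := by rw [← na_bF hF, na_na]

/-- `[sig 0 u, sig 1 v] = b (ū v)`. -/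
theorem sig_sigF' (u v : F) :
    sig P H false u * sig P H true v * (sig P H false u)⁻¹ = P.b hF (B.s u * v) * sig P H true v := by
  have h := congrArg (fun g => E.na * g * E.na⁻¹) (rho_rhoF' (P := P) (H := H) hF u v)
  beta_reduce at h
  have e1 : E.na * (rho P H false u * rho P H true v * (rho P H false u)⁻¹) * E.na⁻¹ =
      sig P H false u * sig P H true v * (sig P H false u)⁻¹ := by unfold sig; group
  have e2 : E.na * (P.f (B.s u * v) * rho P H true v) * E.na⁻¹ =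
      (E.na * P.f (B.s u * v) * E.na⁻¹) * sig P H true v := by unfold sig; group
  rw [e1, e2, na_fF hF] at h
  exact h

theorem sig_sigF (m : Bool) (u v : F) : Commute (sig P H m u) (sig P H m v) := by
  have h := (rho_rhoF (P := P) (H := H) hF m u v).eq
  refine na_comm (E := E) ?_
  rw [na_sig, na_sig]
  exact h

/-- the root groups. -/
noncomputable def rf (P : Eps (ag Gr)) (H : Hp E) (hF : B.s P.e = P.e + 1) : ℕ → ℕ → F → G
  | 0, 1 => P.a false
  | 1, 2 => sig P H false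
  | 2, 3 => sig P H true
  | 3, 4 => P.a true
  | 0, 2 => rho P H false
  | 1, 3 => P.b hF
  | 2, 4 => rho P H true
  | 0, 3 => P.c false
  | 1, 4 => P.c true
  | 0, 4 => P.f
  | _, _ => fun _ => 1

theorem rf_add (i j : ℕ) (x y : F) : rf P H hF i j (x + y) = rf P H hF i j x * rf P H hF i j y := by
  unfold rf
  split
  · exact Eps.a_add _ _ _
  · exact sig_addF hF _ _ _
  · exact sig_addF hF _ _ _
  · exact Eps.a_add _ _ _
  · exact rho_addF hF _ _ _
  · exact Eps.b_add hF _ _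
  · exact rho_addF hF _ _ _
  · exact Eps.c_add _ _ _
  · exact Eps.c_add _ _ _
  · exact Eps.f_add _ _
  · rw [one_mul]

theorem rf_inj (i j : ℕ) (hij : i < j) (hj : j < 5) {x y : F} (h : rf P H hF i j x = rf P H hF i j y) : x = y := by
  unfold rf at h
  split at h
  · exact Eps.a_inj h
  · exact sig_injF hF _ h
  · exact sig_injF hF _ h
  · exact Eps.a_inj h
  · exact rho_injF hF _ h
  · exact Eps.b_inj hF h
  · exact rho_injF hF _ h
  · exact Eps.c_inj h
  · exact Eps.c_inj h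
  · exact Eps.f_inj hF h
  · exfalso
    interval_cases j <;> interval_cases i <;> simp_all

omit [Finite G] hF in
theorem f_memZ (x : F) : P.f x ∈ Gr.Z := Eps.f_mem (P := P) x

omit [Finite G] in
theorem b_memB (x : F) : P.b hF x ∈ Gr.Bb := Eps.b_mem (P := P) hF x

omit [Finite G] in
theorem rf01 : rf P H hF 0 1 = P.a false := rfl
omit [Finite G] in
theorem rf12 : rf P H hF 1 2 = sig P H false := rfl
omit [Finite G] in
theorem rf23 : rf P H hF 2 3 = sig P H true := rfl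
omit [Finite G] in
theorem rf34 : rf P H hF 3 4 = P.a true := rfl
omit [Finite G] in
theorem rf02 : rf P H hF 0 2 = rho P H false := rfl
omit [Finite G] in
theorem rf13 : rf P H hF 1 3 = P.b hF := rfl
omit [Finite G] in
theorem rf24 : rf P H hF 2 4 = rho P H true := rfl
omit [Finite G] in
theorem rf03 : rf P H hF 0 3 = P.c false := rfl
omit [Finite G] in
theorem rf14 : rf P H hF 1 4 = P.c true := rfl
omit [Finite G] in
theorem rf04 : rf P H hF 0 4 = P.f := rfl

theorem a_sigF0 (s u : F) : Commute (P.a false s) (sig P H true u) := a_sigF' hF false s u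
theorem a_sigF1 (s u : F) : Commute (P.a true s) (sig P H false u) := a_sigF' hF true s u

theorem row01 (k l : ℕ) (hkl : k < l) (hl : l < 5) (hjk : 1 ≠ k) (hil : 0 ≠ l) (x y : F) :
    Commute (rf P H hF 0 1 x) (rf P H hF k l y) := by
  have fZ : ∀ x, P.f x ∈ Gr.Z := fun x => f_memZ x
  have bB : ∀ x, P.b hF x ∈ Gr.Bb := fun x => b_memB hF x
  have aA : ∀ i x, P.a i x ∈ Gr.A := fun i x => a_memA i x
  have cC : ∀ i x, P.c i x ∈ Gr.C := fun i x => c_memC i x
  have rP : ∀ i x, rho P H i x ∈ Gr.P := fun i x => rho_mem i x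
  have sR : ∀ i x, sig P H i x ∈ Gr.R := fun i x => sig_mem i x
  interval_cases l <;> interval_cases k
  · exact cAA (aA _ _) (aA _ _)
  · exact cAP (aA _ _) (rP _ _)
  · exact absurd rfl hjk
  · exact Eps.comm_a_c hF _ _ _
  · exact absurd rfl hjk
  · exact a_sigF0 hF _ _
  · exact (cZA (fZ _) (aA _ _)).symm
  · exact absurd rfl hjk
  · exact cAP (aA _ _) (rP _ _)
  · exact cAA (aA _ _) (aA _ _)

theorem row02 (k l : ℕ) (hkl : k < l) (hl : l < 5) (hjk : 2 ≠ k) (hil : 0 ≠ l) (x y : F) :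
    Commute (rf P H hF 0 2 x) (rf P H hF k l y) := by
  have fZ : ∀ x, P.f x ∈ Gr.Z := fun x => f_memZ x
  have bB : ∀ x, P.b hF x ∈ Gr.Bb := fun x => b_memB hF x
  have aA : ∀ i x, P.a i x ∈ Gr.A := fun i x => a_memA i x
  have cC : ∀ i x, P.c i x ∈ Gr.C := fun i x => c_memC i x
  have rP : ∀ i x, rho P H i x ∈ Gr.P := fun i x => rho_mem i x
  have sR : ∀ i x, sig P H i x ∈ Gr.R := fun i x => sig_mem i x
  interval_cases l <;> interval_cases k
  · exact (cAP (aA _ _) (rP _ _)).symm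
  · exact rho_rhoF hF _ _ _
  · exact rho_sigF hF _ _ _
  · exact (cCP (cC _ _) (rP _ _)).symm
  · exact cPB (rP _ _) (bB _)
  · exact absurd rfl hjk
  · exact (cZP (fZ _) (rP _ _)).symm
  · exact (cCP (cC _ _) (rP _ _)).symm
  · exact absurd rfl hjk
  · exact (cAP (aA _ _) (rP _ _)).symm

theorem row12 (k l : ℕ) (hkl : k < l) (hl : l < 5) (hjk : 2 ≠ k) (hil : 1 ≠ l) (x y : F) :
    Commute (rf P H hF 1 2 x) (rf P H hF k l y) := by
  have fZ : ∀ x, P.f x ∈ Gr.Z := fun x => f_memZ x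
  have bB : ∀ x, P.b hF x ∈ Gr.Bb := fun x => b_memB hF x
  have aA : ∀ i x, P.a i x ∈ Gr.A := fun i x => a_memA i x
  have cC : ∀ i x, P.c i x ∈ Gr.C := fun i x => c_memC i x
  have rP : ∀ i x, rho P H i x ∈ Gr.P := fun i x => rho_mem i x
  have sR : ∀ i x, sig P H i x ∈ Gr.R := fun i x => sig_mem i x
  interval_cases l <;> interval_cases k
  · exact absurd rfl hil
  · exact (rho_sigF hF _ _ _).symm
  · exact sig_sigF hF _ _ _
  · exact (cCR (cC _ _) (sR _ _)).symm
  · exact (cBR (bB _) (sR _ _)).symm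
  · exact absurd rfl hjk
  · exact (cZR (fZ _) (sR _ _)).symm
  · exact (cCR (cC _ _) (sR _ _)).symm
  · exact absurd rfl hjk
  · exact (a_sigF1 hF _ _).symm

theorem row03 (k l : ℕ) (hkl : k < l) (hl : l < 5) (hjk : 3 ≠ k) (hil : 0 ≠ l) (x y : F) :
    Commute (rf P H hF 0 3 x) (rf P H hF k l y) := by
  have fZ : ∀ x, P.f x ∈ Gr.Z := fun x => f_memZ x
  have bB : ∀ x, P.b hF x ∈ Gr.Bb := fun x => b_memB hF x
  have aA : ∀ i x, P.a i x ∈ Gr.A := fun i x => a_memA i x
  have cC : ∀ i x, P.c i x ∈ Gr.C := fun i x => c_memC i x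
  have rP : ∀ i x, rho P H i x ∈ Gr.P := fun i x => rho_mem i x
  have sR : ∀ i x, sig P H i x ∈ Gr.R := fun i x => sig_mem i x
  interval_cases l <;> interval_cases k
  · exact (Eps.comm_a_c hF _ _ _).symm
  · exact cCP (cC _ _) (rP _ _)
  · exact cCR (cC _ _) (sR _ _)
  · exact cCC (cC _ _) (cC _ _)
  · exact cCB (cC _ _) (bB _)
  · exact cCR (cC _ _) (sR _ _)
  · exact (cZC (fZ _) (cC _ _)).symm
  · exact cCC (cC _ _) (cC _ _)
  · exact cCP (cC _ _) (rP _ _)
  · exact absurd rfl hjk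

theorem row13 (k l : ℕ) (hkl : k < l) (hl : l < 5) (hjk : 3 ≠ k) (hil : 1 ≠ l) (x y : F) :
    Commute (rf P H hF 1 3 x) (rf P H hF k l y) := by
  have fZ : ∀ x, P.f x ∈ Gr.Z := fun x => f_memZ x
  have bB : ∀ x, P.b hF x ∈ Gr.Bb := fun x => b_memB hF x
  have aA : ∀ i x, P.a i x ∈ Gr.A := fun i x => a_memA i x
  have cC : ∀ i x, P.c i x ∈ Gr.C := fun i x => c_memC i x
  have rP : ∀ i x, rho P H i x ∈ Gr.P := fun i x => rho_mem i x
  have sR : ∀ i x, sig P H i x ∈ Gr.R := fun i x => sig_mem i x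
  interval_cases l <;> interval_cases k
  · exact absurd rfl hil
  · exact (cPB (rP _ _) (bB _)).symm
  · exact cBR (bB _) (sR _ _)
  · exact (cCB (cC _ _) (bB _)).symm
  · exact cBB (bB _) (bB _)
  · exact cBR (bB _) (sR _ _)
  · exact (cZB (fZ _) (bB _)).symm
  · exact (cCB (cC _ _) (bB _)).symm
  · exact (cPB (rP _ _) (bB _)).symm
  · exact absurd rfl hjk

theorem row23 (k l : ℕ) (hkl : k < l) (hl : l < 5) (hjk : 3 ≠ k) (hil : 2 ≠ l) (x y : F) :
    Commute (rf P H hF 2 3 x) (rf P H hF k l y) := by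
  have fZ : ∀ x, P.f x ∈ Gr.Z := fun x => f_memZ x
  have bB : ∀ x, P.b hF x ∈ Gr.Bb := fun x => b_memB hF x
  have aA : ∀ i x, P.a i x ∈ Gr.A := fun i x => a_memA i x
  have cC : ∀ i x, P.c i x ∈ Gr.C := fun i x => c_memC i x
  have rP : ∀ i x, rho P H i x ∈ Gr.P := fun i x => rho_mem i x
  have sR : ∀ i x, sig P H i x ∈ Gr.R := fun i x => sig_mem i x
  interval_cases l <;> interval_cases k
  · exact (a_sigF0 hF _ _).symm
  · exact absurd rfl hil
  · exact absurd rfl hil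
  · exact (cCR (cC _ _) (sR _ _)).symm
  · exact (cBR (bB _) (sR _ _)).symm
  · exact sig_sigF hF _ _ _
  · exact (cZR (fZ _) (sR _ _)).symm
  · exact (cCR (cC _ _) (sR _ _)).symm
  · exact (rho_sigF hF _ _ _).symm
  · exact absurd rfl hjk

theorem row04 (k l : ℕ) (hkl : k < l) (hl : l < 5) (hjk : 4 ≠ k) (hil : 0 ≠ l) (x y : F) :
    Commute (rf P H hF 0 4 x) (rf P H hF k l y) := by
  have fZ : ∀ x, P.f x ∈ Gr.Z := fun x => f_memZ x
  have bB : ∀ x, P.b hF x ∈ Gr.Bb := fun x => b_memB hF x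
  have aA : ∀ i x, P.a i x ∈ Gr.A := fun i x => a_memA i x
  have cC : ∀ i x, P.c i x ∈ Gr.C := fun i x => c_memC i x
  have rP : ∀ i x, rho P H i x ∈ Gr.P := fun i x => rho_mem i x
  have sR : ∀ i x, sig P H i x ∈ Gr.R := fun i x => sig_mem i x
  interval_cases l <;> interval_cases k
  · exact cZA (fZ _) (aA _ _)
  · exact cZP (fZ _) (rP _ _)
  · exact cZR (fZ _) (sR _ _)
  · exact cZC (fZ _) (cC _ _)
  · exact cZB (fZ _) (bB _)
  · exact cZR (fZ _) (sR _ _)
  · exact cZZ (fZ _) (fZ _)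
  · exact cZC (fZ _) (cC _ _)
  · exact cZP (fZ _) (rP _ _)
  · exact cZA (fZ _) (aA _ _)

theorem row14 (k l : ℕ) (hkl : k < l) (hl : l < 5) (hjk : 4 ≠ k) (hil : 1 ≠ l) (x y : F) :
    Commute (rf P H hF 1 4 x) (rf P H hF k l y) := by
  have fZ : ∀ x, P.f x ∈ Gr.Z := fun x => f_memZ x
  have bB : ∀ x, P.b hF x ∈ Gr.Bb := fun x => b_memB hF x
  have aA : ∀ i x, P.a i x ∈ Gr.A := fun i x => a_memA i x
  have cC : ∀ i x, P.c i x ∈ Gr.C := fun i x => c_memC i x
  have rP : ∀ i x, rho P H i x ∈ Gr.P := fun i x => rho_mem i x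
  have sR : ∀ i x, sig P H i x ∈ Gr.R := fun i x => sig_mem i x
  interval_cases l <;> interval_cases k
  · exact absurd rfl hil
  · exact cCP (cC _ _) (rP _ _)
  · exact cCR (cC _ _) (sR _ _)
  · exact cCC (cC _ _) (cC _ _)
  · exact cCB (cC _ _) (bB _)
  · exact cCR (cC _ _) (sR _ _)
  · exact (cZC (fZ _) (cC _ _)).symm
  · exact cCC (cC _ _) (cC _ _)
  · exact cCP (cC _ _) (rP _ _)
  · exact (Eps.comm_a_c hF _ _ _).symm

theorem row24 (k l : ℕ) (hkl : k < l) (hl : l < 5) (hjk : 4 ≠ k) (hil : 2 ≠ l) (x y : F) :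
    Commute (rf P H hF 2 4 x) (rf P H hF k l y) := by
  have fZ : ∀ x, P.f x ∈ Gr.Z := fun x => f_memZ x
  have bB : ∀ x, P.b hF x ∈ Gr.Bb := fun x => b_memB hF x
  have aA : ∀ i x, P.a i x ∈ Gr.A := fun i x => a_memA i x
  have cC : ∀ i x, P.c i x ∈ Gr.C := fun i x => c_memC i x
  have rP : ∀ i x, rho P H i x ∈ Gr.P := fun i x => rho_mem i x
  have sR : ∀ i x, sig P H i x ∈ Gr.R := fun i x => sig_mem i x
  interval_cases l <;> interval_cases k
  · exact (cAP (aA _ _) (rP _ _)).symm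
  · exact absurd rfl hil
  · exact absurd rfl hil
  · exact (cCP (cC _ _) (rP _ _)).symm
  · exact cPB (rP _ _) (bB _)
  · exact rho_sigF hF _ _ _
  · exact (cZP (fZ _) (rP _ _)).symm
  · exact (cCP (cC _ _) (rP _ _)).symm
  · exact rho_rhoF hF _ _ _
  · exact (cAP (aA _ _) (rP _ _)).symm

theorem row34 (k l : ℕ) (hkl : k < l) (hl : l < 5) (hjk : 4 ≠ k) (hil : 3 ≠ l) (x y : F) :
    Commute (rf P H hF 3 4 x) (rf P H hF k l y) := by
  have fZ : ∀ x, P.f x ∈ Gr.Z := fun x => f_memZ x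
  have bB : ∀ x, P.b hF x ∈ Gr.Bb := fun x => b_memB hF x
  have aA : ∀ i x, P.a i x ∈ Gr.A := fun i x => a_memA i x
  have cC : ∀ i x, P.c i x ∈ Gr.C := fun i x => c_memC i x
  have rP : ∀ i x, rho P H i x ∈ Gr.P := fun i x => rho_mem i x
  have sR : ∀ i x, sig P H i x ∈ Gr.R := fun i x => sig_mem i x
  interval_cases l <;> interval_cases k
  · exact cAA (aA _ _) (aA _ _)
  · exact cAP (aA _ _) (rP _ _)
  · exact a_sigF1 hF _ _
  · exact absurd rfl hil
  · exact absurd rfl hil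
  · exact absurd rfl hil
  · exact (cZA (fZ _) (aA _ _)).symm
  · exact Eps.comm_a_c hF _ _ _
  · exact cAP (aA _ _) (rP _ _)
  · exact cAA (aA _ _) (aA _ _)


theorem rf_comm (i j k l : ℕ) (hij : i < j) (hj : j < 5) (hkl : k < l) (hl : l < 5) (hjk : j ≠ k) (hil : i ≠ l)
    (x y : F) : Commute (rf P H hF i j x) (rf P H hF k l y) := by
  interval_cases j <;> interval_cases i
  · exact row01 hF k l hkl hl hjk hil x y
  · exact row02 hF k l hkl hl hjk hil x y
  · exact row12 hF k l hkl hl hjk hil x y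
  · exact row03 hF k l hkl hl hjk hil x y
  · exact row13 hF k l hkl hl hjk hil x y
  · exact row23 hF k l hkl hl hjk hil x y
  · exact row04 hF k l hkl hl hjk hil x y
  · exact row14 hF k l hkl hl hjk hil x y
  · exact row24 hF k l hkl hl hjk hil x y
  · exact row34 hF k l hkl hl hjk hil x y

/-! ### The commutators -/

omit [Finite G] hF in
theorem br_of {x y z : G} (h : x * y * x⁻¹ = z * y) : ⁅x, y⁆ = z := by
  rw [commutatorElement_def, h, mul_inv_cancel_right]

omit [Finite G] hF in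
theorem br_of' {x y z : G} (h : y * x * y⁻¹ = z * x) (hz : z * z = 1) : ⁅x, y⁆ = z := by
  rw [← commutatorElement_inv, br_of h]
  exact WEnv.inv_of_sq hz

omit hF in
theorem s_mul_zero {s u : F} (h : B.s s * u = 0) : s = 0 ∨ u = 0 := by
  rcases mul_eq_zero.1 h with h | h
  · exact Or.inl ((map_eq_zero_iff B.s B.s.injective).1 h)
  · exact Or.inr h

/-- the ten commutators. -/
theorem rf_br (i j k : ℕ) (hij : i < j) (hjk : j < k) (hk : k < 5) : ∃ g : F → F → F,
    (∀ s u, ⁅rf P H hF i j s, rf P H hF j k u⁆ = rf P H hF i k (g s u)) ∧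
      ∀ s u, g s u = 0 → s = 0 ∨ u = 0 := by
  have hP : ∀ i u, rho P H i u * rho P H i u = 1 := fun i u => by
    rw [← rho_addF hF, Bar.add_self, rho_zeroF hF]
  have hC : ∀ i u, P.c i u * P.c i u = 1 := fun i u => Gr.rootC.sq _ (c_memC i u)
  have hZ : ∀ u, P.f u * P.f u = 1 := fun u => Gr.rootZ.sq _ (f_memZ u)
  interval_cases k <;> interval_cases j <;> interval_cases i
  · -- 0 1 2
    exact ⟨fun s u => B.s s * u, fun s u => br_of (a_sigF hF false s u), fun s u => s_mul_zero⟩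
  · -- 0 1 3
    exact ⟨fun s u => u * s, fun s u => br_of (Eps.conj_b_false hF s u), fun s u h => (mul_eq_zero.1 h).symm⟩
  · -- 0 2 3
    exact ⟨fun s u => B.s s * u, fun s u => br_of (rho_sigF' hF false s u), fun s u => s_mul_zero⟩
  · -- 1 2 3
    exact ⟨fun s u => B.s s * u, fun s u => br_of (sig_sigF' hF s u), fun s u => s_mul_zero⟩
  · -- 0 1 4
    refine ⟨fun s u => s * B.s u, fun s u => ?_, fun s u h => ?_⟩
    · change ⁅P.a false s, P.c true u⁆ = P.f (s * B.s u)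
      rw [← psi_ft' (P := P)]; rfl
    · beta_reduce at h; rw [mul_comm] at h; exact (s_mul_zero h).symm
  · -- 0 2 4
    exact ⟨fun s u => B.s s * u, fun s u => br_of (rho_rhoF' hF s u), fun s u => s_mul_zero⟩
  · -- 1 2 4 : `[sig 0 s, rho 1 u] = c₁ (ū s)`
    refine ⟨fun s u => B.s u * s, fun s u => br_of' (rho_sigF' hF true u s) (hC _ _), fun s u h =>
      (s_mul_zero h).symm⟩
  · -- 0 3 4 : `[c₀ s, a₁ u] = f (ū s)`
    refine ⟨fun s u => s * B.s u, fun s u => ?_, fun s u h => ?_⟩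
    · change ⁅P.c false s, P.a true u⁆ = P.f (s * B.s u)
      rw [← commutatorElement_inv, ← psi_tf' (P := P)]
      exact WEnv.inv_of_sq (Gr.rootZ.sq _ (AGrown.psi_mem (D := ag Gr) _ _))
    · beta_reduce at h; rw [mul_comm] at h; exact (s_mul_zero h).symm
  · -- 1 3 4 : `[b s, a₁ u] = c₁ (s̄ u)`
    exact ⟨fun s u => B.s s * u, fun s u => br_of' (Eps.conj_b_true hF u s) (hC _ _), fun s u => s_mul_zero⟩
  · -- 2 3 4 : `[sig 1 s, a₁ u] = rho 1 (ū s)`
    exact ⟨fun s u => B.s u * s, fun s u => br_of' (a_sigF hF true u s) (hP _ _), fun s u h =>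
      (s_mul_zero h).symm⟩

/-- the root groups as subgroups. -/
noncomputable def XF (P : Eps (ag Gr)) (H : Hp E) (hF : B.s P.e = P.e + 1) (i j : ℕ) : Subgroup G where
  carrier := Set.range (rf P H hF i j)
  mul_mem' := by
    rintro _ _ ⟨x, rfl⟩ ⟨y, rfl⟩
    exact ⟨x + y, rf_add hF i j x y⟩
  one_mem' := ⟨0, WEnv.hom_zero (rf_add hF i j)⟩
  inv_mem' := by
    rintro _ ⟨x, rfl⟩
    refine ⟨x, ?_⟩
    have h := rf_add (P := P) (H := H) hF i j x x
    rw [Bar.add_self, WEnv.hom_zero (rf_add hF i j)] at h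
    exact eq_inv_of_mul_eq_one_left h.symm

omit [Finite G] hF in
theorem mem_XF [Finite G] {hF : B.s P.e = P.e + 1} {i j : ℕ} {g : G} :
    g ∈ XF P H hF i j ↔ ∃ x, rf P H hF i j x = g := Iff.rfl

theorem one_lt_card_F : 1 < Nat.card F := by
  have := finite_F E.toWEnv
  exact Finite.one_lt_card

/-- **The root groups.** -/
theorem roots : UTRec.Roots 5 (Nat.card F) (XF P H hF) where
  disj i j k l hij hj hkl hl hjk hil a ha b hb := by
    obtain ⟨x, rfl⟩ := ha
    obtain ⟨y, rfl⟩ := hb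
    exact rf_comm hF i j k l hij hj hkl hl hjk hil x y
  mem i j k hij hjk hk a ha b hb := by
    obtain ⟨x, rfl⟩ := ha
    obtain ⟨y, rfl⟩ := hb
    obtain ⟨g, hg, -⟩ := rf_br (P := P) (H := H) hF i j k hij hjk hk
    exact ⟨g x y, (hg x y).symm⟩
  nondeg i j k hij hjk hk a ha b hb h := by
    obtain ⟨x, rfl⟩ := ha
    obtain ⟨y, rfl⟩ := hb
    obtain ⟨g, hg, h0⟩ := rf_br (P := P) (H := H) hF i j k hij hjk hk
    rw [hg] at h
    have hz : rf P H hF i k 0 = 1 := WEnv.hom_zero (rf_add hF i k)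
    have h1 := rf_inj hF i k (hij.trans hjk) hk (h.trans hz.symm)
    rcases h0 x y h1 with rfl | rfl
    · exact Or.inl (WEnv.hom_zero (rf_add hF i j))
    · exact Or.inr (WEnv.hom_zero (rf_add hF j k))
  card i j hij hj := by
    have h : Function.Injective (rf P H hF i j) := fun x y h => rf_inj hF i j hij hj h
    exact Nat.card_range_of_injective h
  one_lt := by
    have := finite_F E.toWEnv
    exact Finite.one_lt_card

/-! ### The grown group -/

omit [Finite G] hF in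
/-- the grown group. -/
def S5 (Gr : UFive.Grown E) : Subgroup G := Gr.A ⊔ Gr.Bb ⊔ Gr.C ⊔ Gr.Z ⊔ Gr.P ⊔ Gr.R

omit [Finite G] hF in
theorem A_le_S5 : Gr.A ≤ S5 Gr := le_sup_left.trans (le_sup_left.trans (le_sup_left.trans
  (le_sup_left.trans le_sup_left)))
omit [Finite G] hF in
theorem B_le_S5 : Gr.Bb ≤ S5 Gr := le_sup_right.trans (le_sup_left.trans (le_sup_left.trans
  (le_sup_left.trans le_sup_left)))
omit [Finite G] hF in
theorem C_le_S5 : Gr.C ≤ S5 Gr := le_sup_right.trans (le_sup_left.trans (le_sup_left.trans le_sup_left))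
omit [Finite G] hF in
theorem Z_le_S5 : Gr.Z ≤ S5 Gr := le_sup_right.trans (le_sup_left.trans le_sup_left)
omit [Finite G] hF in
theorem P_le_S5 : Gr.P ≤ S5 Gr := le_sup_right.trans le_sup_left
omit [Finite G] hF in
theorem R_le_S5 : Gr.R ≤ S5 Gr := le_sup_right

theorem rf_mem (i j : ℕ) (x : F) : rf P H hF i j x ∈ S5 Gr := by
  unfold rf
  split
  · exact A_le_S5 (a_memA _ _)
  · exact R_le_S5 (sig_mem _ _)
  · exact R_le_S5 (sig_mem _ _)
  · exact A_le_S5 (a_memA _ _)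
  · exact P_le_S5 (rho_mem _ _)
  · exact B_le_S5 (b_memB hF _)
  · exact P_le_S5 (rho_mem _ _)
  · exact C_le_S5 (c_memC _ _)
  · exact C_le_S5 (c_memC _ _)
  · exact Z_le_S5 (f_memZ _)
  · exact (S5 Gr).one_mem

/-- normal form in `P`. -/
theorem P_formF {g : G} (hg : g ∈ Gr.P) : ∃ x u v, g = P.f x * (rho P H false u * rho P H true v) := by
  obtain ⟨u, v, h⟩ := exists_vi (P := P) (tv Gr g)
  have hm : rho P H false u * rho P H true v ∈ Gr.P := Gr.P.mul_mem (rho_mem _ _) (rho_mem _ _)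
  have h1 : tv Gr g = tv Gr (rho P H false u * rho P H true v) := by
    rw [h, tv_mul (rho_mem _ _) (rho_mem _ _), tv_rho, tv_rho]
  obtain ⟨r, hr, h2⟩ := (tv_eq_iff hg hm).1 h1
  obtain ⟨x, rfl⟩ := Eps.exists_f hF hr
  exact ⟨x, u, v, h2⟩

theorem R_formF {g : G} (hg : g ∈ Gr.R) : ∃ x u v, g = P.b hF x * (sig P H false u * sig P H true v) := by
  obtain ⟨x, u, v, h⟩ := P_formF (P := P) (H := H) hF (na_R hg)
  refine ⟨x, u, v, ?_⟩
  have h1 := congrArg (fun g => E.na * g * E.na⁻¹) h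
  beta_reduce at h1
  rw [na_na] at h1
  rw [h1, ← na_fF hF]; unfold sig; group

theorem S5_eq : S5 Gr = closure {g | ∃ i j, i < j ∧ j < 5 ∧ ∃ x, rf P H hF i j x = g} := by
  have hm : ∀ i j, i < j → j < 5 → ∀ x, rf P H hF i j x ∈
      closure {g | ∃ i j, i < j ∧ j < 5 ∧ ∃ x, rf P H hF i j x = g} :=
    fun i j hij hj x => subset_closure ⟨i, j, hij, hj, x, rfl⟩
  apply le_antisymm
  · refine sup_le (sup_le (sup_le (sup_le (sup_le ?_ ?_) ?_) ?_) ?_) ?_
    · intro g hg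
      obtain ⟨s, s', rfl⟩ := Eps.exists_a (P := P) hg
      exact mul_mem (hm 0 1 (by omega) (by omega) s) (hm 3 4 (by omega) (by omega) s')
    · intro g hg
      obtain ⟨x, rfl⟩ := Eps.exists_b' (P := P) hF hg
      exact hm 1 3 (by omega) (by omega) x
    · intro g hg
      obtain ⟨s, s', rfl⟩ := Eps.exists_c (P := P) hg
      exact mul_mem (hm 0 3 (by omega) (by omega) s) (hm 1 4 (by omega) (by omega) s')
    · intro g hg
      obtain ⟨x, rfl⟩ := Eps.exists_f (P := P) hF hg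
      exact hm 0 4 (by omega) (by omega) x
    · intro g hg
      obtain ⟨x, u, v, rfl⟩ := P_formF (P := P) (H := H) hF hg
      exact mul_mem (hm 0 4 (by omega) (by omega) x)
        (mul_mem (hm 0 2 (by omega) (by omega) u) (hm 2 4 (by omega) (by omega) v))
    · intro g hg
      obtain ⟨x, u, v, rfl⟩ := R_formF (P := P) (H := H) hF hg
      exact mul_mem (hm 1 3 (by omega) (by omega) x)
        (mul_mem (hm 1 2 (by omega) (by omega) u) (hm 2 3 (by omega) (by omega) v))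
  · rw [closure_le]
    rintro g ⟨i, j, -, -, x, rfl⟩
    exact rf_mem hF i j x

end Cfsg.Agent.StdRank2.SC.Five

namespace Cfsg.Agent.StdRank2.SC.Five

open Subgroup Cfsg.Agent.UTRec Cfsg.Agent.SylowL.Lev Cfsg.Agent.SylowL.UT

/-- recognition of the group generated by the root groups. -/
theorem roots_exists_equiv {G : Type*} [Group G] {m q : ℕ} {X : ℕ → ℕ → Subgroup G} (h : Roots m q X)
    (h4 : 4 ≤ m) (S : Subgroup G) (hS : ∀ i j, i < j → j < m → X i j ≤ S)
    (hgen : S ≤ closure {g | ∃ i j, i < j ∧ j < m ∧ g ∈ X i j}) :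
    ∃ (F : Type) (_ : Field F) (_ : Finite F), Nat.card F = q ∧ Nonempty (S ≃* UT m F) ∧
      Nat.card S = q ^ (m * (m - 1) / 2) := by
  classical
  obtain ⟨F, iF, iFi, x, hF, hrel, hX⟩ := h.exists_rel h4
  refine ⟨F, iF, iFi, hF, ?_⟩
  have : Fintype F := Fintype.ofFinite F
  have hcF : Nat.card (UT m F) = q ^ (m * (m - 1) / 2) := by
    rw [StdRank2.UTn.Coord.card_UT, ← Nat.card_eq_fintype_card, hF]
  have h0n : (⟨0, by omega⟩ : Fin m) < ⟨m - 1, by omega⟩ := Fin.lt_def.2 (by simp; omega)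
  have hinj : Function.Injective (hom hrel) := by
    refine hom_injective hrel (i0 := ⟨0, by omega⟩) (i1 := ⟨m - 1, by omega⟩) rfl
      (show m - 1 + 1 = m by omega) h0n fun a ha => ?_
    have h1 : Function.Injective (x ⟨0, by omega⟩ ⟨m - 1, by omega⟩) := by
      have h2 := hX _ _ h0n
      have h3 : Nat.card (Set.range (x ⟨0, by omega⟩ ⟨m - 1, by omega⟩)) = Nat.card F := by
        rw [h2, hF]
        exact h.card 0 (m - 1) (by omega) (by omega)
      have h5 : Function.Surjective (Set.rangeFactorization (x ⟨0, by omega⟩ ⟨m - 1, by omega⟩)) :=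
        Set.rangeFactorization_surjective
      have h6 := (Function.Surjective.bijective_of_nat_card_le h5 (by rw [h3])).1
      intro a b hab
      exact h6 (Subtype.ext hab)
    have h2 : x ⟨0, by omega⟩ ⟨m - 1, by omega⟩ 0 = 1 := hrel.zero h0n
    exact h1 (ha.trans h2.symm)
  have hr : (hom hrel).range ≤ S := by
    rw [range_hom, Subgroup.closure_le]
    rintro g ⟨k, l, hkl, b, rfl⟩
    have h1 : x k l b ∈ (X k l : Set G) := by rw [← hX k l hkl]; exact ⟨b, rfl⟩
    exact hS k l hkl l.2 h1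
  have e1 : UT m F ≃* (hom hrel).range := MonoidHom.ofInjective hinj
  have hr' : (hom hrel).range = S := by
    refine le_antisymm hr (hgen.trans ?_)
    rw [closure_le]
    rintro g ⟨i, j, hij, hj, hg⟩
    have h1 : g ∈ Set.range (x ⟨i, by omega⟩ ⟨j, hj⟩) := by
      rw [hX ⟨i, by omega⟩ ⟨j, hj⟩ (Fin.lt_def.2 hij)]; exact hg
    obtain ⟨b, rfl⟩ := h1
    rw [range_hom]
    exact subset_closure ⟨_, _, Fin.lt_def.2 hij, b, rfl⟩
  have e : S ≃* UT m F := (MulEquiv.subgroupCongr hr').symm.trans e1.symm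
  exact ⟨⟨e⟩, by rw [Nat.card_congr e.toEquiv, hcF]⟩

end Cfsg.Agent.StdRank2.SC.Five

namespace Cfsg.Agent.StdRank2.SC.Five

open Subgroup Cfsg.Agent.StdRank2.UFour Cfsg.Agent.StdRank2.UFive
open Cfsg.Agent.SylowL.UT (UT)

variable {F : Type*} [Field F] [CharP F 2] {B : Bar F} {G : Type*} [Group G] [Finite G]
variable {E : UFive.Env B G} {Gr : UFive.Grown E} {P : Eps (ag Gr)}

theorem XF_le_S5 {H : Hp E} (hF : B.s P.e = P.e + 1) (i j : ℕ) : XF P H hF i j ≤ S5 Gr := by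
  rintro _ ⟨x, rfl⟩
  exact rf_mem hF i j x

/-- **Field case**: `S5 Gr ≃* UT₅(R)`, `|R| = |F|`. -/
theorem field_UT (hF : B.s P.e = P.e + 1) : ∃ (R : Type) (_ : Field R) (_ : Finite R),
    Nat.card R = Nat.card F ∧ Nonempty (S5 Gr ≃* UT 5 R) ∧ Nat.card (S5 Gr) = Nat.card F ^ 10 := by
  obtain ⟨H⟩ := exists_Hp (E := E)
  have h := roots_exists_equiv (roots (P := P) (H := H) hF) (by norm_num) (S5 Gr)
    (fun i j _ _ => XF_le_S5 hF i j) (by
      rw [S5_eq (P := P) (H := H) hF]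
      apply Subgroup.closure_mono
      rintro g ⟨i, j, hij, hj, x, rfl⟩
      exact ⟨i, j, hij, hj, x, rfl⟩)
  exact h

end Cfsg.Agent.StdRank2.SC.Five
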