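import Cfsg.Agent.StdRank2.SC.FiveI

/-!
# Structure constants of `U₅(q)`: `[aᵢ s, R_j u]` mod `C Z`, `[P_m u, R_j v]`, `[P_m u, P_i v]`

`tal_a_re : tal (aᵢ s) (re j u) = [i = j] vi i (s̄ u) + sp (y s̄ u)`, `ga_pe_re`, `ga_p2`, `pi_pe`.
-/

set_option autoImplicit false
set_option linter.unusedSectionVars false

namespace Cfsg.Agent.StdRank2.SC.Five

open Subgroup Cfsg.Agent.StdRank2.UFour Cfsg.Agent.StdRank2.UFive
open Cfsg.Agent.StdRank2.SC.Eps (lt tr_lt)

variable {F : Type*} [Field F] [CharP F 2] {B : Bar F} {G : Type*} [Group G]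
variable {E : UFive.Env B G} {Gr : UFive.Grown E}

section Fld

theorem mk0_ne {B : Bar F} {k : B.K} (h : k ≠ 0) : (k : F) ≠ 0 := fun h1 => h (Subtype.ext h1)

/-- facts on a norm one element. -/
structure Na (B : Bar F) (a : Fˣ) : Prop where
  nm : B.nm (a : F) = 1
  s : B.s (a : F) = (a : F)⁻¹
  s' : B.s ((a : F)⁻¹) = a
  one : (a : F) ≠ 1
  two : (a : F) * a ≠ 1
  three : (a : F) * a * a ≠ 1
  four : (a : F) * a * (a * a) ≠ 1
  six : (a : F) * a * a * (a * a * a) ≠ 1

theorem exists_Na (E : WEnv B G) : ∃ a : Fˣ, Na B a := by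
  obtain ⟨a, ha, ha3⟩ := exists_norm B (lam := (E.lam : B.K)) E.lam.ne_zero E.lam_ne
  have ha1 : (a : F) ≠ 1 := by intro h; apply ha3; rw [h, one_pow]
  have h3 : (a : F) * a * a ≠ 1 := by
    intro h; apply ha3; rw [← h]; ring
  refine ⟨a, ha, s_norm ha, ?_, ha1, sq_ne_one ha1, h3, sq_ne_one (sq_ne_one ha1), sq_ne_one h3⟩
  rw [← s_norm ha, B.invol]

end Fld

variable (P : Eps (ag Gr))

/-- coordinates of `[aᵢ s, R_j u]` in `V`. -/
noncomputable def Dc (l i j : Bool) (s u : F) : F := co P l (tal Gr (P.a i s) (re P j u))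

/-- coordinates of `[P_i u, R_j v]` in `C`. -/
noncomputable def Ec (l i j : Bool) (u v : F) : F := cco P l (ga (pe P i u) (re P j v))

variable {P}

theorem Dc_add_left (l i j : Bool) (s s' u : F) : Dc P l i j (s + s') u = Dc P l i j s u + Dc P l i j s' u := by
  rw [Dc, Eps.a_add, tal_mul_left (a_memA i s) (a_memA i s') (re_mem j u), co_add]; rfl

theorem Dc_add_right (l i j : Bool) (s u u' : F) : Dc P l i j s (u + u') = Dc P l i j s u + Dc P l i j s u' := by
  rw [Dc, tal_congr (a_memA i s) (re_mem j _) (Gr.R.mul_mem (re_mem j u) (re_mem j u')) (tr'_re_add j u u'),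
    tal_mul_right (a_memA i s) (re_mem j u) (re_mem j u'), co_add]; rfl

theorem Dc_T [Finite G] {g : G} {μ : Fˣ} {ν : B.Kˣ} {ω : Fˣ} (hg : W5 E g μ ν ω) (l i j : Bool) (s u : F) :
    Dc P l i j (μ * s) (ω * u) = B.s μ * ω * Dc P l i j s u := by
  rw [Dc, Dc, ← co_T hg, ← tal_T hg.mem (a_memA i s) (re_mem j u), Eps.T_a hg.toWt,
    tal_congr (a_memA i _) (T_R hg.mem (re_mem j u)) (re_mem j _) (tr'_T_re hg j u)]

/-- a biadditive equivariant function. -/
theorem equi_K1 {f : F → F → F} (h0 : ∀ u, f 0 u = 0)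
    (hT : ∀ {g : G} {μ : Fˣ} {ν : B.Kˣ} {ω : Fˣ}, W5 E g μ ν ω → ∀ s u, f (μ * s) (ω * u) = B.s μ * ω * f s u)
    (k : B.K) (s u : F) : f ((k : F) * s) u = (k : F) * f s u := by
  by_cases hk : k = 0
  · rw [hk]; change f (0 * s) u = 0 * f s u
    rw [zero_mul, zero_mul, h0]
  · obtain ⟨g, hg⟩ := W5.k1 E (Units.mk0 k hk)
    have h2 := hT hg s u
    rw [Units.val_one, one_mul, mul_one] at h2
    change f ((k : F) * s) u = B.s (k : F) * f s u at h2
    rwa [B.s_K] at h2

theorem equi_K2 {f : F → F → F} (h0 : ∀ s, f s 0 = 0)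
    (hT : ∀ {g : G} {μ : Fˣ} {ν : B.Kˣ} {ω : Fˣ}, W5 E g μ ν ω → ∀ s u, f (μ * s) (ω * u) = B.s μ * ω * f s u)
    (k : B.K) (s u : F) : f s ((k : F) * u) = (k : F) * f s u := by
  by_cases hk : k = 0
  · rw [hk]; change f s (0 * u) = 0 * f s u
    rw [zero_mul, zero_mul, h0]
  · obtain ⟨g, hg⟩ := W5.kk E (Units.mk0 k hk)
    have h2 := hT hg s u
    rw [Units.val_one, one_mul, map_one, one_mul] at h2
    exact h2

theorem zero_of_add {f : F → F} (h : ∀ x y, f (x + y) = f x + f y) : f 0 = 0 := by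
  have h1 := h 0 0
  rw [add_zero] at h1
  exact left_eq_add.1 h1

theorem Dc_eq [Finite G] (l i j : Bool) (s u : F) : Dc P l i j s u = Dc P l i j 1 1 * B.s s * u := by
  obtain ⟨a, ha⟩ := exists_Na E.toWEnv
  obtain ⟨g, -, hg⟩ := W5.a1 E ha.nm
  have hT : ∀ {g : G} {μ : Fˣ} {ν : B.Kˣ} {ω : Fˣ}, W5 E g μ ν ω → ∀ s u,
    Dc P l i j (μ * s) (ω * u) = B.s μ * ω * Dc P l i j s u := fun hg s u => Dc_T hg l i j s u
  have hane : (a : F) ≠ 0 := a.ne_zero
  refine bil_one B (Dc_add_left l i j) (Dc_add_right l i j)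
    (equi_K1 (E := E) (fun u => zero_of_add (f := fun x => Dc P l i j x u) (fun x y => Dc_add_left l i j x y u)) hT)
    (equi_K2 (E := E) (fun s => zero_of_add (Dc_add_right l i j s)) hT)
    (l := (a : F)) (m := (a : F)⁻¹ * (a : F)⁻¹) (n := (a : F)⁻¹ * (a : F)⁻¹ * (a : F)⁻¹) ?_ ?_ ?_ ?_ s u
  · intro s u
    have h2 := hT hg s u
    rw [Units.val_mul, Units.val_inv_eq_inv_val, ha.s] at h2
    rw [h2]; ring
  · intro h
    apply ha.two
    field_simp at h
    linear_combination h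
  · intro h
    apply ha.six
    rw [map_mul, ha.s'] at h
    field_simp at h
    linear_combination h
  · intro h
    apply ha.four
    rw [map_mul, ha.s', ha.s] at h
    field_simp at h
    linear_combination h

/-! ### The constants `dd l i j` -/

theorem Dc_sum_j [Finite G] (l i : Bool) :
    Dc P l i false 1 1 + Dc P l i true 1 1 = if l = i then 1 else 0 := by
  have h1 := tal_congr (a_memA (P := P) i 1) (Gr.R.mul_mem (re_mem false 1) (re_mem true 1)) (p2_mem _)
    (tr'_re_sum (P := P) 1)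
  rw [tal_mul_right (a_memA i 1) (re_mem _ 1) (re_mem _ 1), tal_a_p2, map_one, one_mul, tp_w] at h1
  have h2 := congrArg (co P l) h1
  rw [co_add] at h2
  change Dc P l i false 1 1 + Dc P l i true 1 1 = _ at h2
  rw [h2]
  split_ifs with h
  · rw [h, co_vi]
  · have h3 : i = !l := by cases l <;> cases i <;> simp_all
    rw [h3, co_vi']

theorem Dc_sum_i (l j : Bool) :
    Dc P l false j 1 1 + Dc P l true j 1 1 = if l = j then 1 else 0 := by
  have h1 := tal_mul_left (a_memA (P := P) false 1) (a_memA (P := P) true 1) (re_mem (P := P) j 1)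
  rw [← Eps.xa_eq, tal, rule4 (re_mem j 1), re, na_na, tv_pe] at h1
  have h2 := congrArg (co P l) h1
  rw [co_add] at h2
  change _ = Dc P l false j 1 1 + Dc P l true j 1 1 at h2
  rw [← h2]
  split_ifs with h
  · rw [h, co_vi]
  · have h3 : j = !l := by cases l <;> cases j <;> simp_all
    rw [h3, co_vi']

theorem Dc_t (l i j : Bool) : Dc P (!l) (!i) (!j) 1 1 = Dc P l i j 1 1 := by
  have h1 := tal_t (a_memA (P := P) i 1) (re_mem (P := P) j 1)
  rw [Eps.t_a, tal_congr (a_memA (!i) 1) (t_R (re_mem j 1)) (re_mem (!j) 1) (tr'_t_re j 1)] at h1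
  have h2 := congrArg (co P (!l)) h1
  rw [co_t, Bool.not_not] at h2
  exact h2

variable (P) in
/-- the constant `y`. -/
noncomputable def yc : F := Dc P false true true 1 1

theorem Dc_eq' [Finite G] (l i j : Bool) (s u : F) :
    Dc P l i j s u = ((if l = i ∧ i = j then 1 else 0) + yc P) * B.s s * u := by
  rw [Dc_eq]
  congr 2
  have key : ∀ i j, Dc P false i j 1 1 = (if false = i ∧ i = j then 1 else 0) + yc P := by
    have h1 := Dc_sum_j (P := P) false true
    have h2 := Dc_sum_i (P := P) false true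
    have h3 := Dc_sum_j (P := P) false false
    have hy : Dc P false true true 1 1 = yc P := rfl
    rw [hy] at h1 h2
    have e0 := Bar.add_self (yc P)
    simp only [Bool.false_eq_true, if_false, if_true] at h1 h2 h3
    have f1 : Dc P false true false 1 1 = yc P := by linear_combination h1 - e0
    have f2 : Dc P false false true 1 1 = yc P := by linear_combination h2 - e0
    have f3 : Dc P false false false 1 1 = 1 + yc P := by rw [f2] at h3; linear_combination h3 - e0
    intro i j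
    cases i <;> cases j
    · simp [f3]
    · simp [f2]
    · simp [f1]
    · simp [hy]
  cases l
  · exact key i j
  · have h1 := Dc_t (P := P) true i j
    change Dc P false (!i) (!j) 1 1 = _ at h1
    rw [← h1, key]
    congr 1
    cases i <;> cases j <;> simp

/-- **the commutator `[aᵢ s, R_j u]` in `V`.** -/
theorem tal_a_re [Finite G] (i j : Bool) (s u : F) :
    tal Gr (P.a i s) (re P j u) = (if i = j then vi P i (B.s s * u) else 0) + sp Gr (yc P * B.s s * u) := by
  refine co_ext (P := P) fun l => ?_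
  have h := Dc_eq' (P := P) l i j s u
  rw [Dc] at h
  rw [h, co_add, co_sp]
  by_cases hij : i = j
  · rw [if_pos hij]
    by_cases hl : l = i
    · rw [if_pos ⟨hl, hij⟩, hl, co_vi]; ring
    · rw [if_neg (fun h => hl h.1)]
      have h3 : i = !l := by cases l <;> cases i <;> simp_all
      rw [h3, co_vi']; ring
  · rw [if_neg hij, if_neg (fun h => hij h.2), co_zero]; ring

/-! ### `[P_i u, R_j v]` -/

theorem Ec_add_left (l i j : Bool) (s s' u : F) : Ec P l i j (s + s') u = Ec P l i j s u + Ec P l i j s' u := by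
  have h1 := re_mem (P := P) j u
  rw [Ec, ga_congr (pe_mem i _) (Gr.P.mul_mem (pe_mem i s) (pe_mem i s')) h1 (tv_pe_add i s s'),
    ga_mul_left (pe_mem i s) (pe_mem i s') h1, cco_mul l (ga_mem (pe_mem i s) h1) (ga_mem (pe_mem i s') h1)]
  rfl

theorem Ec_add_right (l i j : Bool) (s u u' : F) : Ec P l i j s (u + u') = Ec P l i j s u + Ec P l i j s u' := by
  have h1 := pe_mem (P := P) i s
  rw [Ec, ga_congr' h1 (re_mem j _) (Gr.R.mul_mem (re_mem j u) (re_mem j u')) (tr'_re_add j u u'),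
    ga_mul_right h1 (re_mem j u) (re_mem j u'), cco_mul l (ga_mem h1 (re_mem j u)) (ga_mem h1 (re_mem j u'))]
  rfl

theorem Ec_T [Finite G] {g : G} {μ : Fˣ} {ν : B.Kˣ} {ω : Fˣ} (hg : W5 E g μ ν ω) (l i j : Bool) (s u : F) :
    Ec P l i j (B.s μ * ω * s) (ω * u) = μ * ((ν : B.K) : F) * Ec P l i j s u := by
  rw [Ec, Ec, ← cco_T hg.toWt l (ga_mem (pe_mem i s) (re_mem j u)), ← ga_conj,
    ga_congr (pe_mem i _) (T_P hg.mem (pe_mem i s)) (re_mem j _) (tv_T_pe hg i s).symm,
    ga_congr' (T_P hg.mem (pe_mem i s)) (re_mem j _) (T_R hg.mem (re_mem j u)) (tr'_T_re hg j u).symm]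

theorem Ec_K1 [Finite G] (l i j : Bool) (k : B.K) (s u : F) : Ec P l i j ((k : F) * s) u = (k : F) * Ec P l i j s u := by
  by_cases hk : k = 0
  · rw [hk]; change Ec P l i j (0 * s) u = 0 * Ec P l i j s u
    rw [zero_mul, zero_mul]
    exact zero_of_add (f := fun x => Ec P l i j x u) (fun x y => Ec_add_left l i j x y u)
  · obtain ⟨g, hg⟩ := W5.k1 E (Units.mk0 k hk)
    have h2 := Ec_T (P := P) hg l i j s u
    rw [Units.val_one, one_mul, mul_one, Units.val_one, B.K.coe_one, mul_one] at h2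
    change Ec P l i j (B.s (k : F) * s) u = (k : F) * Ec P l i j s u at h2
    rwa [B.s_K] at h2

theorem Ec_K2 [Finite G] (l i j : Bool) (k : B.K) (s u : F) : Ec P l i j s ((k : F) * u) = (k : F) * Ec P l i j s u := by
  by_cases hk : k = 0
  · rw [hk]; change Ec P l i j s (0 * u) = 0 * Ec P l i j s u
    rw [zero_mul, zero_mul]
    exact zero_of_add (Ec_add_right l i j s)
  · obtain ⟨g, hg⟩ := W5.kk E (Units.mk0 k hk)
    have h2 := Ec_T (P := P) hg l i j s u
    rw [Units.val_one, one_mul, map_one, one_mul] at h2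
    change Ec P l i j ((k : F) * s) ((k : F) * u) = (k : F) * k * Ec P l i j s u at h2
    rw [Ec_K1, mul_assoc] at h2
    exact mul_left_cancel₀ (mk0_ne hk) h2

theorem Ec_eq [Finite G] (l i j : Bool) (s u : F) : Ec P l i j s u = Ec P l i j 1 1 * B.s s * u := by
  obtain ⟨a, ha⟩ := exists_Na E.toWEnv
  obtain ⟨g, -, hg⟩ := W5.a1 E ha.nm
  have hane : (a : F) ≠ 0 := a.ne_zero
  refine bil_one B (Ec_add_left l i j) (Ec_add_right l i j) (Ec_K1 l i j) (Ec_K2 l i j)
    (l := (a : F)⁻¹ * (a : F)⁻¹ * (a : F)⁻¹) (m := (a : F)⁻¹ * (a : F)⁻¹) (n := (a : F)) ?_ ?_ ?_ ?_ s u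
  · intro s u
    have h2 := Ec_T (P := P) hg l i j s u
    rw [Units.val_mul, Units.val_inv_eq_inv_val, ha.s, Units.val_one, B.K.coe_one, mul_one] at h2
    rw [← h2]
    congr 2; ring
  · intro h
    apply ha.six
    field_simp at h
    linear_combination -h
  · intro h
    apply ha.two
    rw [map_mul, ha.s'] at h
    field_simp at h
    linear_combination -h
  · intro h
    apply ha.four
    rw [map_mul, map_mul, ha.s'] at h
    have h3 : (a : F) * (a * a * (a * a)) = a * 1 := by rw [mul_one]; linear_combination h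
    exact mul_left_cancel₀ hane h3

theorem ga_coord [Finite G] (l m j : Bool) (u v : F) :
    cco P l (ga (pe P m u) (re P j v)) = Ec P l m j 1 1 * B.s u * v := Ec_eq l m j u v

/-- (r2). -/
theorem Ec_sum [Finite G] (l i : Bool) :
    Ec P l i false 1 1 + Ec P l i true 1 1 = if l = i then 1 else 0 := by
  have h0 := pe_mem (P := P) i 1
  have h1 := rule2 (a_memA (P := P) i 1) (p2_mem (Gr := Gr) (tp B 1))
  have h2 : E.p2 (tp B 1) * E.p2 (tp B 1) = E.xb 1 := by
    rw [← E.p2_mul, ← E.p2_K]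
    congr 1
    ext
    · rw [Tp.mul_w, Tp.ofK_w]; exact Bar.add_self _
    · rw [Tp.mul_c, Tp.ofK_c, Bar.add_self, zero_add, tp_w, map_one, mul_one]; rfl
  rw [h2] at h1
  have h3 : (ag Gr).th (P.a i 1) (E.xb 1) = P.c i 1 := by
    rw [AGrown.th_one (D := ag Gr) (a_memA (P := P) i 1)]
    exact Eps.nb_a (P := P) i 1
  rw [h3] at h1
  change ga (pe P i 1) (E.p2 (tp B 1)) = P.c i 1 at h1
  rw [← ga_congr' h0 (Gr.R.mul_mem (re_mem false 1) (re_mem true 1)) (p2_mem _) (tr'_re_sum (P := P) 1),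
    ga_mul_right h0 (re_mem _ 1) (re_mem _ 1)] at h1
  have h4 := congrArg (cco P l) h1
  rw [cco_mul l (ga_mem h0 (re_mem _ 1)) (ga_mem h0 (re_mem _ 1))] at h4
  change Ec P l i false 1 1 + Ec P l i true 1 1 = _ at h4
  rw [h4]
  split_ifs with h
  · rw [h, cco_c]
  · have h3 : i = !l := by cases l <;> cases i <;> simp_all
    rw [h3, cco_c']

theorem ga_p2 [Finite G] (m : Bool) (w : F) (q : Tp B) : ga (pe P m w) (E.p2 q) = P.c m (B.s w * q.w) := by
  have h0 := pe_mem (P := P) m w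
  have h1 : ga (pe P m w) (E.p2 q) = ga (pe P m w) (re P false q.w) * ga (pe P m w) (re P true q.w) := by
    rw [← ga_mul_right h0 (re_mem _ _) (re_mem _ _)]
    refine ga_congr' h0 (p2_mem _) (Gr.R.mul_mem (re_mem _ _) (re_mem _ _)) ?_
    rw [tr'_re_sum, tr'_p2, tr'_p2, tp_w]
  have h2 := ga_mem h0 (re_mem (P := P) false q.w)
  have h3 := ga_mem h0 (re_mem (P := P) true q.w)
  rw [h1]
  refine cco_ext (P := P) (Gr.C.mul_mem h2 h3) (c_memC _ _) fun l => ?_
  rw [cco_mul l h2 h3, ga_coord, ga_coord]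
  have h4 := Ec_sum (P := P) l m
  have h5 : Ec P l m false 1 1 * B.s w * q.w + Ec P l m true 1 1 * B.s w * q.w =
      (if l = m then 1 else 0) * (B.s w * q.w) := by rw [← h4]; ring
  rw [h5]
  split_ifs with h
  · rw [h, cco_c, one_mul]
  · have h3 : m = !l := by cases l <;> cases m <;> simp_all
    rw [h3, cco_c', zero_mul]

/-- `[P_m w, P_i v]`. -/
theorem pi_pe [Finite G] (m i : Bool) (w v : F) :
    pi (pe P m w) (pe P i v) = (ag Gr).psi (P.pv i 1) (P.pv m (B.s w * v)) := by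
  have h := rule3 (a_memA (P := P) i 1) (pe_mem (P := P) m w) (p2_mem (Gr := Gr) (tp B v))
  rw [ga_p2, tp_w] at h
  exact h

theorem pi_p1 [Finite G] (m : Bool) (w v : F) :
    pi (pe P m w) (E.p1 (tp B v)) = (ag Gr).psi (P.pv false 1) (P.pv m (B.s w * v)) *
      (ag Gr).psi (P.pv true 1) (P.pv m (B.s w * v)) := by
  have h0 := pe_mem (P := P) m w
  rw [← pi_pe, ← pi_pe, ← pi_mul_right (pe_mem false v) (pe_mem true v) h0]
  exact pi_congr_right (Gr.p1_mem _) (Gr.P.mul_mem (pe_mem _ _) (pe_mem _ _)) h0 (tv_pe_sum v).symm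

/-- (r3) for `R_j`. -/
theorem rule3' [Finite G] (m i j : Bool) (s w u : F) :
    (if i = j then pi (pe P m w) (pe P i (B.s s * u)) else 1) *
      pi (pe P m w) (E.p1 (tp B (yc P * B.s s * u))) = AGrown.ph (P.a i s) (ga (pe P m w) (re P j u)) := by
  have h0 := pe_mem (P := P) m w
  rw [← rule3 (a_memA i s) h0 (re_mem j u)]
  have h1 : tv Gr (al Gr (P.a i s) (re P j u)) =
      tv Gr ((if i = j then pe P i (B.s s * u) else 1) * E.p1 (tp B (yc P * B.s s * u))) := by
    have h2 := tal_a_re (P := P) i j s u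
    change tv Gr (al Gr (P.a i s) (re P j u)) = _ at h2
    rw [h2, tv_mul (by split_ifs; exacts [pe_mem _ _, Gr.P.one_mem]) (Gr.p1_mem _)]
    congr 1
    split_ifs
    · rfl
    · exact tv_one.symm
  rw [pi_congr_right (al_mem (a_memA i s) (re_mem j u)) (Gr.P.mul_mem (by
    split_ifs; exacts [pe_mem _ _, Gr.P.one_mem]) (Gr.p1_mem _)) h0 h1,
    pi_mul_right (by split_ifs; exacts [pe_mem _ _, Gr.P.one_mem]) (Gr.p1_mem _) h0]
  congr 1
  split_ifs
  · rfl
  · rw [pi_swap Gr.P.one_mem h0, pi_Z h0 Gr.Z.one_mem]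

theorem ga_form [Finite G] (m j : Bool) (w u : F) : ga (pe P m w) (re P j u) =
    P.c false (Ec P false m j 1 1 * B.s w * u) * P.c true (Ec P true m j 1 1 * B.s w * u) := by
  rw [← ga_coord, ← ga_coord]
  exact cco_spec (ga_mem (pe_mem m w) (re_mem j u))

theorem Ec_t (l i j : Bool) : Ec P (!l) (!i) (!j) 1 1 = Ec P l i j 1 1 := by
  have h0 := pe_mem (P := P) i 1
  have h1 := re_mem (P := P) j 1
  have h2 := ga_conj E.t (pe P i 1) (re P j 1)
  rw [ga_congr (t_P h0) (pe_mem (!i) 1) (t_R h1) (tv_t_pe i 1),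
    ga_congr' (pe_mem (!i) 1) (t_R h1) (re_mem (!j) 1) (tr'_t_re j 1)] at h2
  have h3 := congrArg (cco P (!l)) h2
  rw [cco_t (!l) (ga_mem h0 h1), Bool.not_not] at h3
  exact h3

theorem ph_form (i : Bool) (s x y : F) : AGrown.ph (P.a i s) (P.c false x * P.c true y) =
    (ag Gr).psi (P.pv i s) (P.pv false x) * (ag Gr).psi (P.pv i s) (P.pv true y) :=
  AGrown.ph_mul_right (D := ag Gr) (a_memA i s) (c_memC _ _) (c_memC _ _)

end Cfsg.Agent.StdRank2.SC.Five
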