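import Cfsg.Agent.StdRank2.SC.FiveX

/-!
# Structure constants of `U₅(q)`, field case: exact relations

`[aᵢ s, sig i u] = rho i (s̄ u)`, `[aᵢ s, sig (!i) u] = 1`, `[rho m u, sig m v] = 1`, `[rho m u, sig (!m) v] = c_m (ū v)`,
`[rho m, rho m] = 1`, `[rho 0 w, rho 1 v] = f (w̄ v)`, `rho`, `sig` additive.
-/

set_option autoImplicit false
set_option linter.unusedSectionVars false

namespace Cfsg.Agent.StdRank2.SC.Five

open Subgroup Cfsg.Agent.StdRank2.UFour Cfsg.Agent.StdRank2.UFive
open Cfsg.Agent.StdRank2.SC.Eps (lt tr_lt)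

variable {F : Type*} [Field F] [CharP F 2] {B : Bar F} {G : Type*} [Group G] [Finite G]
variable {E : UFive.Env B G} {Gr : UFive.Grown E} {P : Eps (ag Gr)} {H : Hp E}
variable (hF : B.s P.e = P.e + 1)
include hF

theorem rho_addF (i : Bool) (u u' : F) : rho P H i (u + u') = rho P H i u * rho P H i u' := by
  rw [rho_add, pi_field hF, mul_one]

theorem sig_addF (i : Bool) (u u' : F) : sig P H i (u + u') = sig P H i u * sig P H i u' := by
  rw [sig, rho_addF hF]; unfold sig; group

theorem rho_zeroF (i : Bool) : rho P H i 0 = 1 := WEnv.hom_zero (rho_addF hF i)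

theorem ga_alF (i j : Bool) (s u u' : F) : ga (al Gr (P.a i s) (sig P H j u')) (sig P H j u) = 1 := by
  have h1 := tal_a_sig (P := P) (H := H) i j s u' (yc_field hF)
  have hm := al_mem (Gr := Gr) (a_memA (P := P) i s) (sig_mem (P := P) (H := H) j u')
  by_cases hij : i = j
  · rw [if_pos hij] at h1
    rw [ga_congr hm (pe_mem i (B.s s * u')) (sig_mem j u) h1, ga_congr' (pe_mem i _) (sig_mem j u) (re_mem j u)
      (tr'_sig_re j u), ← hij, (ga_field hF i _ _).1]
  · rw [if_neg hij] at h1
    exact ga_Z (sig_mem j u) ((tv_zero_iff hm).1 h1)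

theorem ac_one (i j : Bool) (s u : F) : ac Gr (P.a i s) (sig P H j u) = 1 := by
  have hfin := finite_F E.toWEnv
  have hm : ∀ s u, ac Gr (P.a i s) (sig P H j u) ∈ Gr.C := fun s u => ac_mem (a_memA i s) (sig_mem j u)
  refine cco_ext (P := P) (hm s u) Gr.C.one_mem fun l => ?_
  rw [cco_one]
  refine killC (E := E) (f := fun s u => cco P l (ac Gr (P.a i s) (sig P H j u))) ?_ ?_ ?_ s u
  · intro s s' u
    rw [Eps.a_add, (al_mul_left (a_memA i s) (a_memA i s') (sig_mem j u)).2, cco_mul l (hm s u) (hm s' u)]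
  · intro s u u'
    rw [sig_addF hF, (al_mul_right (a_memA i s) (sig_mem j u) (sig_mem j u')).2, ga_alF hF, mul_one,
      cco_mul l (hm s u) (hm s u')]
  · intro g μ ν ω hg s u
    rw [← cco_T hg.toWt l (hm s u), ← (al_T hg.mem (a_memA i s) (sig_mem j u)).2, Eps.T_a hg.toWt, sig_T hg]

/-- the target. -/
noncomputable def XX (P : Eps (ag Gr)) (H : Hp E) (i j : Bool) (s u : F) : G :=
  if i = j then rho P H i (B.s s * u) else 1

omit [Finite G] hF in
theorem XX_mem (i j : Bool) (s u : F) : XX P H i j s u ∈ Gr.P := by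
  unfold XX; split_ifs; exacts [rho_mem _ _, Gr.P.one_mem]

theorem tv_XX (i j : Bool) (s u : F) : tv Gr (al Gr (P.a i s) (sig P H j u)) = tv Gr (XX P H i j s u) := by
  have h1 := tal_a_sig (P := P) (H := H) i j s u (yc_field hF)
  change tv Gr _ = _ at h1
  rw [h1, XX]
  split_ifs
  · rw [tv_rho]
  · rw [tv_one]

theorem exists_zc (i j : Bool) (s u : F) : ∃ x, al Gr (P.a i s) (sig P H j u) = P.f x * XX P H i j s u := by
  obtain ⟨r, hr, h⟩ := (tv_eq_iff (al_mem (a_memA i s) (sig_mem j u)) (XX_mem i j s u)).1 (tv_XX hF i j s u)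
  obtain ⟨x, rfl⟩ := Eps.exists_f hF hr
  exact ⟨x, h⟩

theorem XX_add_left (i j : Bool) (s s' u : F) : XX P H i j (s + s') u = XX P H i j s' u * XX P H i j s u := by
  unfold XX
  split_ifs
  · rw [← rho_addF hF, map_add]; congr 1; ring
  · rw [one_mul]

theorem XX_add_right (i j : Bool) (s u u' : F) : XX P H i j s (u + u') = XX P H i j s u * XX P H i j s u' := by
  unfold XX
  split_ifs
  · rw [← rho_addF hF]; congr 1; ring
  · rw [one_mul]

omit hF in
theorem XX_T {g : G} {μ : Fˣ} {ν : B.Kˣ} {ω : Fˣ} (hg : W5 E g μ ν ω) (i j : Bool) (s u : F) :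
    g * XX P H i j s u * g⁻¹ = XX P H i j (μ * s) (ω * u) := by
  unfold XX
  split_ifs
  · rw [rho_T hg, map_mul]; congr 1; ring
  · group

/-- **the exact value of `[aᵢ s, sig j u]`.** -/
theorem al_eq_XX (i j : Bool) (s u : F) : al Gr (P.a i s) (sig P H j u) = XX P H i j s u := by
  have hfin := finite_F E.toWEnv
  choose z hz using fun s u => exists_zc (H := H) hF i j s u
  have hzm : ∀ x, P.f x ∈ Gr.Z := fun x => Eps.f_mem (P := P) x
  have hzero : z s u = 0 := by
    refine killZ (E := E) (f := z) ?_ ?_ ?_ s u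
    · intro s s' u
      refine Eps.f_inj hF ?_
      have h1 := (al_mul_left (a_memA (P := P) i s) (a_memA (P := P) i s') (sig_mem (P := P) (H := H) j u)).1
      rw [← Eps.a_add, ac_one hF] at h1
      have h2 : AGrown.ph (P.a i s) 1 = 1 := by unfold AGrown.ph; group
      rw [h2, one_mul, hz, hz, hz, XX_add_left hF] at h1
      have hc : Commute (XX P H i j s' u) (P.f (z s u)) := (cZP (hzm _) (XX_mem i j s' u)).symm
      have h3 : P.f (z (s + s') u) * (XX P H i j s' u * XX P H i j s u) =
          (P.f (z s' u) * P.f (z s u)) * (XX P H i j s' u * XX P H i j s u) := by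
        rw [h1]
        calc P.f (z s' u) * XX P H i j s' u * (P.f (z s u) * XX P H i j s u)
            = P.f (z s' u) * (XX P H i j s' u * P.f (z s u)) * XX P H i j s u := by group
          _ = _ := by rw [hc.eq]; group
      rw [mul_right_cancel h3, ← Eps.f_add, add_comm]
    · intro s u u'
      refine Eps.f_inj hF ?_
      have h1 := (al_mul_right (a_memA (P := P) i s) (sig_mem (P := P) (H := H) j u) (sig_mem (P := P) (H := H) j u')).1
      rw [← sig_addF hF, hz, hz, hz, XX_add_right hF] at h1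
      have hc : Commute (XX P H i j s u) (P.f (z s u')) := (cZP (hzm _) (XX_mem i j s u)).symm
      have h3 : P.f (z s (u + u')) * (XX P H i j s u * XX P H i j s u') =
          (P.f (z s u) * P.f (z s u')) * (XX P H i j s u * XX P H i j s u') := by
        rw [h1]
        calc P.f (z s u) * XX P H i j s u * (P.f (z s u') * XX P H i j s u')
            = P.f (z s u) * (XX P H i j s u * P.f (z s u')) * XX P H i j s u' := by group
          _ = _ := by rw [hc.eq]; group
      rw [mul_right_cancel h3, ← Eps.f_add]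
    · intro g μ ν ω hg s u
      refine Eps.f_inj hF ?_
      have h1 := (al_T hg.mem (a_memA (P := P) i s) (sig_mem (P := P) (H := H) j u)).1
      rw [Eps.T_a hg.toWt, sig_T hg, hz, hz] at h1
      have h2 : g * (P.f (z s u) * XX P H i j s u) * g⁻¹ =
          (g * P.f (z s u) * g⁻¹) * (g * XX P H i j s u * g⁻¹) := by group
      rw [h2, XX_T hg] at h1
      rw [mul_right_cancel h1]
      exact Eps.T_f hg.toWt _
  rw [hz, hzero, Eps.f_zero, one_mul]

/-- **exact relations, field case.** -/
theorem a_sigF (i : Bool) (s u : F) :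
    P.a i s * sig P H i u * (P.a i s)⁻¹ = rho P H i (B.s s * u) * sig P H i u := by
  rw [conj_al (Gr := Gr), ac_one hF, mul_one, al_eq_XX hF, XX, if_pos rfl]

theorem a_sigF' (i : Bool) (s u : F) : Commute (P.a i s) (sig P H (!i) u) := by
  have h := conj_al (Gr := Gr) (P.a i s) (sig P H (!i) u)
  rw [ac_one hF, mul_one, al_eq_XX hF, XX, if_neg (by cases i <;> simp), one_mul] at h
  exact WEnv.conj_eq_iff.1 h

theorem rho_sigF (m : Bool) (u v : F) : Commute (rho P H m u) (sig P H m v) :=
  comm_of_ga (by rw [ga_rho, (ga_field hF m u v).1])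

theorem rho_sigF' (m : Bool) (u v : F) :
    rho P H m u * sig P H (!m) v * (rho P H m u)⁻¹ = P.c m (B.s u * v) * sig P H (!m) v := by
  rw [ga_spec, ga_rho, (ga_field hF m u v).2]

theorem rho_rhoF (m : Bool) (u v : F) : Commute (rho P H m u) (rho P H m v) := by
  have h := pi_spec (rho P H m u) (rho P H m v)
  rw [pi_rho, pi_field hF, one_mul] at h
  exact WEnv.conj_eq_iff.1 h

theorem rho_rhoF' (u v : F) :
    rho P H false u * rho P H true v * (rho P H false u)⁻¹ = P.f (B.s u * v) * rho P H true v := by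
  rw [pi_spec, pi_rho, pi_field' hF]

theorem rho_injF (i : Bool) {u v : F} (h : rho P H i u = rho P H i v) : u = v := by
  have h1 := congrArg (tv Gr) h
  rw [tv_rho, tv_rho] at h1
  have h2 := congrArg chv h1
  rwa [chv_vi, chv_vi] at h2

theorem sig_injF (i : Bool) {u v : F} (h : sig P H i u = sig P H i v) : u = v := by
  have h1 := congrArg (fun g => E.na * g * E.na⁻¹) h
  beta_reduce at h1
  rw [na_sig, na_sig] at h1
  exact rho_injF hF i h1

end Cfsg.Agent.StdRank2.SC.Five
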