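import Cfsg.Agent.StdRank2.SC.FiveEF

/-!
# Structure constants of `U₅(q)`, split case: exact relations up to `Z_i`, `C_i`, `B_i`

`[aᵢ s, sig (!i) u] = 1`, `[aᵢ s, sig i u] = zf i m · rho i (s̄ u) · cᵢ x`.
-/

set_option autoImplicit false
set_option linter.unusedSectionVars false

namespace Cfsg.Agent.StdRank2.SC.Five

open Subgroup Cfsg.Agent.StdRank2.UFour Cfsg.Agent.StdRank2.UFive
open Cfsg.Agent.StdRank2.SC.Eps (lt tr_lt)

variable {F : Type*} [Field F] [CharP F 2] {B : Bar F} {G : Type*} [Group G] [Finite G]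
variable {E : UFive.Env B G} {Gr : UFive.Grown E} {P : Eps (ag Gr)} {H : Hp E}
variable (hS : B.s P.e = P.e)
include hS

omit [Finite G] hS in
theorem zf_memZ (i : Bool) (x : B.K) : P.zf i x ∈ Gr.Z := Eps.zf_mem (P := P) i x

omit [Finite G] in
theorem bi_memB (i : Bool) (x : B.K) : P.bi hS i x ∈ Gr.Bb := Eps.bi_mem (P := P) hS i x

omit [Finite G] in
/-- the `Z`-component of `[aᵢ s, bⱼ k]`. -/
theorem tz_diff (i : Bool) (s : F) (k : B.K) : (ag Gr).tz (P.a i s) (P.bi hS (!i) k) = 1 := by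
  refine AGrown.tz_eq (D := ag Gr) ?_
  rw [Eps.th_a_bi' hS, one_mul, one_mul, (Eps.comm_a_b hS i s k).eq, mul_inv_cancel_right]

omit [Finite G] in
theorem tz_same (i : Bool) (s : F) (k : B.K) : ∃ l, (ag Gr).tz (P.a i s) (P.bi hS i k) = P.zf i l := by
  obtain ⟨l, hl⟩ := Eps.conj_bi hS i s k
  refine ⟨l, AGrown.tz_eq (D := ag Gr) ?_⟩
  rw [Eps.th_a_bi hS, hl]

omit [Finite G] in
/-- `na (bi i k) na⁻¹ = zf i k`. -/
theorem na_bi (i : Bool) (k : B.K) : E.na * P.bi hS i k * E.na⁻¹ = P.zf i k := by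
  have h1 : ∀ i, ∃ l, E.na * P.bi hS i k * E.na⁻¹ = P.zf i l := by
    intro i
    have hb : P.bi hS i k ∈ Gr.Bb := bi_memB hS i k
    rw [← rule6 hb, Eps.xa_eq (P := P) 1,
      AGrown.tz_mul_left (D := ag Gr) (a_memA false 1) (a_memA true 1) hb]
    have e1 : ∀ a : G, AGrown.ph a 1 = 1 := fun a => by unfold AGrown.ph; group
    cases i
    · obtain ⟨l, hl⟩ := tz_same hS false 1 k
      have h2 := tz_diff (P := P) hS true 1 k
      change (ag Gr).tz (P.a true 1) (P.bi hS false k) = 1 at h2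
      have h3 := Eps.th_a_bi' (P := P) hS true 1 k
      change (ag Gr).th (P.a true 1) (P.bi hS false k) = 1 at h3
      rw [hl, h2, h3, e1]
      exact ⟨l, by rw [mul_one, mul_one]⟩
    · obtain ⟨l, hl⟩ := tz_same hS true 1 k
      have h2 := tz_diff (P := P) hS false 1 k
      change (ag Gr).tz (P.a false 1) (P.bi hS true k) = 1 at h2
      have h3 := Eps.th_a_bi (P := P) hS true 1 k
      rw [hl, h2, h3]
      refine ⟨l, ?_⟩
      change 1 * P.zf true l * (ag Gr).psi (P.pv false 1) (P.pv true _) = _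
      rw [psi_diff_ft hS, mul_one, one_mul]
  obtain ⟨l, hl⟩ := h1 false
  obtain ⟨l', hl'⟩ := h1 true
  have h2 : P.zf false l * P.zf true l' = P.zf false k * P.zf true k := by
    rw [← hl, ← hl', Eps.zf_mul hS, ← E.na_b, ← Eps.xb_eq (P := P) hS]; group
  obtain ⟨h3, h4⟩ := Eps.zf_uniq hS h2
  cases i
  · rw [hl, h3]
  · rw [hl', h4]

omit [Finite G] in
theorem na_zf (i : Bool) (k : B.K) : E.na * P.zf i k * E.na⁻¹ = P.bi hS i k := by
  rw [← na_bi hS, na_na]

theorem rho_addS (i : Bool) (u u' : F) :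
    ∃ k, rho P H i (u + u') = rho P H i u * rho P H i u' * P.zf i k := by
  exact ⟨B.tr (H.k0 * u * B.s u'), by rw [rho_add, pi_split hS]⟩

theorem sig_addS (i : Bool) (u u' : F) :
    ∃ k, sig P H i (u + u') = sig P H i u * sig P H i u' * P.bi hS i k := by
  obtain ⟨k, hk⟩ := rho_addS (P := P) (H := H) hS i u u'
  refine ⟨k, ?_⟩
  rw [sig, hk, ← na_zf hS]; unfold sig; group

/-- `C`-component. -/
theorem cco_ac (l i j : Bool) (hl : ¬ (i = j ∧ l = i)) (s u : F) :
    cco P l (ac Gr (P.a i s) (sig P H j u)) = 0 := by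
  have hfin := finite_F E.toWEnv
  have hA : ∀ s, P.a i s ∈ Gr.A := fun s => a_memA i s
  have hR : ∀ u, sig P H j u ∈ Gr.R := fun u => sig_mem j u
  have hm : ∀ s u, ac Gr (P.a i s) (sig P H j u) ∈ Gr.C := fun s u => ac_mem (hA s) (hR u)
  refine killC (E := E) (f := fun s u => cco P l (ac Gr (P.a i s) (sig P H j u))) ?_ ?_ ?_ s u
  · intro s s' u
    rw [Eps.a_add, (al_mul_left (hA s) (hA s') (hR u)).2, cco_mul l (hm s u) (hm s' u)]
  · intro s u u'
    obtain ⟨k, hk⟩ := sig_addS (P := P) (H := H) hS j u u'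
    have hb : P.bi hS j k ∈ Gr.Bb := bi_memB hS j k
    have hga := ga_mem (al_mem (hA s) (hR u')) (hR u)
    have hth : (ag Gr).th (P.a i s) (P.bi hS j k) ∈ Gr.C := AGrown.th_mem (D := ag Gr) (hA s) hb
    have e1 : cco P l ((ag Gr).th (P.a i s) (P.bi hS j k)) = 0 := by
      by_cases hij : i = j
      · subst hij
        rw [Eps.th_a_bi hS]
        have h3 : l = !i := by cases l <;> cases i <;> simp_all
        have h4 := cco_c' (P := P) (!i) ((k : F) * s)
        rw [Bool.not_not] at h4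
        rw [h3]; exact h4
      · have h3 : j = !i := by cases j <;> cases i <;> simp_all
        subst h3
        rw [Eps.th_a_bi' hS, cco_one]
    have e2 : cco P l (ga (al Gr (P.a i s) (sig P H j u')) (sig P H j u)) = 0 := by
      have h1 := tal_a_sig (P := P) (H := H) i j s u' (yc_split hS)
      by_cases hij : i = j
      · subst hij
        rw [if_pos rfl] at h1
        rw [ga_congr (al_mem (hA s) (hR u')) (pe_mem i (B.s s * u')) (hR u) h1,
          ga_congr' (pe_mem i _) (hR u) (re_mem i u) (tr'_sig_re i u), (ga_split hS i _ _).2]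
        have h3 : l = !i := by cases l <;> cases i <;> simp_all
        have h4 := cco_c' (P := P) (!i) (B.s (B.s s * u') * u)
        rw [Bool.not_not] at h4
        rw [h3]; exact h4
      · rw [if_neg hij] at h1
        rw [ga_Z (hR u) ((tv_zero_iff (al_mem (hA s) (hR u'))).1 h1), cco_one]
    have hga2 : ga (al Gr (P.a i s) (P.bi hS j k)) (sig P H j u * sig P H j u') = 1 := by
      rw [(al_B (hA s) hb).1]
      exact ga_Z (Gr.R.mul_mem (hR u) (hR u')) (AGrown.tz_mem (D := ag Gr) (hA s) hb)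
    rw [hk, (al_mul_right (hA s) (Gr.R.mul_mem (hR u) (hR u')) (B_le_R hb)).2, hga2, mul_one,
      (al_B (hA s) hb).2, (al_mul_right (hA s) (hR u) (hR u')).2,
      cco_mul l (Gr.C.mul_mem (Gr.C.mul_mem (hm s u) (hm s u')) hga) hth,
      cco_mul l (Gr.C.mul_mem (hm s u) (hm s u')) hga, cco_mul l (hm s u) (hm s u'), e1, e2, add_zero, add_zero]
  · intro g μ ν ω hg s u
    rw [← cco_T hg.toWt l (hm s u), ← (al_T hg.mem (hA s) (hR u)).2, Eps.T_a hg.toWt, sig_T hg]

theorem ac_diff (i : Bool) (s u : F) : ac Gr (P.a i s) (sig P H (!i) u) = 1 := by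
  refine cco_ext (P := P) (ac_mem (a_memA i s) (sig_mem (!i) u)) Gr.C.one_mem fun l => ?_
  rw [cco_one, cco_ac hS l i (!i) (by cases i <;> simp) s u]

theorem ac_same (i : Bool) (s u : F) : ∃ x, ac Gr (P.a i s) (sig P H i u) = P.c i x := by
  refine ⟨cco P i (ac Gr (P.a i s) (sig P H i u)), ?_⟩
  refine cco_ext (P := P) (ac_mem (a_memA i s) (sig_mem i u)) (c_memC i _) fun l => ?_
  by_cases hl : l = i
  · rw [hl, cco_c]
  · rw [cco_ac hS l i i (fun h => hl h.2) s u]
    have h3 : l = !i := by cases l <;> cases i <;> simp_all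
    have h4 := cco_c' (P := P) (!i) (cco P i (ac Gr (P.a i s) (sig P H i u)))
    rw [Bool.not_not] at h4
    rw [h3]; exact h4.symm

/-! ### Coordinates on `Z` -/

open Classical in
omit [Finite G] hS in
variable (P) in
/-- the coordinates on `Z`. -/
noncomputable def zkc (i : Bool) (g : G) : B.K :=
  if h : ∃ k l, g = P.zf false k * P.zf true l then (bif i then h.choose_spec.choose else h.choose) else 0

omit [Finite G] in
theorem zkc_spec {g : G} (hg : g ∈ Gr.Z) : g = P.zf false (zkc P false g) * P.zf true (zkc P true g) := by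
  have h : ∃ k l, g = P.zf false k * P.zf true l := Eps.exists_zf (P := P) hS hg
  rw [zkc, zkc, dif_pos h, dif_pos h]
  exact h.choose_spec.choose_spec

omit [Finite G] in
theorem zkc_eq {g : G} {x y : B.K} (h : g = P.zf false x * P.zf true y) :
    zkc P false g = x ∧ zkc P true g = y := by
  have hg : g ∈ Gr.Z := by rw [h]; exact Gr.Z.mul_mem (zf_memZ _ _) (zf_memZ _ _)
  exact Eps.zf_uniq hS ((zkc_spec (P := P) hS hg).symm.trans h)

omit [Finite G] in
theorem zkc_ext {g g' : G} (hg : g ∈ Gr.Z) (hg' : g' ∈ Gr.Z) (h : ∀ i, zkc P i g = zkc P i g') : g = g' := by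
  rw [zkc_spec (P := P) hS hg, zkc_spec (P := P) hS hg', h, h]

omit [Finite G] in
theorem zkc_mul (i : Bool) {g g' : G} (hg : g ∈ Gr.Z) (hg' : g' ∈ Gr.Z) :
    zkc P i (g * g') = zkc P i g + zkc P i g' := by
  have h : g * g' = P.zf false (zkc P false g + zkc P false g') * P.zf true (zkc P true g + zkc P true g') := by
    rw [Eps.zf_add, Eps.zf_add]
    have hc : Commute (P.zf true (zkc P true g)) (P.zf false (zkc P false g')) :=
      cZZ (Gr := Gr) (zf_memZ _ _) (zf_memZ _ _)
    nth_rewrite 1 [zkc_spec (P := P) hS hg, zkc_spec (P := P) hS hg']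
    calc P.zf false (zkc P false g) * P.zf true (zkc P true g) *
          (P.zf false (zkc P false g') * P.zf true (zkc P true g'))
        = P.zf false (zkc P false g) * (P.zf true (zkc P true g) * P.zf false (zkc P false g')) *
            P.zf true (zkc P true g') := by group
      _ = _ := by rw [hc.eq]; group
  cases i
  · exact (zkc_eq hS h).1
  · exact (zkc_eq hS h).2

omit [Finite G] in
theorem zkc_zf (i : Bool) (w : B.K) : zkc P i (P.zf i w) = w := by
  cases i
  · exact (zkc_eq hS (x := w) (y := 0) (by rw [Eps.zf_zero, mul_one])).1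
  · exact (zkc_eq hS (x := 0) (y := w) (by rw [Eps.zf_zero, one_mul])).2

omit [Finite G] in
theorem zkc_zf' (i : Bool) (w : B.K) : zkc P (!i) (P.zf i w) = 0 := by
  cases i
  · exact (zkc_eq hS (x := w) (y := 0) (by rw [Eps.zf_zero, mul_one])).2
  · exact (zkc_eq hS (x := 0) (y := w) (by rw [Eps.zf_zero, one_mul])).1

omit [Finite G] in
theorem zkc_one (i : Bool) : zkc P i 1 = 0 := by
  have h := zkc_zf (P := P) hS i 0
  rwa [Eps.zf_zero] at h

omit [Finite G] in
theorem zkc_T {g : G} {μ : Fˣ} {ν : B.Kˣ} (hg : Wt E.toWEnv g μ ν) (i : Bool) {c : G} (hc : c ∈ Gr.Z) :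
    zkc P i (g * c * g⁻¹) = B.nm μ * ν * zkc P i c := by
  have h : g * c * g⁻¹ = P.zf false (B.nm μ * ν * zkc P false c) *
      P.zf true (B.nm μ * ν * zkc P true c) := by
    nth_rewrite 1 [zkc_spec (P := P) hS hc]
    rw [← Eps.T_zf hg, ← Eps.T_zf hg]; group
  cases i
  · exact (zkc_eq hS h).1
  · exact (zkc_eq hS h).2

/-- `r ∈ Z` with vanishing `l`-coordinate. -/
def Zl (P : Eps (ag Gr)) (l : Bool) (r : G) : Prop := r ∈ Gr.Z ∧ zkc P l r = 0

omit [Finite G] in
theorem Zl_one (l : Bool) : Zl P l 1 := ⟨Gr.Z.one_mem, zkc_one hS l⟩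

omit [Finite G] in
theorem Zl_zf {l i : Bool} (h : l ≠ i) (k : B.K) : Zl P l (P.zf i k) := by
  refine ⟨zf_memZ _ _, ?_⟩
  have h3 : l = !i := by cases l <;> cases i <;> simp_all
  rw [h3]; exact zkc_zf' hS i k

theorem XX_add_leftS (l i j : Bool) (hl : ¬ (i = j ∧ l = i)) (s s' u : F) :
    ∃ r, Zl P l r ∧ XX P H i j (s + s') u = XX P H i j s' u * XX P H i j s u * r := by
  unfold XX
  by_cases hij : i = j
  · rw [if_pos hij, if_pos hij, if_pos hij]
    obtain ⟨k, hk⟩ := rho_addS (P := P) (H := H) hS i (B.s s' * u) (B.s s * u)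
    refine ⟨P.zf i k, Zl_zf hS (fun h => hl ⟨hij, h⟩) k, ?_⟩
    rw [← hk, map_add]; congr 1; ring
  · rw [if_neg hij, if_neg hij, if_neg hij]
    exact ⟨1, Zl_one hS l, by group⟩

theorem XX_add_rightS (l i j : Bool) (hl : ¬ (i = j ∧ l = i)) (s u u' : F) :
    ∃ r, Zl P l r ∧ XX P H i j s (u + u') = XX P H i j s u * XX P H i j s u' * r := by
  unfold XX
  by_cases hij : i = j
  · rw [if_pos hij, if_pos hij, if_pos hij]
    obtain ⟨k, hk⟩ := rho_addS (P := P) (H := H) hS i (B.s s * u) (B.s s * u')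
    refine ⟨P.zf i k, Zl_zf hS (fun h => hl ⟨hij, h⟩) k, ?_⟩
    rw [← hk]; congr 1; ring
  · rw [if_neg hij, if_neg hij, if_neg hij]
    exact ⟨1, Zl_one hS l, by group⟩

theorem tv_XXS (i j : Bool) (s u : F) : tv Gr (al Gr (P.a i s) (sig P H j u)) = tv Gr (XX P H i j s u) := by
  have h1 := tal_a_sig (P := P) (H := H) i j s u (yc_split hS)
  change tv Gr _ = _ at h1
  rw [h1, XX]
  split_ifs
  · rw [tv_rho]
  · rw [tv_one]

theorem exists_zp (i j : Bool) (s u : F) : ∃ r ∈ Gr.Z, al Gr (P.a i s) (sig P H j u) = r * XX P H i j s u :=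
  (tv_eq_iff (al_mem (a_memA i s) (sig_mem j u)) (XX_mem i j s u)).1 (tv_XXS hS i j s u)

/-- the `l`-coordinate of the `Z`-component vanishes. -/
theorem zkc_al (l i j : Bool) (hl : ¬ (i = j ∧ l = i)) (s u : F) :
    ∃ r, Zl P l r ∧ al Gr (P.a i s) (sig P H j u) = r * XX P H i j s u := by
  have hfin := finite_F E.toWEnv
  have hA : ∀ s, P.a i s ∈ Gr.A := fun s => a_memA i s
  have hR : ∀ u, sig P H j u ∈ Gr.R := fun u => sig_mem j u
  have hX : ∀ s u, XX P H i j s u ∈ Gr.P := fun s u => XX_mem i j s u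
  choose z hz hzX using fun s u => exists_zp (P := P) (H := H) hS i j s u
  have hzero : ((zkc P l (z s u) : B.K) : F) = 0 := by
    refine killZ (E := E) (f := fun s u => ((zkc P l (z s u) : B.K) : F)) ?_ ?_ ?_ s u
    · intro s s' u
      have h1 := (al_mul_left (hA s) (hA s') (hR u)).1
      obtain ⟨r2, hr2, h2⟩ := XX_add_leftS (P := P) (H := H) hS l i j hl s s' u
      have hr1 : Zl P l (AGrown.ph (P.a i s) (ac Gr (P.a i s') (sig P H j u))) := by
        by_cases hij : i = j
        · subst hij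
          obtain ⟨x, hx⟩ := ac_same (P := P) (H := H) hS i s' u
          rw [hx]
          change Zl P l ((ag Gr).psi (P.pv i s) (P.pv i x))
          rw [psi_zf']
          exact Zl_zf hS (fun h => hl ⟨rfl, h⟩) _
        · have h3 : j = !i := by cases j <;> cases i <;> simp_all
          subst h3
          rw [ac_diff hS]
          have e1 : AGrown.ph (P.a i s) 1 = 1 := by unfold AGrown.ph; group
          rw [e1]; exact Zl_one hS l
      rw [← Eps.a_add, hzX, hzX, hzX, h2] at h1
      have h3 : z (s + s') u * r2 = AGrown.ph (P.a i s) (ac Gr (P.a i s') (sig P H j u)) * (z s' u * z s u) := by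
        have c1 : Commute r2 (XX P H i j s' u * XX P H i j s u) := cZP hr2.1 (Gr.P.mul_mem (hX _ _) (hX _ _))
        have c2 : Commute (z s u) (XX P H i j s' u) := cZP (hz s u) (hX _ _)
        refine mul_right_cancel (b := XX P H i j s' u * XX P H i j s u) ?_
        calc z (s + s') u * r2 * (XX P H i j s' u * XX P H i j s u)
            = z (s + s') u * (XX P H i j s' u * XX P H i j s u * r2) := by rw [mul_assoc, c1.eq]
          _ = AGrown.ph (P.a i s) (ac Gr (P.a i s') (sig P H j u)) *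
                (z s' u * XX P H i j s' u * (z s u * XX P H i j s u)) := h1
          _ = AGrown.ph (P.a i s) (ac Gr (P.a i s') (sig P H j u)) *
                (z s' u * (XX P H i j s' u * z s u) * XX P H i j s u) := by group
          _ = _ := by rw [← c2.eq]; group
      have h4 := congrArg (zkc P l) h3
      rw [zkc_mul hS l (hz _ _) hr2.1, hr2.2, add_zero, zkc_mul hS l hr1.1 (Gr.Z.mul_mem (hz _ _) (hz _ _)),
        hr1.2, zero_add, zkc_mul hS l (hz _ _) (hz _ _), add_comm (zkc P l (z s' u))] at h4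
      rw [h4]; rfl
    · intro s u u'
      obtain ⟨k, hk⟩ := sig_addS (P := P) (H := H) hS j u u'
      have hb : P.bi hS j k ∈ Gr.Bb := bi_memB hS j k
      have h1 := (al_mul_right (hA s) (Gr.R.mul_mem (hR u) (hR u')) (B_le_R hb)).1
      rw [(al_mul_right (hA s) (hR u) (hR u')).1, ← hk, (al_B (hA s) hb).1] at h1
      obtain ⟨r2, hr2, h2⟩ := XX_add_rightS (P := P) (H := H) hS l i j hl s u u'
      have hr1 : Zl P l ((ag Gr).tz (P.a i s) (P.bi hS j k)) := by
        by_cases hij : i = j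
        · subst hij
          obtain ⟨x, hx⟩ := tz_same (P := P) hS i s k
          rw [hx]
          exact Zl_zf hS (fun h => hl ⟨rfl, h⟩) _
        · have h3 : j = !i := by cases j <;> cases i <;> simp_all
          subst h3
          rw [tz_diff hS]
          exact Zl_one hS l
      rw [hzX, hzX, hzX, h2] at h1
      have h3 : z s (u + u') * r2 = (z s u * z s u') * (ag Gr).tz (P.a i s) (P.bi hS j k) := by
        have c1 : Commute r2 (XX P H i j s u * XX P H i j s u') := cZP hr2.1 (Gr.P.mul_mem (hX _ _) (hX _ _))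
        have c2 : Commute (z s u') (XX P H i j s u) := cZP (hz s u') (hX _ _)
        have c3 : Commute ((ag Gr).tz (P.a i s) (P.bi hS j k)) (XX P H i j s u * XX P H i j s u') :=
          cZP hr1.1 (Gr.P.mul_mem (hX _ _) (hX _ _))
        refine mul_right_cancel (b := XX P H i j s u * XX P H i j s u') ?_
        calc z s (u + u') * r2 * (XX P H i j s u * XX P H i j s u')
            = z s (u + u') * (XX P H i j s u * XX P H i j s u' * r2) := by rw [mul_assoc, c1.eq]
          _ = (z s u * XX P H i j s u * (z s u' * XX P H i j s u')) *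
                (ag Gr).tz (P.a i s) (P.bi hS j k) := h1
          _ = (z s u * (XX P H i j s u * z s u') * XX P H i j s u') *
                (ag Gr).tz (P.a i s) (P.bi hS j k) := by group
          _ = (z s u * z s u') * ((XX P H i j s u * XX P H i j s u') *
                (ag Gr).tz (P.a i s) (P.bi hS j k)) := by rw [← c2.eq]; group
          _ = _ := by rw [← c3.eq]; group
      have h4 := congrArg (zkc P l) h3
      rw [zkc_mul hS l (hz _ _) hr2.1, hr2.2, add_zero, zkc_mul hS l (Gr.Z.mul_mem (hz _ _) (hz _ _)) hr1.1,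
        hr1.2, add_zero, zkc_mul hS l (hz _ _) (hz _ _)] at h4
      rw [h4]; rfl
    · intro g μ ν ω hg s u
      have h1 := (al_T hg.mem (hA s) (hR u)).1
      rw [Eps.T_a hg.toWt, sig_T hg, hzX, hzX] at h1
      have h2 : g * (z s u * XX P H i j s u) * g⁻¹ = (g * z s u * g⁻¹) * (g * XX P H i j s u * g⁻¹) := by group
      rw [h2, XX_T hg] at h1
      rw [mul_right_cancel h1, zkc_T hS hg.toWt l (hz s u)]
      rfl
  exact ⟨z s u, ⟨hz s u, Subtype.ext hzero⟩, hzX s u⟩

end Cfsg.Agent.StdRank2.SC.Five
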