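import Cfsg.Agent.StdRank2.SC.FiveD

/-!
# Structure constants of `U₅(q)`: the two cases modulo correction terms

field case: `[P_m u, R_{!m} v] = c_m (ū v)`, `[P_m, R_m] = 1`, `[P_m, P_m] = 1`, `[P₀ w, P₁ v] = f (w̄ v)`;
split case: `[P_m u, R_m v] = c_m (ū v)`, `[P_m, R_{!m}] = 1`, `[P₀, P₁] = 1`, `[P_m w, P_m v] = zf m (tr (w v̄))`;
both: `[aᵢ s, R_j u] ≡ [i = j] P_i (s̄ u)` mod `C Z`.
-/

set_option autoImplicit false
set_option linter.unusedSectionVars false

namespace Cfsg.Agent.StdRank2.SC.Five

open Subgroup Cfsg.Agent.StdRank2.UFour Cfsg.Agent.StdRank2.UFive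
open Cfsg.Agent.StdRank2.SC.Eps (lt tr_lt)

variable {F : Type*} [Field F] [CharP F 2] {B : Bar F} {G : Type*} [Group G] [Finite G]
variable {E : UFive.Env B G} {Gr : UFive.Grown E} {P : Eps (ag Gr)}

theorem psi_zero_r (p : F × F) : (ag Gr).psi p 0 = 1 := AGrown.psi_zero_right p

section fieldCase

variable (hF : B.s P.e = P.e + 1)
include hF

omit [Finite G] in
theorem psi_same' (i : Bool) (s s' : F) : (ag Gr).psi (P.pv i s) (P.pv i s') = 1 := Eps.psi_same hF i s s'

omit [Finite G] hF in
theorem psi_ft' (s s' : F) : (ag Gr).psi (P.pv false s) (P.pv true s') = P.f (s * B.s s') := Eps.psi_ft s s'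

omit [Finite G] hF in
theorem psi_tf' (s s' : F) : (ag Gr).psi (P.pv true s) (P.pv false s') = P.f (s' * B.s s) := Eps.psi_tf s s'

theorem field_aux (j : Bool) : yc P = 0 ∧ Ec P true false j 1 1 = 0 := by
  have key : ∀ u, yc P * u + B.s (Ec P true false j 1 1) * B.s u = 0 := by
    intro u
    have h := rule3' (P := P) false false j 1 1 u
    rw [pi_p1, pi_pe, ga_form, ph_form, psi_same' hF, psi_same' hF, psi_same' hF, psi_tf', psi_ft',
      ite_self] at h
    simp only [map_one, one_mul, mul_one] at h
    have h2 := Eps.f_inj hF h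
    rw [map_mul] at h2
    rw [h2]; exact Bar.add_self _
  obtain ⟨h1, h2⟩ := lin_zero B key
  exact ⟨h1, (map_eq_zero_iff B.s B.s.injective).1 h2⟩

theorem yc_field : yc P = 0 := (field_aux hF false).1

theorem Ec_field (l m j : Bool) : Ec P l m j 1 1 = if l = m ∧ j = !m then 1 else 0 := by
  have hy := yc_field hF
  have key : ∀ l j, Ec P l false j 1 1 = if l = false ∧ j = true then 1 else 0 := by
    intro l j
    cases l
    · have h := rule3' (P := P) false true j 1 1 1
      rw [pi_p1, pi_pe, ga_form, ph_form, psi_same' hF, psi_same' hF, psi_tf', psi_tf', psi_tf', hy] at h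
      simp only [map_one, one_mul, mul_one, zero_mul, Eps.f_zero, true_and] at h
      cases j
      · simp only [Bool.true_eq_false, if_false] at h
        have h2 : Ec P false false false 1 1 = 0 := Eps.f_inj hF (h.symm.trans Eps.f_zero.symm)
        simp [h2]
      · simp only [if_true] at h
        have h2 := Eps.f_inj hF h
        simp [← h2]
    · simp [(field_aux hF j).2]
  cases m
  · exact key l j
  · have h1 := Ec_t (P := P) l true j
    change Ec P (!l) false (!j) 1 1 = _ at h1
    rw [← h1, key]
    cases l <;> cases j <;> rfl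

theorem ga_field (m : Bool) (u v : F) :
    ga (pe P m u) (re P m v) = 1 ∧ ga (pe P m u) (re P (!m) v) = P.c m (B.s u * v) := by
  constructor
  · rw [ga_form, Ec_field hF, Ec_field hF]
    cases m <;> simp [Eps.c_zero]
  · rw [ga_form, Ec_field hF, Ec_field hF]
    cases m <;> simp [Eps.c_zero]

theorem pi_field (m : Bool) (u v : F) : pi (pe P m u) (pe P m v) = 1 := by
  rw [pi_pe, psi_same' hF]

theorem pi_field' (w v : F) : pi (pe P false w) (pe P true v) = P.f (B.s w * v) := by
  rw [pi_pe, psi_tf', map_one, mul_one]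

end fieldCase

section splitCase

variable (hS : B.s P.e = P.e)
include hS

omit [Finite G] in
theorem psi_diff' (i : Bool) (s s' : F) : (ag Gr).psi (P.pv i s) (P.pv (!i) s') = 1 := Eps.psi_diff hS i s s'

omit [Finite G] in
theorem psi_diff_ft (s s' : F) : (ag Gr).psi (P.pv false s) (P.pv true s') = 1 := Eps.psi_diff hS false s s'

omit [Finite G] in
theorem psi_diff_tf (s s' : F) : (ag Gr).psi (P.pv true s) (P.pv false s') = 1 := Eps.psi_diff hS true s s'

omit [Finite G] hS in
theorem psi_zf' (i : Bool) (s s' : F) : (ag Gr).psi (P.pv i s) (P.pv i s') = P.zf i (B.tr (s * B.s s')) :=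
  Eps.psi_zf i s s'

omit [Finite G] hS in
theorem tr_zero_of {y : F} (h : ∀ u : F, B.tr (y * u) = 0) : y = 0 := by
  have key : ∀ u, y * u + B.s y * B.s u = 0 := by
    intro u
    have h1 : y * u + B.s (y * u) = 0 := congrArg Subtype.val (h u)
    rwa [map_mul] at h1
  exact (lin_zero B key).1

theorem split_aux (j : Bool) : yc P = 0 ∧ Ec P true false j 1 1 = 0 := by
  have key : ∀ u, B.tr (yc P * u) = 0 ∧ B.tr (Ec P true false j 1 1 * u) = 0 := by
    intro u
    have h := rule3' (P := P) false true j 1 1 u
    rw [pi_p1, pi_pe, ga_form, ph_form, psi_diff_tf hS, psi_diff_tf hS, psi_diff_tf hS, psi_zf', psi_zf',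
      ite_self] at h
    simp only [map_one, one_mul, mul_one] at h
    rw [B.tr_s, B.tr_s] at h
    have h3 : P.zf false (B.tr (yc P * u)) * P.zf true 0 = P.zf false 0 *
        P.zf true (B.tr (Ec P true false j 1 1 * u)) := by
      rw [Eps.zf_zero, Eps.zf_zero, one_mul, mul_one]; exact h
    obtain ⟨h4, h5⟩ := Eps.zf_uniq hS h3
    exact ⟨h4, h5.symm⟩
  exact ⟨tr_zero_of fun u => (key u).1, tr_zero_of fun u => (key u).2⟩

theorem yc_split : yc P = 0 := (split_aux hS false).1

theorem Ec_split (l m j : Bool) : Ec P l m j 1 1 = if l = m ∧ j = m then 1 else 0 := by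
  have hy := yc_split hS
  have key : ∀ l j, Ec P l false j 1 1 = if l = false ∧ j = false then 1 else 0 := by
    intro l j
    cases l
    · have hk : ∀ u, B.tr ((Ec P false false j 1 1 + if j = false then 1 else 0) * u) = 0 := by
        intro u
        have h := rule3' (P := P) false false j 1 1 u
        rw [pi_p1, pi_pe, ga_form, ph_form, psi_diff_tf hS, psi_diff_ft hS, psi_zf', psi_zf', psi_zf', hy] at h
        simp only [map_one, one_mul, mul_one, zero_mul, map_zero] at h
        rw [B.tr_s, B.tr_s, B.tr_zero, Eps.zf_zero, mul_one] at h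
        rw [add_mul, B.tr_add]
        cases j
        · simp only [if_true] at h ⊢
          have h3 : P.zf false (B.tr u) * P.zf true 0 = P.zf false (B.tr (Ec P false false false 1 1 * u)) *
            P.zf true 0 := by rw [h]
          rw [← (Eps.zf_uniq hS h3).1, one_mul]
          exact B.K_add_self _
        · simp only [Bool.false_eq_true, Bool.true_eq_false, if_false] at h ⊢
          have h3 : P.zf false 0 * P.zf true 0 = P.zf false (B.tr (Ec P false false true 1 1 * u)) *
            P.zf true 0 := by rw [← h, Eps.zf_zero]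
          rw [← (Eps.zf_uniq hS h3).1, zero_mul, B.tr_zero, add_zero]
      have h2 := tr_zero_of hk
      have h3 := Bar.add_self (if j = false then (1 : F) else 0)
      have h4 := add_right_cancel (h2.trans h3.symm)
      rw [h4]; simp
    · simp [(split_aux hS j).2]
  cases m
  · exact key l j
  · have h1 := Ec_t (P := P) l true j
    change Ec P (!l) false (!j) 1 1 = _ at h1
    rw [← h1, key]
    cases l <;> cases j <;> rfl

theorem ga_split (m : Bool) (u v : F) :
    ga (pe P m u) (re P (!m) v) = 1 ∧ ga (pe P m u) (re P m v) = P.c m (B.s u * v) := by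
  constructor
  · rw [ga_form, Ec_split hS, Ec_split hS]
    cases m <;> simp [Eps.c_zero]
  · rw [ga_form, Ec_split hS, Ec_split hS]
    cases m <;> simp [Eps.c_zero]

theorem pi_split (m : Bool) (u v : F) : pi (pe P m u) (pe P m v) = P.zf m (B.tr (u * B.s v)) := by
  rw [pi_pe, psi_zf', one_mul, map_mul, B.invol]

theorem pi_split' (m : Bool) (w v : F) : pi (pe P m w) (pe P (!m) v) = 1 := by
  rw [pi_pe]
  cases m
  · exact psi_diff_tf hS _ _
  · exact psi_diff_ft hS _ _

end splitCase

/-- in both cases. -/
theorem tal_a_re' (i j : Bool) (s u : F) (h : yc P = 0) :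
    tal Gr (P.a i s) (re P j u) = if i = j then vi P i (B.s s * u) else 0 := by
  rw [tal_a_re, h, zero_mul, zero_mul, sp_zero, add_zero]

end Cfsg.Agent.StdRank2.SC.Five
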