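import Cfsg.Agent.StdRank2.SC.FiveW

/-!
# Structure constants of `U₅(q)`: the eigenspaces `V_i` of `P / Z`, coordinates

`vi P i w = tal (aᵢ 1) (p2 w)`, `tal (aᵢ s) (p2 q) = vi i (s̄ q.w)`, `V = V₀ ⊕ V₁`; `co`, `cco`: coordinates on `V`, `C`.
`pe i u ∈ P`, `re i u ∈ R` representatives.
-/

set_option autoImplicit false
set_option linter.unusedSectionVars false

namespace Cfsg.Agent.StdRank2.SC.Five

open Subgroup Cfsg.Agent.StdRank2.UFour Cfsg.Agent.StdRank2.UFive
open Cfsg.Agent.StdRank2.SC.Eps (lt tr_lt)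

variable {F : Type*} [Field F] [CharP F 2] {B : Bar F} {G : Type*} [Group G]
variable {E : UFive.Env B G} {Gr : UFive.Grown E}

theorem Ae_eq' [Finite G] (s w : F) : Ae Gr s w = Ae Gr 1 (B.s s * w) := by
  have := finite_F E.toWEnv
  exact Ae_eq (lam := (E.lam : B.K)) E.lam.ne_zero E.lam_ne s w

variable (P : Eps (ag Gr))

/-- representatives in `P`. -/
noncomputable def pe (i : Bool) (w : F) : G := al Gr (P.a i 1) (E.p2 (tp B w))

/-- representatives in `R`. -/
noncomputable def re (i : Bool) (w : F) : G := E.na * pe P i w * E.na⁻¹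

/-- the eigenspaces. -/
noncomputable def vi (i : Bool) (w : F) : V Gr := tal Gr (P.a i 1) (E.p2 (tp B w))

variable {P}

theorem a_memA (i : Bool) (s : F) : P.a i s ∈ Gr.A := Eps.a_mem (P := P) i s
theorem c_memC (i : Bool) (s : F) : P.c i s ∈ Gr.C := Eps.c_mem (P := P) i s

theorem tal_a_eq (i : Bool) (s : F) (q : Tp B) : tal Gr (P.a i s) (E.p2 q) =
    sp Gr (B.s ((P.ep i + 1) * s) * q.w) + Ae Gr s q.w := by
  have h : P.a i s = E.xa ((P.ep i + 1) * s) * (ag Gr).ea s := rfl
  rw [h, tal_mul_left (xa_mem _) (ea_memA s) (p2_mem _), tal_xa]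
  congr 1
  exact tal_p2 (ea_memA s) rfl

theorem tal_a_p2 [Finite G] (i : Bool) (s : F) (q : Tp B) :
    tal Gr (P.a i s) (E.p2 q) = vi P i (B.s s * q.w) := by
  rw [vi, tal_a_eq, tal_a_eq, Ae_eq']
  congr 2
  rw [tp_w, mul_one, map_mul, mul_assoc]

theorem vi_add (i : Bool) (w w' : F) : vi P i (w + w') = vi P i w + vi P i w' :=
  tal_p2_add (a_memA i 1) w w'

theorem vi_zero (i : Bool) : vi P i 0 = 0 := by
  have h := vi_add (P := P) i 0 0
  rw [add_zero] at h
  exact left_eq_add.1 h

theorem vi_T [Finite G] {g : G} {μ : Fˣ} {ν : B.Kˣ} {ω : Fˣ} (hg : W5 E g μ ν ω) (i : Bool) (w : F) :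
    cjv g (vi P i w) = vi P i (B.s μ * ω * w) := by
  rw [vi, ← tal_T hg.mem (a_memA i 1) (p2_mem _), Eps.T_a hg.toWt, hg.w2, tal_a_p2, mul_one, mul_assoc]
  rfl

theorem vi_t (i : Bool) (w : F) : cjv E.t (vi P i w) = vi P (!i) w := by
  rw [vi, ← tal_t (a_memA i 1) (p2_mem _), Eps.t_a, (t_p2 _).eq, mul_inv_cancel_right]
  rfl

theorem vi_sum (w : F) : vi P false w + vi P true w = sp Gr w := by
  rw [vi, vi, ← tal_mul_left (a_memA _ _) (a_memA _ _) (p2_mem _), ← Eps.xa_eq, tal_xa, map_one,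
    one_mul, tp_w]

theorem vi_sum' (i : Bool) (w : F) : vi P i w + vi P (!i) w = sp Gr w := by
  cases i
  · exact vi_sum w
  · rw [add_comm]; exact vi_sum w

theorem chv_vi (i : Bool) (w : F) : chv (vi P i w) = w := by
  have h1 := vi_t (P := P) i w
  rw [cjv_t] at h1
  have h2 := vi_sum' (P := P) i w
  rw [← h1, add_comm, add_assoc, V_two, add_zero] at h2
  exact sp_inj h2

theorem exists_vi (v : V Gr) : ∃ u u', v = vi P false u + vi P true u' := by
  have h2 : chv (v - vi P false (chv v)) = 0 := by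
    have h3 : v = (v - vi P false (chv v)) + vi P false (chv v) := by abel
    have h4 := congrArg chv h3
    rw [chv_add, chv_vi] at h4
    exact right_eq_add.1 h4
  obtain ⟨w, hw⟩ := exists_sp h2
  refine ⟨chv v + w, w, ?_⟩
  rw [vi_add, add_assoc, vi_sum, ← hw]; abel

theorem vi_uniq {u u' x x' : F} (h : vi P false u + vi P true u' = vi P false x + vi P true x') :
    u = x ∧ u' = x' := by
  have h1 := congrArg chv h
  rw [chv_add, chv_add, chv_vi, chv_vi, chv_vi, chv_vi] at h1
  have e1 : u' + x' = u + x := by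
    have h2 := Bar.add_self u
    have h3 := Bar.add_self x'
    linear_combination h1 - h2 + h3
  have h2 : sp Gr (u + x) = 0 := by
    rw [← vi_sum (P := P) (u + x)]
    nth_rewrite 2 [← e1]
    rw [vi_add, vi_add]
    calc vi P false u + vi P false x + (vi P true u' + vi P true x')
        = (vi P false u + vi P true u') + (vi P false x + vi P true x') := by abel
      _ = 0 := by rw [h]; exact V_two _
  have h3 : u + x = 0 := sp_inj (h2.trans sp_zero.symm)
  have h4 : u = x := by
    have := Bar.add_self x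
    exact add_right_cancel (h3.trans this.symm)
  refine ⟨h4, ?_⟩
  rw [h4] at h1
  exact add_left_cancel h1

/-! ### Coordinates -/

variable (P) in
/-- the coordinates on `V`. -/
noncomputable def co (i : Bool) (v : V Gr) : F :=
  bif i then (exists_vi (P := P) v).choose_spec.choose else (exists_vi (P := P) v).choose

theorem co_spec (v : V Gr) : v = vi P false (co P false v) + vi P true (co P true v) :=
  (exists_vi (P := P) v).choose_spec.choose_spec

theorem co_eq {v : V Gr} {x y : F} (h : v = vi P false x + vi P true y) :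
    co P false v = x ∧ co P true v = y := vi_uniq ((co_spec v).symm.trans h)

theorem co_ext {v v' : V Gr} (h : ∀ i, co P i v = co P i v') : v = v' := by
  rw [co_spec (P := P) v, co_spec (P := P) v', h, h]

theorem co_add (i : Bool) (v v' : V Gr) : co P i (v + v') = co P i v + co P i v' := by
  have h : v + v' = vi P false (co P false v + co P false v') + vi P true (co P true v + co P true v') := by
    rw [vi_add, vi_add]
    nth_rewrite 1 [co_spec (P := P) v, co_spec (P := P) v']
    abel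
  cases i
  · exact (co_eq h).1
  · exact (co_eq h).2

theorem co_zero (i : Bool) : co P i 0 = 0 := by
  have h := co_add (P := P) i 0 0
  rw [add_zero] at h
  exact left_eq_add.1 h

theorem co_vi (i : Bool) (w : F) : co P i (vi P i w) = w := by
  cases i
  · exact (co_eq (x := w) (y := 0) (by rw [vi_zero, add_zero])).1
  · exact (co_eq (x := 0) (y := w) (by rw [vi_zero, zero_add])).2

theorem co_vi' (i : Bool) (w : F) : co P i (vi P (!i) w) = 0 := by
  cases i
  · exact (co_eq (x := 0) (y := w) (by rw [vi_zero, zero_add]; rfl)).1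
  · exact (co_eq (x := w) (y := 0) (by rw [vi_zero, add_zero]; rfl)).2

theorem co_sp (i : Bool) (w : F) : co P i (sp Gr w) = w := by
  rw [← vi_sum' (P := P) i, co_add, co_vi, co_vi', add_zero]

theorem co_T [Finite G] {g : G} {μ : Fˣ} {ν : B.Kˣ} {ω : Fˣ} (hg : W5 E g μ ν ω) (i : Bool) (v : V Gr) :
    co P i (cjv g v) = B.s μ * ω * co P i v := by
  nth_rewrite 1 [co_spec (P := P) v]
  rw [cjv_add (Nm.T hg.mem), vi_T hg, vi_T hg, co_add]
  cases i
  · rw [co_vi, show vi P true _ = vi P (!false) _ from rfl, co_vi', add_zero]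
  · rw [co_vi, show vi P false _ = vi P (!true) _ from rfl, co_vi', zero_add]

theorem co_t (i : Bool) (v : V Gr) : co P i (cjv E.t v) = co P (!i) v := by
  nth_rewrite 1 [co_spec (P := P) v]
  rw [cjv_add Nm.t, vi_t, vi_t, co_add]
  cases i
  · change co P false (vi P (!false) _) + co P false (vi P false _) = _
    rw [co_vi, co_vi', zero_add]; rfl
  · change co P true (vi P true _) + co P true (vi P (!true) _) = _
    rw [co_vi, co_vi', add_zero]; rfl

/-! ### Coordinates on `C` -/

open Classical in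
variable (P) in
/-- the coordinates on `C`. -/
noncomputable def cco (i : Bool) (g : G) : F :=
  if h : ∃ s s', g = P.c false s * P.c true s' then (bif i then h.choose_spec.choose else h.choose) else 0

theorem cco_spec {g : G} (hg : g ∈ Gr.C) : g = P.c false (cco P false g) * P.c true (cco P true g) := by
  have h : ∃ s s', g = P.c false s * P.c true s' := Eps.exists_c (P := P) hg
  rw [cco, cco, dif_pos h, dif_pos h]
  exact h.choose_spec.choose_spec

theorem cco_eq {g : G} {x y : F} (h : g = P.c false x * P.c true y) :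
    cco P false g = x ∧ cco P true g = y := by
  have hg : g ∈ Gr.C := by rw [h]; exact Gr.C.mul_mem (c_memC _ _) (c_memC _ _)
  exact Eps.c_uniq ((cco_spec (P := P) hg).symm.trans h)

theorem cco_ext {g g' : G} (hg : g ∈ Gr.C) (hg' : g' ∈ Gr.C) (h : ∀ i, cco P i g = cco P i g') : g = g' := by
  rw [cco_spec (P := P) hg, cco_spec (P := P) hg', h, h]

theorem cco_mul (i : Bool) {g g' : G} (hg : g ∈ Gr.C) (hg' : g' ∈ Gr.C) :
    cco P i (g * g') = cco P i g + cco P i g' := by
  have h : g * g' = P.c false (cco P false g + cco P false g') * P.c true (cco P true g + cco P true g') := by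
    rw [Eps.c_add, Eps.c_add]
    have hc : Commute (P.c true (cco P true g)) (P.c false (cco P false g')) :=
      cCC (Gr := Gr) (c_memC _ _) (c_memC _ _)
    nth_rewrite 1 [cco_spec (P := P) hg, cco_spec (P := P) hg']
    calc P.c false (cco P false g) * P.c true (cco P true g) * (P.c false (cco P false g') * P.c true (cco P true g'))
        = P.c false (cco P false g) * (P.c true (cco P true g) * P.c false (cco P false g')) *
            P.c true (cco P true g') := by group
      _ = _ := by rw [hc.eq]; group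
  cases i
  · exact (cco_eq h).1
  · exact (cco_eq h).2

theorem cco_c (i : Bool) (w : F) : cco P i (P.c i w) = w := by
  cases i
  · exact (cco_eq (x := w) (y := 0) (by rw [Eps.c_zero, mul_one])).1
  · exact (cco_eq (x := 0) (y := w) (by rw [Eps.c_zero, one_mul])).2

theorem cco_c' (i : Bool) (w : F) : cco P i (P.c (!i) w) = 0 := by
  cases i
  · exact (cco_eq (x := 0) (y := w) (by rw [Eps.c_zero, one_mul]; rfl)).1
  · exact (cco_eq (x := w) (y := 0) (by rw [Eps.c_zero, mul_one]; rfl)).2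

theorem cco_one (i : Bool) : cco P i 1 = 0 := by
  have h := cco_c (P := P) i 0
  rwa [Eps.c_zero] at h

theorem cco_T {g : G} {μ : Fˣ} {ν : B.Kˣ} (hg : Wt E.toWEnv g μ ν) (i : Bool) {c : G} (hc : c ∈ Gr.C) :
    cco P i (g * c * g⁻¹) = μ * ((ν : B.K) : F) * cco P i c := by
  have h : g * c * g⁻¹ = P.c false (μ * ((ν : B.K) : F) * cco P false c) *
      P.c true (μ * ((ν : B.K) : F) * cco P true c) := by
    nth_rewrite 1 [cco_spec (P := P) hc]
    rw [← Eps.T_c hg, ← Eps.T_c hg]; group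
  cases i
  · exact (cco_eq h).1
  · exact (cco_eq h).2

theorem cco_t (i : Bool) {c : G} (hc : c ∈ Gr.C) : cco P i (E.t * c * E.t⁻¹) = cco P (!i) c := by
  have h : E.t * c * E.t⁻¹ = P.c false (cco P true c) * P.c true (cco P false c) := by
    nth_rewrite 1 [cco_spec (P := P) hc]
    have h1 := Eps.t_c (P := P) false (cco P false c)
    have h2 := Eps.t_c (P := P) true (cco P true c)
    rw [(cCC (Gr := Gr) (c_memC (P := P) false (cco P true c)) (c_memC (P := P) true (cco P false c))).eq]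
    change _ = P.c (!false) _ * P.c (!true) _
    rw [← h1, ← h2]; group
  cases i
  · exact (cco_eq h).1
  · exact (cco_eq h).2

/-! ### Representatives -/

theorem pe_mem (i : Bool) (w : F) : pe P i w ∈ Gr.P := al_mem (a_memA i 1) (p2_mem _)
theorem re_mem (i : Bool) (w : F) : re P i w ∈ Gr.R := na_P (pe_mem i w)

theorem tv_pe (i : Bool) (w : F) : tv Gr (pe P i w) = vi P i w := rfl

theorem tr'_re (i : Bool) (w : F) : tr' Gr (re P i w) = vi P i w := by
  rw [tr', re, na_na, tv_pe]

theorem tr'_T {g : G} (hg : g ∈ E.T) {k : G} (hk : k ∈ Gr.R) :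
    tr' Gr (g * k * g⁻¹) = cjv (E.na * g * E.na⁻¹) (tr' Gr k) := by
  rw [tr', tr', cjv_tv (Nm.T ((E.na_T g).1 hg)) (na_R hk)]
  congr 1; group

theorem cjv_na [Finite G] {g : G} {μ : Fˣ} {ν : B.Kˣ} {ω : Fˣ} (hg : W5 E g μ ν ω) (i : Bool) (w : F) :
    cjv (E.na * g * E.na⁻¹) (vi P i w) = vi P i (ω * w) := by
  obtain ⟨μ', ν', ω', h⟩ := exists_W5 ((E.na_T g).1 hg.mem)
  rw [vi_T h]
  congr 2
  have h1 := h.w1 (tp B 1)
  have h2 : (E.na * g * E.na⁻¹) * E.p1 (tp B 1) * (E.na * g * E.na⁻¹)⁻¹ = E.p1 (Tp.sm ω (tp B 1)) := by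
    have e1 : E.na⁻¹ * E.p1 (tp B 1) * E.na = E.p2 (tp B 1) := by
      rw [na_inv, ← E.na_1, na_inv]
    calc (E.na * g * E.na⁻¹) * E.p1 (tp B 1) * (E.na * g * E.na⁻¹)⁻¹
        = E.na * (g * (E.na⁻¹ * E.p1 (tp B 1) * E.na) * g⁻¹) * E.na⁻¹ := by group
      _ = _ := by rw [e1, hg.w2, E.na_2]
  have h3 := congrArg Tp.w (p1_inj (h1.symm.trans h2))
  simpa using h3

theorem tr'_T_re [Finite G] {g : G} {μ : Fˣ} {ν : B.Kˣ} {ω : Fˣ} (hg : W5 E g μ ν ω) (i : Bool) (w : F) :
    tr' Gr (g * re P i w * g⁻¹) = tr' Gr (re P i (ω * w)) := by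
  rw [tr'_T hg.mem (re_mem i w), tr'_re, tr'_re, cjv_na hg]

theorem tv_T_pe [Finite G] {g : G} {μ : Fˣ} {ν : B.Kˣ} {ω : Fˣ} (hg : W5 E g μ ν ω) (i : Bool) (w : F) :
    tv Gr (g * pe P i w * g⁻¹) = tv Gr (pe P i (B.s μ * ω * w)) := by
  rw [← cjv_tv (Nm.T hg.mem) (pe_mem i w), tv_pe, tv_pe, vi_T hg]

theorem tv_t_pe (i : Bool) (w : F) : tv Gr (E.t * pe P i w * E.t⁻¹) = tv Gr (pe P (!i) w) := by
  rw [← cjv_tv Nm.t (pe_mem i w), tv_pe, tv_pe, vi_t]

theorem tr'_t_re (i : Bool) (w : F) : tr' Gr (E.t * re P i w * E.t⁻¹) = tr' Gr (re P (!i) w) := by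
  rw [tr'_re, tr', t_na_conj, re, na_na, tv_t_pe, tv_pe]

theorem tv_pe_add (i : Bool) (w w' : F) : tv Gr (pe P i (w + w')) = tv Gr (pe P i w * pe P i w') := by
  rw [tv_mul (pe_mem i w) (pe_mem i w'), tv_pe, tv_pe, tv_pe, vi_add]

theorem tr'_re_add (i : Bool) (w w' : F) : tr' Gr (re P i (w + w')) = tr' Gr (re P i w * re P i w') := by
  rw [tr'_mul (re_mem i w) (re_mem i w'), tr'_re, tr'_re, tr'_re, vi_add]

theorem tr'_re_sum (w : F) : tr' Gr (re P false w * re P true w) = tr' Gr (E.p2 (tp B w)) := by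
  rw [tr'_mul (re_mem _ w) (re_mem _ w), tr'_re, tr'_re, vi_sum, tr'_p2, tp_w]

theorem tv_pe_sum (w : F) : tv Gr (pe P false w * pe P true w) = tv Gr (E.p1 (tp B w)) := by
  rw [tv_mul (pe_mem _ w) (pe_mem _ w), tv_pe, tv_pe, vi_sum]; rfl

end Cfsg.Agent.StdRank2.SC.Five
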