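import Cfsg.Agent.StdRank2.SC.FiveSplitG
import Cfsg.Agent.WreathFusion.UFiveUni
import Cfsg.Agent.WreathFusion.Pair

/-!
# The split case of `U₅(q)`: `S0 = S_false × S_true` and the data of Theorem W
-/

set_option autoImplicit false
set_option linter.unusedSectionVars false
set_option linter.unusedVariables false

namespace Cfsg.Agent.StdRank2.SC.Five.SplitG

open Subgroup Cfsg.Agent.StdRank2.UFour Cfsg.Agent.StdRank2.UFive Cfsg.Agent.StdRank2.UFour.SeedPre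
open Cfsg.Agent.WreathFusion
open scoped commutatorElement

variable {F : Type*} [Field F] [CharP F 2] {B : Bar F} {G : Type*} [Group G]
variable {E : UFive.Env B G} {Gr : UFive.Grown E} (D : SplitG Gr)

theorem gr_R {g : G} : g ∈ Gr.R ↔ g ∈ Gr.toQGrown.R := Gr.mem_R g

/-- `P ∩ C = 1` -/
theorem P_C {g : G} (hp : g ∈ Gr.P) (hc : g ∈ Gr.C) : g = 1 := by
  obtain ⟨r, hr, q, h1⟩ := Gr.P_t g hp
  obtain ⟨y, h2⟩ := Gr.rootC.conj_t g hc
  have h3 : r * E.p1 q = E.xc y := mul_right_cancel (h1.symm.trans h2)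
  have key : ∀ {r : G} {q : Tp B} {y : F}, r ∈ Gr.Z → r * E.p1 q = E.xc y → y = 0 := by
    intro r q y hr h3
    have h4 : r = E.xc y * (E.p1 q)⁻¹ := by rw [← h3]; group
    have h5 : r * E.t = E.t * r := by
      rw [h4, E.p1_inv]
      have e1 := E.t_1 q⁻¹
      have e2 := E.t_c y
      calc E.xc y * E.p1 q⁻¹ * E.t = E.xc y * (E.p1 q⁻¹ * E.t) := by group
        _ = (E.xc y * E.t) * E.p1 q⁻¹ := by rw [← e1]; group
        _ = _ := by rw [← e2]; group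
    obtain ⟨k, hk⟩ := Gr.rootZ.cent r hr h5
    have h6 : E.p1 (Tp.ofK k * q) * E.xc y * E.p2 1 * E.xa 0 = 1 := by
      rw [E.p1_mul, E.p1_K, ← hk, h3, E.toWEnv.xc_sq, E.p2_one, E.toWEnv.xa_zero]; group
    exact (E.u_inj _ _ _ _ h6).2.1
  have hy := key hr h3
  have h4 : g * E.t = E.t * g := by
    rw [hy, E.toWEnv.xc_zero, one_mul] at h2
    exact mul_inv_eq_iff_eq_mul.1 h2
  obtain ⟨y', h5⟩ := Gr.rootC.cent g hc h4
  have h6 : g * E.t * g⁻¹ = 1 * E.t := by rw [h4]; group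
  obtain ⟨r', hr', q', h7⟩ := Gr.P_cent g hp 1 (one_mem _) h6
  have h8 := key hr' (h7.symm.trans h5)
  rw [h5, h8, E.toWEnv.xc_zero]

/-- `R ∩ P C = 1` -/
theorem R_PC {g p c : G} (hg : g ∈ Gr.R) (hp : p ∈ Gr.P) (hc : c ∈ Gr.C) (h : g = p * c) : g = 1 := by
  have h1 := Gr.toQGrown.h1_R (gr_R.1 hg)
  set k := E.hh Gr.l 1 with hk
  have hkT : k ∈ E.T := E.hh_mem _ _
  have h2 : k * p * k⁻¹ ∈ Gr.P := Gr.P_T k hkT p hp
  have h3 : k * c * k⁻¹ ∈ Gr.C := Gr.rootC.conj_T k hkT c hc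
  have h4 : (k * p * k⁻¹) * (k * c * k⁻¹) = p * c := by
    rw [← h]
    calc (k * p * k⁻¹) * (k * c * k⁻¹) = k * (p * c) * k⁻¹ := by group
      _ = k * g * k⁻¹ := by rw [h]
      _ = g := by rw [h1]; group
  have h5 : p⁻¹ * (k * p * k⁻¹) = c * (k * c * k⁻¹)⁻¹ := by
    calc p⁻¹ * (k * p * k⁻¹) = p⁻¹ * ((k * p * k⁻¹) * (k * c * k⁻¹)) * (k * c * k⁻¹)⁻¹ := by group
      _ = _ := by rw [h4]; group
  have h6 : p⁻¹ * (k * p * k⁻¹) = 1 :=
    P_C (mul_mem (inv_mem hp) h2) (by rw [h5]; exact mul_mem hc (inv_mem h3))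
  have h7 : k * p = p * k := by
    have : k * p * k⁻¹ = p := (inv_mul_eq_one.1 h6).symm
    exact mul_inv_eq_iff_eq_mul.1 this
  have h8 : p = 1 := Gr.toQGrown.P_fix hp h7
  rw [h8, one_mul] at h
  have h9 : E.na * g * E.na⁻¹ = 1 := P_C ((Gr.mem_R g).1 hg) (Gr.na_C g (by rw [h]; exact hc))
  calc g = E.na⁻¹ * (E.na * g * E.na⁻¹) * E.na := by group
    _ = 1 := by rw [h9]; group

/-! ### The groups `S_i` -/

/-- `P_i C_i` -/
def PCi (i : Bool) : Subgroup G := mulS (D.X i 2) (D.X i 3) fun p hp c hc => by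
  have h := (cCP (Gr := Gr) (D.C_le i hc) (D.P_le i hp)).eq
  rw [← h, mul_inv_cancel_right]; exact hc

theorem mem_PCi {i : Bool} {g : G} : g ∈ D.PCi i ↔ ∃ p ∈ D.X i 2, ∃ c ∈ D.X i 3, g = p * c := Iff.rfl

theorem R_PCi {i : Bool} {r y : G} (hr : r ∈ D.X i 4) (hy : y ∈ D.PCi i) : r * y * r⁻¹ ∈ D.PCi i := by
  obtain ⟨p, hp, c, hc, rfl⟩ := hy
  obtain ⟨c', hc', h⟩ := D.P_R i p hp r (mem_kj.1 hr)
  have hc'' : c' ∈ D.X i 3 := mem_kj.2 hc'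
  have h1 := D.cC_R i i hc hr
  have h2 : r * p * r⁻¹ = c'⁻¹ * p := by
    have h3 : p * r = c' * r * p := mul_inv_eq_iff_eq_mul.1 h
    calc r * p * r⁻¹ = c'⁻¹ * (c' * r * p) * r⁻¹ := by group
      _ = c'⁻¹ * (p * r) * r⁻¹ := by rw [h3]
      _ = _ := by group
  have h4 := (cCP (Gr := Gr) (D.C_le i hc'') (D.P_le i hp)).inv_left.eq
  refine ⟨p, hp, c'⁻¹ * c, mul_mem (inv_mem hc'') hc, ?_⟩
  calc r * (p * c) * r⁻¹ = (r * p * r⁻¹) * (r * c) * r⁻¹ := by group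
    _ = (c'⁻¹ * p) * c := by rw [h2, ← h1]; group
    _ = _ := by rw [h4]; group

/-- `R_i P_i C_i` -/
def NN (i : Bool) : Subgroup G := mulS (D.X i 4) (D.PCi i) fun _ hr _ hy => D.R_PCi hr hy

theorem A_NN {i : Bool} {a n : G} (ha : a ∈ D.X i 1) (hn : n ∈ D.NN i) : a * n * a⁻¹ ∈ D.NN i := by
  obtain ⟨r, hr, y, ⟨p, hp, c, hc, rfl⟩, rfl⟩ := hn
  have memP : ∀ {p : G}, p ∈ D.X i 2 → p ∈ D.NN i := fun {p} hp => ⟨1, one_mem _, p, ⟨p, hp, 1, one_mem _, by group⟩, by group⟩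
  have memC : ∀ {p : G}, p ∈ D.X i 3 → p ∈ D.NN i := fun {p} hp => ⟨1, one_mem _, p, ⟨1, one_mem _, p, hp, by group⟩, by group⟩
  have memR : ∀ {p : G}, p ∈ D.X i 4 → p ∈ D.NN i := fun {p} hp => ⟨p, hp, 1, one_mem _, by group⟩
  have h1 : a * r * a⁻¹ ∈ D.NN i := by
    obtain ⟨p', hp', c', hc', h⟩ := D.A_R i a ha r (mem_kj.1 hr)
    rw [h]
    exact mul_mem (mul_mem (memP hp') (memC (mem_kj.2 hc'))) (memR hr)
  have h2 : a * p * a⁻¹ ∈ D.NN i := by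
    rw [(cAP (Gr := Gr) (D.A_le i ha) (D.P_le i hp)).eq, mul_inv_cancel_right]
    exact memP hp
  have h3 : a * c * a⁻¹ ∈ D.NN i := by
    obtain ⟨p', hp', h⟩ := D.A_C i a ha c (mem_kj.1 hc)
    rw [h]
    exact mul_mem (memP hp') (memC hc)
  have e : a * (r * (p * c)) * a⁻¹ = (a * r * a⁻¹) * ((a * p * a⁻¹) * (a * c * a⁻¹)) := by group
  rw [e]
  exact mul_mem h1 (mul_mem h2 h3)

/-- `S_i = A_i R_i P_i C_i` -/
def SS (i : Bool) : Subgroup G := mulS (D.X i 1) (D.NN i) fun _ hr _ hy => D.A_NN hr hy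

theorem mem_SS {i : Bool} {g : G} : g ∈ D.SS i ↔
    ∃ a ∈ D.X i 1, ∃ n ∈ D.NN i, g = a * n := Iff.rfl

theorem PCi_eq (i : Bool) : D.PCi i = D.X i 2 ⊔ D.X i 3 := mulS_eq_sup _ _ _

theorem NN_eq (i : Bool) : D.NN i = D.X i 4 ⊔ (D.X i 2 ⊔ D.X i 3) := by
  rw [← D.PCi_eq]
  exact mulS_eq_sup _ _ _

theorem SS_eq (i : Bool) : D.SS i = D.X i 1 ⊔ (D.X i 4 ⊔ (D.X i 2 ⊔ D.X i 3)) := by
  rw [← D.NN_eq]
  exact mulS_eq_sup _ _ _

theorem SS_le_LL (i : Bool) : D.SS i ≤ D.LL i := by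
  rw [D.SS_eq]
  exact sup_le (D.X_LL i 1) (sup_le (D.X_LL i 4) (sup_le (D.X_LL i 2) (D.X_LL i 3)))

theorem SS_comm {i : Bool} {x y : G} (hx : x ∈ D.SS i) (hy : y ∈ D.SS (!i)) : x * y = y * x :=
  (cm_iff.1 (D.LL_comm i) x (D.SS_le_LL i hx) y (D.SS_le_LL _ hy)).symm

theorem X_SS (i : Bool) : D.X i 1 ≤ D.SS i ∧ D.X i 2 ≤ D.SS i ∧ D.X i 3 ≤ D.SS i ∧ D.X i 4 ≤ D.SS i := by
  rw [D.SS_eq]
  exact ⟨le_sup_left, le_sup_left.trans (le_sup_right.trans le_sup_right),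
    le_sup_right.trans (le_sup_right.trans le_sup_right), le_sup_left.trans le_sup_right⟩

theorem PP_PP {g : G} {i : Bool} (h : g ∈ D.PP i) (h' : g ∈ D.PP (!i)) : g = 1 := by
  cases i
  · exact D.P_inf g h h'
  · exact D.P_inf g h' h

theorem AA_AA {g : G} {i : Bool} (h : g ∈ D.AA i) (h' : g ∈ D.AA (!i)) : g = 1 := by
  cases i
  · exact D.A_inf g h h'
  · exact D.A_inf g h' h

theorem kj_one_iff {n g : G} (h : n * g * n⁻¹ = 1) : g = 1 := by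
  calc g = n⁻¹ * (n * g * n⁻¹) * n := by group
    _ = 1 := by rw [h]; group

variable [Finite G]

theorem NN_le (i : Bool) : D.NN i ≤ Gr.toQGrown.N2 := by
  rw [D.NN_eq]
  refine sup_le (fun g hg => ?_) (sup_le (fun g hg => ?_) (fun g hg => ?_))
  · exact Gr.toQGrown.R_InN2 (gr_R.1 (D.R_le i hg))
  · exact Gr.toQGrown.P_InN2 (D.P_le i hg)
  · exact Gr.toQGrown.PC_N2 (Gr.toQGrown.C_PC (D.C_le i hg))

theorem SS_inf (i : Bool) {g : G} (h : g ∈ D.SS i) (h' : g ∈ D.SS (!i)) : g = 1 := by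
  obtain ⟨a, ha, n, hn, rfl⟩ := h
  obtain ⟨a', ha', n', hn', e⟩ := h'
  have h1 : a'⁻¹ * a = 1 := by
    apply Gr.toQGrown.A_inf_N2 (mul_mem (inv_mem (D.A_le _ ha')) (D.A_le _ ha))
    have : a'⁻¹ * a = n' * n⁻¹ := by
      calc a'⁻¹ * a = a'⁻¹ * (a * n) * n⁻¹ := by group
        _ = _ := by rw [e]; group
    rw [this]
    exact mul_mem (D.NN_le _ hn') (inv_mem (D.NN_le _ hn))
  have h2 : a' = a := inv_mul_eq_one.1 h1
  subst h2
  have h3 : a' = 1 := D.AA_AA ha ha'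
  subst h3
  rw [one_mul] at e ⊢
  rw [one_mul] at e
  subst e
  obtain ⟨r, hr, y, ⟨p, hp, c, hc, rfl⟩, rfl⟩ := hn
  obtain ⟨r', hr', y', ⟨p', hp', c', hc', rfl⟩, e⟩ := hn'
  have hPC : ∀ {p c p' c' : G}, p ∈ Gr.P → c ∈ Gr.C → p' ∈ Gr.P → c' ∈ Gr.C → (p' * c') * (p * c)⁻¹ = (p' * p⁻¹) * (c' * c⁻¹) := by
    intro p c p' c' hp hc hp' hc'
    have e1 := (cCP (Gr := Gr) (mul_mem hc' (inv_mem hc)) (inv_mem hp)).eq
    calc (p' * c') * (p * c)⁻¹ = p' * ((c' * c⁻¹) * p⁻¹) := by group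
      _ = _ := by rw [e1]; group
  have h4 : r'⁻¹ * r = 1 := by
    apply R_PC (mul_mem (inv_mem (D.R_le _ hr')) (D.R_le _ hr))
      (mul_mem (D.P_le _ hp') (inv_mem (D.P_le _ hp))) (mul_mem (D.C_le _ hc') (inv_mem (D.C_le _ hc)))
    rw [← hPC (D.P_le _ hp) (D.C_le _ hc) (D.P_le _ hp') (D.C_le _ hc')]
    calc r'⁻¹ * r = r'⁻¹ * (r * (p * c)) * (p * c)⁻¹ := by group
      _ = _ := by rw [e]; group
  have h5 : r' = r := inv_mul_eq_one.1 h4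
  subst h5
  have h6 : r' = 1 := kj_one_iff (n := E.na) (D.PP_PP (mem_kj.1 hr) (mem_kj.1 hr'))
  subst h6
  rw [one_mul, one_mul] at e
  have h7 : p'⁻¹ * p = 1 := by
    apply P_C (mul_mem (inv_mem (D.P_le _ hp')) (D.P_le _ hp))
    have : p'⁻¹ * p = c' * c⁻¹ := by
      calc p'⁻¹ * p = p'⁻¹ * (p * c) * c⁻¹ := by group
        _ = _ := by rw [e]; group
    rw [this]
    exact mul_mem (D.C_le _ hc') (inv_mem (D.C_le _ hc))
  have h8 : p' = p := inv_mul_eq_one.1 h7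
  subst h8
  have h9 : p' = 1 := D.PP_PP hp hp'
  subst h9
  rw [one_mul, one_mul] at e
  subst e
  have h10 : c = 1 := kj_one_iff (n := E.nb) (D.AA_AA (mem_kj.1 hc) (mem_kj.1 hc'))
  rw [h10]; group

theorem SS_le (i : Bool) : D.SS i ≤ Gr.toQGrown.S0 := by
  rw [D.SS_eq]
  refine sup_le (fun g hg => Gr.toQGrown.A_le (D.A_le i hg)) ?_
  rw [← D.NN_eq]
  exact (D.NN_le i).trans Gr.toQGrown.N2_le_S0

theorem S0_le : Gr.toQGrown.S0 ≤ D.SS false ⊔ D.SS true := by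
  have hf : ∀ {k : Fin 8}, (k = 1 ∨ k = 2 ∨ k = 3 ∨ k = 4) → ∀ i, D.X i k ≤ D.SS false ⊔ D.SS true := by
    intro k hk i
    have h1 : D.X i k ≤ D.SS i := by
      rcases hk with rfl | rfl | rfl | rfl
      · exact (D.X_SS i).1
      · exact (D.X_SS i).2.1
      · exact (D.X_SS i).2.2.1
      · exact (D.X_SS i).2.2.2
    cases i
    · exact h1.trans le_sup_left
    · exact h1.trans le_sup_right
  intro g hg
  obtain ⟨a, ha, p, hp, c, hc, r, hr, rfl⟩ := Gr.toQGrown.S0_form hg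
  have hA : a ∈ D.SS false ⊔ D.SS true := by
    obtain ⟨x, hx, y, hy, rfl⟩ := D.A_sup a ha
    exact mul_mem (hf (k := 1) (Or.inl rfl) false hx) (hf (k := 1) (Or.inl rfl) true hy)
  have hP : p ∈ D.SS false ⊔ D.SS true := by
    obtain ⟨x, hx, y, hy, rfl⟩ := D.P_sup p hp
    exact mul_mem (hf (k := 2) (Or.inr (Or.inl rfl)) false hx) (hf (k := 2) (Or.inr (Or.inl rfl)) true hy)
  have hC : c ∈ D.SS false ⊔ D.SS true := by
    obtain ⟨x, hx, y, hy, e⟩ := D.A_sup _ ((Gr.mem_C c).1 hc)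
    have e1 : c = (E.nb⁻¹ * x * E.nb) * (E.nb⁻¹ * y * E.nb) := by
      calc c = E.nb⁻¹ * (E.nb * c * E.nb⁻¹) * E.nb := by group
        _ = _ := by rw [e]; group
    rw [e1]
    have m : ∀ {i x}, x ∈ D.AA i → E.nb⁻¹ * x * E.nb ∈ D.X i 3 := by
      intro i x hx
      refine mem_kj.2 ?_
      rw [show E.nb * (E.nb⁻¹ * x * E.nb) * E.nb⁻¹ = x by group]; exact hx
    exact mul_mem (hf (k := 3) (Or.inr (Or.inr (Or.inl rfl))) false (m hx))
      (hf (k := 3) (Or.inr (Or.inr (Or.inl rfl))) true (m hy))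
  have hR : r ∈ D.SS false ⊔ D.SS true := by
    obtain ⟨x, hx, y, hy, e⟩ := D.P_sup _ ((Gr.mem_R r).1 (gr_R.2 hr))
    have e1 : r = (E.na⁻¹ * x * E.na) * (E.na⁻¹ * y * E.na) := by
      calc r = E.na⁻¹ * (E.na * r * E.na⁻¹) * E.na := by group
        _ = _ := by rw [e]; group
    rw [e1]
    have m : ∀ {i x}, x ∈ D.PP i → E.na⁻¹ * x * E.na ∈ D.X i 4 := by
      intro i x hx
      refine mem_kj.2 ?_
      rw [show E.na * (E.na⁻¹ * x * E.na) * E.na⁻¹ = x by group]; exact hx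
    exact mul_mem (hf (k := 4) (Or.inr (Or.inr (Or.inr rfl))) false (m hx))
      (hf (k := 4) (Or.inr (Or.inr (Or.inr rfl))) true (m hy))
  exact mul_mem (mul_mem (mul_mem hA hP) hC) hR

theorem SS_sup : D.SS false ⊔ D.SS true = Gr.toQGrown.S0 :=
  le_antisymm (sup_le (D.SS_le _) (D.SS_le _)) D.S0_le

omit [Finite G] in
theorem t_SS (i : Bool) {g : G} (hg : g ∈ D.SS i) : E.t * g * E.t⁻¹ ∈ D.SS (!i) := by
  have h : kj E.t (D.SS i) ≤ D.SS (!i) := by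
    rw [D.SS_eq, D.SS_eq, kj_sup, kj_sup, kj_sup]
    exact sup_le_sup (D.t_X i 1) (sup_le_sup (D.t_X i 4) (sup_le_sup (D.t_X i 2) (D.t_X i 3)))
  apply h
  rw [mem_kj]
  have h2 : E.t * (E.t * g * E.t⁻¹) * E.t⁻¹ = g := by
    calc E.t * (E.t * g * E.t⁻¹) * E.t⁻¹ = (E.t * E.t) * g * (E.t * E.t)⁻¹ := by group
      _ = g := by rw [E.t_sq]; group
  rw [h2]
  exact hg

omit [Finite G] in
theorem t_t (g : G) : E.t * (E.t * g * E.t⁻¹) * E.t⁻¹ = g := by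
  calc E.t * (E.t * g * E.t⁻¹) * E.t⁻¹ = (E.t * E.t) * g * (E.t * E.t)⁻¹ := by group
    _ = g := by rw [E.t_sq]; group

theorem half_mem (i : Bool) {s : G} (hs : s ∈ D.SS i) : s * (E.t * s * E.t⁻¹) ∈ UU E.toWEnv := by
  apply Gr.toQGrown.S0_cent (mul_mem (D.SS_le i hs) (D.SS_le _ (D.t_SS i hs)))
  have h1 := D.SS_comm hs (D.t_SS i hs)
  have h2 : E.t * (s * (E.t * s * E.t⁻¹)) * E.t⁻¹ = s * (E.t * s * E.t⁻¹) := by
    calc E.t * (s * (E.t * s * E.t⁻¹)) * E.t⁻¹ = (E.t * s * E.t⁻¹) * (E.t * (E.t * s * E.t⁻¹) * E.t⁻¹) := by group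
      _ = (E.t * s * E.t⁻¹) * s := by rw [t_t]
      _ = _ := h1.symm
  exact (mul_inv_eq_iff_eq_mul.1 h2).symm

/-- `s ↦ s s^t` -/
def half (i : Bool) : D.SS i →* UU E.toWEnv where
  toFun s := ⟨s * (E.t * s * E.t⁻¹), D.half_mem i s.2⟩
  map_one' := Subtype.ext (by change (1 : G) * (E.t * 1 * E.t⁻¹) = 1; group)
  map_mul' s s' := Subtype.ext (by
    change (s : G) * s' * (E.t * (s * s') * E.t⁻¹) = s * (E.t * s * E.t⁻¹) * (s' * (E.t * s' * E.t⁻¹))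
    have h1 := D.SS_comm s'.2 (D.t_SS i s.2)
    calc (s : G) * s' * (E.t * (s * s') * E.t⁻¹) = s * (s' * (E.t * s * E.t⁻¹)) * (E.t * s' * E.t⁻¹) := by group
      _ = _ := by rw [h1]; group)

theorem half_apply (i : Bool) (s : D.SS i) : (D.half i s : G) = s * (E.t * s * E.t⁻¹) := rfl

theorem half_inj (i : Bool) : Function.Injective (D.half i) := by
  rw [injective_iff_map_eq_one]
  intro s hs
  have h1 : (s : G) * (E.t * s * E.t⁻¹) = 1 := congrArg Subtype.val hs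
  apply Subtype.ext
  apply D.SS_inf i s.2
  have h2 : (s : G) = (E.t * s * E.t⁻¹)⁻¹ := eq_inv_of_mul_eq_one_left h1
  rw [h2]
  exact inv_mem (D.t_SS i s.2)

theorem exists_SS (i : Bool) {g : G} (hg : g ∈ Gr.toQGrown.S0) : ∃ x ∈ D.SS i, ∃ y ∈ D.SS (!i), g = x * y := by
  have h1 : g ∈ D.SS i ⊔ D.SS (!i) := by
    have h2 := D.S0_le hg
    cases i
    · exact h2
    · rw [sup_comm]; exact h2
  have h3 : ∀ h ∈ D.SS i, ∀ k ∈ D.SS (!i), h * k * h⁻¹ ∈ D.SS (!i) := by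
    intro h hh k hk
    rw [D.SS_comm hh hk, mul_inv_cancel_right]; exact hk
  rw [← mulS_eq_sup _ _ h3] at h1
  exact h1

theorem half_surj (i : Bool) : Function.Surjective (D.half i) := by
  rintro ⟨u, hu⟩
  obtain ⟨x, hx, y, hy, rfl⟩ := D.exists_SS i (Gr.toQGrown.U_le hu)
  have htu : E.t * (x * y) * E.t⁻¹ = x * y := by
    obtain ⟨q, hq, s, e⟩ := mem_UU.1 hu
    rw [e]
    have e1 := E.t_Q q hq
    have e2 := E.t_a s
    calc E.t * (q * E.xa s) * E.t⁻¹ = (E.t * q) * E.xa s * E.t⁻¹ := by group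
      _ = q * (E.t * E.xa s) * E.t⁻¹ := by rw [e1]; group
      _ = _ := by rw [e2]; group
  have h1 := D.t_SS i hx
  have h2 : E.t * y * E.t⁻¹ ∈ D.SS i := by
    have := D.t_SS (!i) hy
    rwa [Bool.not_not] at this
  have h3 : (E.t * y * E.t⁻¹) * (E.t * x * E.t⁻¹) = x * y := by
    rw [D.SS_comm h2 h1]
    rw [← htu]; group
  have h4 : y * (E.t * x * E.t⁻¹)⁻¹ = 1 := by
    apply D.SS_inf i _ (mul_mem hy (inv_mem h1))
    have : y * (E.t * x * E.t⁻¹)⁻¹ = x⁻¹ * (E.t * y * E.t⁻¹) := by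
      calc y * (E.t * x * E.t⁻¹)⁻¹ = x⁻¹ * (x * y) * (E.t * x * E.t⁻¹)⁻¹ := by group
        _ = _ := by rw [← h3]; group
    rw [this]
    exact mul_mem (inv_mem hx) h2
  refine ⟨⟨x, hx⟩, Subtype.ext ?_⟩
  change x * (E.t * x * E.t⁻¹) = x * y
  rw [mul_inv_eq_one.1 h4]

/-- `S_i ≅ U` -/
noncomputable def equivU (i : Bool) : D.SS i ≃* UU E.toWEnv :=
  MulEquiv.ofBijective (D.half i) ⟨D.half_inj i, D.half_surj i⟩

theorem card_SS (i : Bool) : Nat.card (D.SS i) = Nat.card (UU E.toWEnv) := Nat.card_congr (D.equivU i).toEquiv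

theorem SS_ne (i : Bool) : D.SS i ≠ ⊥ := by
  intro h
  have h1 : E.xa 1 ∈ UU E.toWEnv := a_mem _ _
  obtain ⟨s, hs⟩ := D.half_surj i ⟨_, h1⟩
  have h2 : (s : G) = 1 := by
    have key : ∀ x ∈ D.SS i, x = 1 := fun x hx => by
      rw [h] at hx
      exact mem_bot.1 hx
    exact key s s.2
  have h3 : (D.half i s : G) = E.xa 1 := congrArg Subtype.val hs
  rw [half_apply, h2] at h3
  have h4 : E.xa 1 = E.xa 0 := by rw [E.toWEnv.xa_zero, ← h3]; group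
  exact one_ne_zero (xa_inj h4)

/-! ### The torus -/

omit [Finite G] in
theorem T_X (i : Bool) (k : Fin 8) {g : G} (hg : g ∈ E.T) : kj g (D.X i k) ≤ D.X i k := by
  have hA : ∀ g ∈ E.T, kj g (D.AA i) ≤ D.AA i := by
    intro g hg x hx
    have h1 := D.T_A i g⁻¹ (inv_mem hg) _ (mem_kj.1 hx)
    rwa [show g⁻¹ * (g * x * g⁻¹) * g⁻¹⁻¹ = x by group] at h1
  have hP : ∀ g ∈ E.T, kj g (D.PP i) ≤ D.PP i := by
    intro g hg x hx
    have h1 := D.T_P i g⁻¹ (inv_mem hg) _ (mem_kj.1 hx)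
    rwa [show g⁻¹ * (g * x * g⁻¹) * g⁻¹⁻¹ = x by group] at h1
  have key : ∀ (n : G) (H : Subgroup G), (∀ g ∈ E.T, n * g * n⁻¹ ∈ E.T) → (∀ g ∈ E.T, kj g H ≤ H) →
      ∀ g ∈ E.T, kj g (kj n H) ≤ kj n H := by
    intro n H hn hH g hg
    have h1 : n * g = (n * g * n⁻¹) * n := by group
    rw [kj_kj, h1, ← kj_kj]
    exact kj_mono n (hH _ (hn g hg))
  have hna : ∀ g ∈ E.T, E.na * g * E.na⁻¹ ∈ E.T := fun g hg => (E.na_T g).1 hg
  have hnb : ∀ g ∈ E.T, E.nb * g * E.nb⁻¹ ∈ E.T := fun g hg => (E.nb_T g).1 hg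
  have hab : ∀ g ∈ E.T, (E.na * E.nb) * g * (E.na * E.nb)⁻¹ ∈ E.T := by
    intro g hg
    have := hna _ (hnb g hg)
    rwa [show E.na * (E.nb * g * E.nb⁻¹) * E.na⁻¹ = (E.na * E.nb) * g * (E.na * E.nb)⁻¹ by group] at this
  have haba : ∀ g ∈ E.T, (E.na * E.nb * E.na) * g * (E.na * E.nb * E.na)⁻¹ ∈ E.T := by
    intro g hg
    have := hab _ (hna g hg)
    rwa [show (E.na * E.nb) * (E.na * g * E.na⁻¹) * (E.na * E.nb)⁻¹ =
      (E.na * E.nb * E.na) * g * (E.na * E.nb * E.na)⁻¹ by group] at this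
  match k with
  | 0 => exact key _ _ hab hP g hg
  | 1 => exact hA g hg
  | 2 => exact hP g hg
  | 3 => exact key _ _ hnb hA g hg
  | 4 => exact key _ _ hna hP g hg
  | 5 => exact key _ _ hna hA g hg
  | 6 => exact key _ _ haba hP g hg
  | 7 => exact key _ _ hab hA g hg

omit [Finite G] in
theorem of_kj {K : Subgroup G} (h : ∀ g ∈ E.T, kj g K ≤ K) {g x : G} (hg : g ∈ E.T) (hx : x ∈ K) :
    g * x * g⁻¹ ∈ K := by
  apply h g⁻¹ (inv_mem hg)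
  rw [mem_kj, show g⁻¹ * (g * x * g⁻¹) * g⁻¹⁻¹ = x by group]
  exact hx

omit [Finite G] in
theorem T_LL (i : Bool) {g x : G} (hg : g ∈ E.T) (hx : x ∈ D.LL i) : g * x * g⁻¹ ∈ D.LL i := by
  refine of_kj (fun g hg => ?_) hg hx
  have h1 : kj g (⨆ k, D.X i k) = ⨆ k, kj g (D.X i k) := by
    unfold kj
    exact Subgroup.map_iSup _ _
  unfold LL
  rw [h1]
  exact iSup_le fun k => (D.T_X i k hg).trans (D.X_LL i k)

omit [Finite G] in
theorem T_SS (i : Bool) {g x : G} (hg : g ∈ E.T) (hx : x ∈ D.SS i) : g * x * g⁻¹ ∈ D.SS i := by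
  refine of_kj (fun g hg => ?_) hg hx
  rw [D.SS_eq, kj_sup, kj_sup, kj_sup]
  exact sup_le_sup (D.T_X i 1 hg) (sup_le_sup (D.T_X i 4 hg) (sup_le_sup (D.T_X i 2 hg) (D.T_X i 3 hg)))

omit [Finite G] in
theorem na_LL' (i : Bool) {x : G} (hx : x ∈ D.LL i) : E.na * x * E.na⁻¹ ∈ D.LL i := by
  rw [← mem_kj, D.na_LL]; exact hx

omit [Finite G] in
theorem nb_LL' (i : Bool) {x : G} (hx : x ∈ D.LL i) : E.nb * x * E.nb⁻¹ ∈ D.LL i := by
  rw [← mem_kj, D.nb_LL]; exact hx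

/-- **The data of Theorem W.** -/
theorem pdata : PData Gr.toQGrown.S0 (D.SS false) (D.SS true) (D.LL false) (D.LL true) := by
  have : Finite F := finite_F E.toWEnv
  have hi : ∀ i, CentIndec (D.SS i) := fun i =>
    ChartUni.centIndec_of_equiv (D.equivU i).symm (UFiveUni.centIndec_of_finite E)
  have hc : ∀ i, centralizer ((⁅D.SS i, D.SS i⁆ : Subgroup G) : Set G) ⊓ D.SS i ≤ ⁅D.SS i, D.SS i⁆ := fun i =>
    ChartUni.centralizer_le_of_equiv (D.equivU i).symm (UFiveUni.centralizer_le E)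
  refine ⟨⟨⟨D.SS_le _, D.SS_le _, fun a ha b hb => D.SS_comm ha hb, ?_, D.SS_sup⟩, ?_, D.SS_ne _, D.SS_ne _,
    hi _, hi _, hc _, hc _⟩, D.LL_perf _, D.LL_perf _, D.SS_le_LL _, D.SS_le_LL _, ?_, ?_⟩
  · rw [eq_bot_iff]
    intro g hg
    obtain ⟨h1, h2⟩ := mem_inf.1 hg
    exact mem_bot.2 (D.SS_inf false h1 h2)
  · rw [D.card_SS, D.card_SS]
  · exact (D.LL_comm false).trans (centralizer_le (D.SS_le_LL true))
  · exact (D.LL_comm true).trans (centralizer_le (D.SS_le_LL false))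

end Cfsg.Agent.StdRank2.SC.Five.SplitG
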