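import Cfsg.Agent.StdRank2.SC.SplitOut
import Cfsg.Agent.StdRank2.SC.FieldOut
import Cfsg.Agent.StdRank2.SC.FiveSplitS

/-!
# `U₅(q)`, `q ≥ 4` even: the two cases for the grown group

`dich Gr` : either `SplitG Gr` (and then `SplitG.pdata`) or `S0 ≃* UT₅(R)`, `|R| = |F|`, `|S0| = |F| ^ 10`.
-/

set_option autoImplicit false
set_option linter.unusedSectionVars false

namespace Cfsg.Agent.StdRank2.SC.Five

open Subgroup Cfsg.Agent.StdRank2.UFour Cfsg.Agent.StdRank2.UFive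
open Cfsg.Agent.SylowL.UT (UT)

variable {F : Type*} [Field F] [CharP F 2] {B : Bar F} {G : Type*} [Group G] [Finite G]
variable {E : UFive.Env B G}

theorem S5_eq_S0 (Gr : UFive.Grown E) : S5 Gr = Gr.toQGrown.S0 := by
  have hR : ∀ g, g ∈ Gr.R → g ∈ Gr.toQGrown.R := fun g => SplitG.gr_R.1
  have hR' : ∀ g, g ∈ Gr.toQGrown.R → g ∈ Gr.R := fun g => SplitG.gr_R.2
  apply le_antisymm
  · refine sup_le (sup_le (sup_le (sup_le (sup_le ?_ ?_) ?_) ?_) ?_) ?_
    · exact Gr.toQGrown.A_le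
    · exact Gr.toQGrown.B_le_S0
    · exact Gr.toQGrown.C_le
    · exact Gr.toQGrown.Z_le_S0
    · exact Gr.toQGrown.P_le
    · exact fun g hg => Gr.toQGrown.R_le (hR g hg)
  · rw [Gr.toQGrown.S0_eq_sup]
    refine sup_le (sup_le (sup_le ?_ ?_) ?_) ?_
    · exact A_le_S5
    · exact P_le_S5
    · exact C_le_S5
    · exact fun g hg => R_le_S5 (hR' g hg)

/-- **The two cases.** -/
theorem dich (Gr : UFive.Grown E) : Nonempty (SplitG Gr) ∨
    ∃ (R : Type) (_ : Field R) (_ : Finite R), Nat.card R = Nat.card F ∧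
      Nonempty (Gr.toQGrown.S0 ≃* UT 5 R) ∧ Nat.card Gr.toQGrown.S0 = Nat.card F ^ 10 := by
  obtain ⟨P⟩ := exists_Eps (ag Gr)
  rcases P.hs with h | h
  · exact Or.inl (exists_splitG h)
  · right
    have h1 := field_UT (P := P) h
    rwa [S5_eq_S0] at h1

end Cfsg.Agent.StdRank2.SC.Five
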