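import Cfsg.Agent.StdRank2.SC.SplitCase
import Cfsg.Agent.StdRank2.SC.FieldCase
import Cfsg.Agent.StdRank2.SC.Bil
import Cfsg.Agent.StdRank2.UFive.Env

/-!
# Structure constants of `U₅(q)`: the group `P`, the maps `chi : P → F`, `tv : P → P / Z`
-/

set_option autoImplicit false
set_option linter.unusedSectionVars false

namespace Cfsg.Agent.StdRank2.SC.Five

open Subgroup Cfsg.Agent.StdRank2.UFour Cfsg.Agent.StdRank2.UFive
open Cfsg.Agent.StdRank2.SC.Eps (lt tr_lt)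

variable {F : Type*} [Field F] [CharP F 2] {B : Bar F} {G : Type*} [Group G]
variable {E : UFive.Env B G}

/-- the common structure. -/
def ag (Gr : UFive.Grown E) : AGrown E.toWEnv where
  toWGrown := Gr.toWGrown
  A := Gr.A
  nb := E.nb
  rootA := Gr.rootA
  Z_A := Gr.Z_A
  A_C := Gr.A_C
  A_B := Gr.A_B
  nb_Z g hg := by rw [Gr.nb_Z g hg, mul_inv_cancel_right]; exact hg
  nb_A g hg := by
    rw [Gr.mem_C]
    have h1 := (Gr.mem_A g).1 hg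
    have h2 : E.nb * (E.nb * g * E.nb⁻¹) * E.nb⁻¹ = g := by
      calc E.nb * (E.nb * g * E.nb⁻¹) * E.nb⁻¹ = (E.nb * E.nb) * g * (E.nb * E.nb)⁻¹ := by group
        _ = g := by rw [E.nb_sq]; group
    rw [h2]; exact hg
  nb_C g hg := (Gr.mem_C g).1 hg
  t_nb := E.t_nb
  nb_sq := E.nb_sq
  nb_a := E.nb_a
  nb_c := E.nb_c
  nb_T := E.nb_T
  nb_b := by
    have h := E.nb_b
    have h1 := E.nb_sq
    have h2 := E.toWEnv.xb_sq 1
    have h3 : E.nb⁻¹ = E.nb := WEnv.inv_of_sq h1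
    have h4 : (E.xb 1)⁻¹ = E.xb 1 := WEnv.inv_of_sq h2
    have h5 : E.nb * E.xb 1 * E.nb = (E.xb 1)⁻¹ * E.nb⁻¹ * (E.xb 1)⁻¹ := by
      have h6 : (E.nb * E.xb 1 * E.nb) * (E.xb 1 * E.nb * E.xb 1) = 1 := by rw [← h]; group
      rw [eq_inv_of_mul_eq_one_left h6]; group
    rw [h3, h4] at h5
    exact h5

variable (Gr : UFive.Grown E)

theorem ag_A : (ag Gr).A = Gr.A := rfl
theorem ag_C : (ag Gr).C = Gr.C := rfl
theorem ag_Z : (ag Gr).Z = Gr.Z := rfl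
theorem ag_B : (ag Gr).Bb = Gr.Bb := rfl

/-- an element of `Tp B` over `w`. -/
noncomputable def tp (B : Bar F) (w : F) : Tp B := ⟨w, lt B (B.nm w), congrArg Subtype.val (tr_lt (B.nm w))⟩

@[simp] theorem tp_w (w : F) : (tp B w).w = w := rfl

/-- two elements with the same `w`. -/
theorem eq_ofK {q q' : Tp B} (h : q.w = q'.w) : ∃ k, q = Tp.ofK k * q' := by
  have h1 : B.s (q.c + q'.c) = q.c + q'.c := by
    have e1 := q.ok
    have e2 := q'.ok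
    rw [h] at e1
    rw [map_add]
    have e3 := Bar.add_self (B.s q.c)
    have e4 := Bar.add_self (q'.c)
    have e5 := Bar.add_self (q'.w * B.s q'.w)
    linear_combination e1 + e2 + e5 - Bar.add_self q.c - Bar.add_self q'.c
  refine ⟨⟨_, h1⟩, ?_⟩
  ext
  · simp [h]
  · simp only [Tp.mul_c, Tp.ofK_c, Tp.ofK_w, map_zero, mul_zero, add_zero]
    have e4 := Bar.add_self (q'.c)
    linear_combination -e4

variable {Gr}

theorem cZP {r a : G} (hr : r ∈ Gr.Z) (ha : a ∈ Gr.P) : Commute r a := Gr.Z_P r hr a ha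
theorem cAP {r a : G} (hr : r ∈ Gr.A) (ha : a ∈ Gr.P) : Commute r a := Gr.A_P r hr a ha
theorem cCP {r a : G} (hr : r ∈ Gr.C) (ha : a ∈ Gr.P) : Commute r a := Gr.C_P r hr a ha
theorem cPB {r a : G} (hr : r ∈ Gr.P) (ha : a ∈ Gr.Bb) : Commute r a := Gr.P_B r hr a ha
theorem cZZ {r a : G} (hr : r ∈ Gr.Z) (ha : a ∈ Gr.Z) : Commute r a := AGrown.cZZ (D := ag Gr) hr ha
theorem cCC {r a : G} (hr : r ∈ Gr.C) (ha : a ∈ Gr.C) : Commute r a := AGrown.cCC (D := ag Gr) hr ha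
theorem cZC {r a : G} (hr : r ∈ Gr.Z) (ha : a ∈ Gr.C) : Commute r a := AGrown.cZC (D := ag Gr) hr ha
theorem cZA {r a : G} (hr : r ∈ Gr.Z) (ha : a ∈ Gr.A) : Commute r a := AGrown.cZA (D := ag Gr) hr ha
theorem cZB {r a : G} (hr : r ∈ Gr.Z) (ha : a ∈ Gr.Bb) : Commute r a := AGrown.cZB (D := ag Gr) hr ha
theorem cCB {r a : G} (hr : r ∈ Gr.C) (ha : a ∈ Gr.Bb) : Commute r a := AGrown.cCB (D := ag Gr) hr ha
theorem cAA {r a : G} (hr : r ∈ Gr.A) (ha : a ∈ Gr.A) : Commute r a := AGrown.cAA (D := ag Gr) hr ha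
theorem cBB {r a : G} (hr : r ∈ Gr.Bb) (ha : a ∈ Gr.Bb) : Commute r a := AGrown.cBB (D := ag Gr) hr ha

theorem p1_mem_Q (q : Tp B) : E.p1 q ∈ E.Q := (E.mem_Q _).2 ⟨q, 0, 1, by
  have h : E.p2 1 = 1 := by
    have := E.p2_mul 1 1
    rw [mul_one] at this
    exact left_eq_mul.1 this
  rw [h, E.toWEnv.xc_zero]; group⟩

theorem p1_one : E.p1 1 = 1 := by
  have := E.p1_mul 1 1
  rw [mul_one] at this
  exact left_eq_mul.1 this

theorem p2_one : E.p2 1 = 1 := by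
  have := E.p2_mul 1 1
  rw [mul_one] at this
  exact left_eq_mul.1 this

theorem p2_mem_Q (q : Tp B) : E.p2 q ∈ E.Q := (E.mem_Q _).2 ⟨1, 0, q, by
  rw [p1_one, E.toWEnv.xc_zero]; group⟩

theorem t_p1 (q : Tp B) : Commute E.t (E.p1 q) := E.t_Q _ (p1_mem_Q q)
theorem t_p2 (q : Tp B) : Commute E.t (E.p2 q) := E.t_Q _ (p2_mem_Q q)

theorem p1_inv (q : Tp B) : (E.p1 q)⁻¹ = E.p1 q⁻¹ := by
  rw [inv_eq_iff_mul_eq_one, ← E.p1_mul, mul_inv_cancel, p1_one]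

theorem p2_inv (q : Tp B) : (E.p2 q)⁻¹ = E.p2 q⁻¹ := by
  rw [inv_eq_iff_mul_eq_one, ← E.p2_mul, mul_inv_cancel, p2_one]

theorem xc_mem (x : F) : E.xc x ∈ Gr.C := AGrown.xc_mem (D := ag Gr) x
theorem xz_mem (x : B.K) : E.xz x ∈ Gr.Z := AGrown.xz_mem (D := ag Gr) x
theorem xb_mem (x : B.K) : E.xb x ∈ Gr.Bb := AGrown.xb_mem (D := ag Gr) x
theorem xa_mem (x : F) : E.xa x ∈ Gr.A := AGrown.xa_mem (D := ag Gr) x

theorem p1_mem_Z {q : Tp B} (h : E.p1 q ∈ Gr.Z) : q.w = 0 := by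
  have h1 := Gr.Z_Q _ h _ (p2_mem_Q (tp B 1))
  have h2 := E.one_two q (tp B 1)
  rw [h1, mul_inv_cancel_right, tp_w, one_mul] at h2
  have h3 : E.xc (B.s q.w) = E.xc 0 := by
    rw [E.toWEnv.xc_zero]
    exact (right_eq_mul.1 h2)
  have h4 := xc_inj h3
  exact (map_eq_zero_iff B.s B.s.injective).1 h4

theorem p1_inj {q q' : Tp B} (h : E.p1 q = E.p1 q') : q = q' := by
  have h1 : E.p1 (q * q'⁻¹) * E.xc 0 * E.p2 1 * E.xa 0 = 1 := by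
    rw [E.p1_mul, h, ← p1_inv, E.toWEnv.xc_zero, p2_one, E.toWEnv.xa_zero]; group
  have h2 := (E.u_inj _ _ _ _ h1).1
  exact mul_inv_eq_one.1 h2

/-- the image of `t` under `g ∈ P`. -/
theorem chi_uniq {r r' : G} {q q' : Tp B} (hr : r ∈ Gr.Z) (hr' : r' ∈ Gr.Z)
    (h : r * E.p1 q = r' * E.p1 q') : q.w = q'.w := by
  have h1 : E.p1 (q * q'⁻¹) ∈ Gr.Z := by
    have h2 : E.p1 (q * q'⁻¹) = r⁻¹ * r' := by
      rw [E.p1_mul, ← p1_inv]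
      calc E.p1 q * (E.p1 q')⁻¹ = r⁻¹ * (r * E.p1 q) * (E.p1 q')⁻¹ := by group
        _ = _ := by rw [h]; group
    rw [h2]; exact Gr.Z.mul_mem (Gr.Z.inv_mem hr) hr'
  have h3 := p1_mem_Z h1
  have h4 : q.w + q'.w = 0 := h3
  have h5 := Bar.add_self q'.w
  linear_combination h4 - h5

open Classical in
variable (Gr) in
/-- `g t g⁻¹ = r · p1 q · t`, `chi g = q.w`. -/
noncomputable def chi (g : G) : F :=
  if h : ∃ q : Tp B, ∃ r ∈ Gr.Z, g * E.t * g⁻¹ = r * E.p1 q * E.t then h.choose.w else 0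

theorem chi_eq {g r : G} {q : Tp B} (hr : r ∈ Gr.Z) (h : g * E.t * g⁻¹ = r * E.p1 q * E.t) :
    chi Gr g = q.w := by
  have h0 : ∃ q : Tp B, ∃ r ∈ Gr.Z, g * E.t * g⁻¹ = r * E.p1 q * E.t := ⟨q, r, hr, h⟩
  rw [chi, dif_pos h0]
  obtain ⟨r', hr', h2⟩ := h0.choose_spec
  exact chi_uniq hr' hr (mul_right_cancel (h2.symm.trans h))

theorem chi_spec {g : G} (hg : g ∈ Gr.P) :
    ∃ r ∈ Gr.Z, ∃ q : Tp B, q.w = chi Gr g ∧ g * E.t * g⁻¹ = r * E.p1 q * E.t := by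
  obtain ⟨r, hr, q, h⟩ := Gr.P_t g hg
  exact ⟨r, hr, q, (chi_eq hr h).symm, h⟩

theorem chi_mul {g g' : G} (hg : g ∈ Gr.P) (hg' : g' ∈ Gr.P) :
    chi Gr (g * g') = chi Gr g + chi Gr g' := by
  obtain ⟨r, hr, q, hq, h⟩ := chi_spec hg
  obtain ⟨r', hr', q', hq', h'⟩ := chi_spec hg'
  obtain ⟨z, hz, h''⟩ := Gr.P_comm g hg _ (Gr.p1_mem q')
  have h1 : (g * g') * E.t * (g * g')⁻¹ = (r' * z * r) * E.p1 (q' * q) * E.t := by
    calc (g * g') * E.t * (g * g')⁻¹ = g * (g' * E.t * g'⁻¹) * g⁻¹ := by group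
      _ = (g * r' * g⁻¹) * (g * E.p1 q' * g⁻¹) * (g * E.t * g⁻¹) := by rw [h']; group
      _ = r' * (z * E.p1 q') * (r * E.p1 q * E.t) := by
          rw [h'', h, ← (cZP hr' hg).eq, mul_inv_cancel_right]
      _ = r' * z * (E.p1 q' * r) * E.p1 q * E.t := by group
      _ = _ := by rw [← (cZP hr (Gr.p1_mem q')).eq, E.p1_mul]; group
  rw [chi_eq (Gr.Z.mul_mem (Gr.Z.mul_mem hr' hz) hr) h1, Tp.mul_w, hq, hq', add_comm]

theorem chi_Z {r : G} (hr : r ∈ Gr.Z) : chi Gr r = 0 := by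
  obtain ⟨k, hk⟩ := Gr.rootZ.conj_t r hr
  refine chi_eq (q := Tp.ofK k) (r := 1) Gr.Z.one_mem ?_
  rw [hk, one_mul, E.p1_K]

theorem chi_p1 (q : Tp B) : chi Gr (E.p1 q) = 0 := by
  refine chi_eq (q := 1) (r := 1) Gr.Z.one_mem ?_
  rw [← (t_p1 q).eq, mul_inv_cancel_right, p1_one, one_mul, one_mul]

theorem chi_inv {g : G} (hg : g ∈ Gr.P) : chi Gr g⁻¹ = chi Gr g := by
  have h1 := chi_mul hg (Gr.P.inv_mem hg)
  rw [mul_inv_cancel, chi_Z Gr.Z.one_mem] at h1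
  have h2 := Bar.add_self (chi Gr g)
  exact add_left_cancel (h1.symm.trans h2.symm)

theorem chi_T {k : G} (hk : k ∈ E.T) {ω : F} (hω : ∀ q, k * E.p1 q * k⁻¹ = E.p1 (Tp.sm ω q)) {g : G}
    (hg : g ∈ Gr.P) : chi Gr (k * g * k⁻¹) = ω * chi Gr g := by
  obtain ⟨r, hr, q, hq, h⟩ := chi_spec hg
  have ht := E.T_t k hk
  have h1 : (k * g * k⁻¹) * E.t * (k * g * k⁻¹)⁻¹ = (k * r * k⁻¹) * E.p1 (Tp.sm ω q) * E.t := by
    calc (k * g * k⁻¹) * E.t * (k * g * k⁻¹)⁻¹ = k * g * (k⁻¹ * (E.t * k)) * g⁻¹ * k⁻¹ := by group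
      _ = k * (g * E.t * g⁻¹) * k⁻¹ := by rw [ht]; group
      _ = (k * r * k⁻¹) * (k * E.p1 q * k⁻¹) * (k * E.t * k⁻¹) := by rw [h]; group
      _ = _ := by rw [hω, ← ht, mul_inv_cancel_right]
  rw [chi_eq (Gr.rootZ.conj_T k hk r hr) h1, Tp.sm_w, hq]

theorem chi_zero {g : G} (hg : g ∈ Gr.P) (h : chi Gr g = 0) : ∃ r ∈ Gr.Z, ∃ q, g = r * E.p1 q := by
  obtain ⟨r, hr, q, hq, h1⟩ := chi_spec hg
  rw [h] at hq
  obtain ⟨k, hk⟩ := eq_ofK (q := q) (q' := 1) hq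
  rw [mul_one] at hk
  refine Gr.P_cent g hg (r * E.xz k) (Gr.Z.mul_mem hr (xz_mem k)) ?_
  rw [h1, hk, E.p1_K]

/-! ### The quotient `P / Z` -/

instance normalZ : (Gr.Z.subgroupOf Gr.P).Normal := ⟨fun n hn g => by
  rw [mem_subgroupOf] at hn ⊢
  rw [Subgroup.coe_mul, Subgroup.coe_mul, Subgroup.coe_inv, ← (cZP hn g.2).eq, mul_inv_cancel_right]
  exact hn⟩

noncomputable instance commV : CommGroup (Gr.P ⧸ Gr.Z.subgroupOf Gr.P) :=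
  { QuotientGroup.Quotient.group (Gr.Z.subgroupOf Gr.P) with
    mul_comm := by
      intro x y
      induction x using QuotientGroup.induction_on with
      | H x =>
        induction y using QuotientGroup.induction_on with
        | H y =>
          rw [← QuotientGroup.mk_mul, ← QuotientGroup.mk_mul, QuotientGroup.eq, mem_subgroupOf]
          obtain ⟨r, hr, h⟩ := Gr.P_comm _ (Gr.P.inv_mem y.2) _ (Gr.P.inv_mem x.2)
          have e : ((((x * y)⁻¹ * (y * x) : Gr.P)) : G) = r := by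
            push_cast
            calc ((x : G) * y)⁻¹ * (y * x) = (((y : G)⁻¹) * ((x : G)⁻¹) * ((y : G)⁻¹)⁻¹) * x := by group
              _ = r := by rw [h]; group
          rw [e]; exact hr }

variable (Gr) in
/-- `P / Z`, written additively. -/
abbrev V := Additive (Gr.P ⧸ Gr.Z.subgroupOf Gr.P)

open Classical in
variable (Gr) in
/-- the image in `P / Z`. -/
noncomputable def tv (g : G) : V Gr :=
  if h : g ∈ Gr.P then Additive.ofMul (QuotientGroup.mk ⟨g, h⟩) else 0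

theorem tv_of {g : G} (hg : g ∈ Gr.P) : tv Gr g = Additive.ofMul (QuotientGroup.mk ⟨g, hg⟩) := dif_pos hg

theorem tv_mul {g g' : G} (hg : g ∈ Gr.P) (hg' : g' ∈ Gr.P) : tv Gr (g * g') = tv Gr g + tv Gr g' := by
  rw [tv_of hg, tv_of hg', tv_of (Gr.P.mul_mem hg hg'), ← ofMul_mul, ← QuotientGroup.mk_mul]
  rfl

theorem tv_eq_iff {g g' : G} (hg : g ∈ Gr.P) (hg' : g' ∈ Gr.P) :
    tv Gr g = tv Gr g' ↔ ∃ r ∈ Gr.Z, g = r * g' := by
  rw [tv_of hg, tv_of hg', Additive.ofMul.injective.eq_iff, QuotientGroup.eq, mem_subgroupOf]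
  constructor
  · intro h
    refine ⟨(g⁻¹ * g')⁻¹, Gr.Z.inv_mem h, ?_⟩
    have h1 : Commute (g⁻¹ * g') g' := cZP h hg'
    have h2 := h1.inv_left.eq
    rw [h2]; group
  · rintro ⟨r, hr, rfl⟩
    have h1 := (cZP hr hg').eq
    have e : (((⟨r * g', hg⟩ : Gr.P)⁻¹ * ⟨g', hg'⟩ : Gr.P) : G) = r⁻¹ := by
      push_cast
      change (r * g')⁻¹ * g' = r⁻¹
      rw [h1]; group
    rw [e]; exact Gr.Z.inv_mem hr

theorem tv_Z {r : G} (hr : r ∈ Gr.Z) : tv Gr r = 0 := by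
  rw [tv_of (Gr.Z_le hr), ← ofMul_one, Additive.ofMul.injective.eq_iff, QuotientGroup.eq_one_iff,
    mem_subgroupOf]
  exact hr

theorem tv_one : tv Gr 1 = 0 := tv_Z Gr.Z.one_mem

theorem tv_zero_iff {g : G} (hg : g ∈ Gr.P) : tv Gr g = 0 ↔ g ∈ Gr.Z := by
  rw [← tv_one, tv_eq_iff hg Gr.P.one_mem]
  constructor
  · rintro ⟨r, hr, rfl⟩; rwa [mul_one]
  · intro h; exact ⟨g, h, (mul_one g).symm⟩

theorem tv_inv {g : G} (hg : g ∈ Gr.P) : tv Gr g⁻¹ = -tv Gr g := by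
  have h := tv_mul hg (Gr.P.inv_mem hg)
  rw [mul_inv_cancel, tv_one] at h
  exact (neg_eq_of_add_eq_zero_right h.symm).symm

theorem V_two (v : V Gr) : v + v = 0 := by
  have h : ∃ g ∈ Gr.P, v = tv Gr g := by
    induction v using Additive.rec with
    | ofMul v =>
      induction v using QuotientGroup.induction_on with
      | H x => exact ⟨x, x.2, (tv_of x.2).symm⟩
  obtain ⟨g, hg, rfl⟩ := h
  rw [← tv_mul hg hg, tv_zero_iff (Gr.P.mul_mem hg hg)]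
  exact Gr.P_sq g hg

theorem exists_tv (v : V Gr) : ∃ g ∈ Gr.P, v = tv Gr g := by
  induction v using Additive.rec with
  | ofMul v =>
    induction v using QuotientGroup.induction_on with
    | H x => exact ⟨x, x.2, (tv_of x.2).symm⟩

/-- conjugation by an element normalising `P` and `Z`. -/
theorem tv_conj_congr {k g g' : G} (hP : ∀ g ∈ Gr.P, k * g * k⁻¹ ∈ Gr.P)
    (hZ : ∀ g ∈ Gr.Z, k * g * k⁻¹ ∈ Gr.Z) (hg : g ∈ Gr.P) (hg' : g' ∈ Gr.P) (h : tv Gr g = tv Gr g') :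
    tv Gr (k * g * k⁻¹) = tv Gr (k * g' * k⁻¹) := by
  obtain ⟨r, hr, rfl⟩ := (tv_eq_iff hg hg').1 h
  rw [tv_eq_iff (hP _ hg) (hP _ hg')]
  exact ⟨k * r * k⁻¹, hZ r hr, by group⟩

/-! ### `p1` in `P / Z` -/

theorem tv_p1 {q q' : Tp B} (h : q.w = q'.w) : tv Gr (E.p1 q) = tv Gr (E.p1 q') := by
  obtain ⟨k, hk⟩ := eq_ofK h
  rw [tv_eq_iff (Gr.p1_mem _) (Gr.p1_mem _)]
  exact ⟨E.xz k, xz_mem k, by rw [hk, E.p1_mul, E.p1_K]⟩

theorem tv_p1_eq {q q' : Tp B} (h : tv Gr (E.p1 q) = tv Gr (E.p1 q')) : q.w = q'.w := by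
  obtain ⟨r, hr, h1⟩ := (tv_eq_iff (Gr.p1_mem _) (Gr.p1_mem _)).1 h
  exact chi_uniq (r := 1) Gr.Z.one_mem hr (by rw [one_mul]; exact h1)

theorem t_Z {r : G} (hr : r ∈ Gr.Z) : E.t * r * E.t⁻¹ ∈ Gr.Z := AGrown.t_Z (D := ag Gr) hr

theorem t_P' {g : G} (hg : g ∈ Gr.P) : ∃ r ∈ Gr.Z, ∃ q : Tp B, q.w = chi Gr g ∧
    E.t * g * E.t⁻¹ = r * E.p1 q * g := by
  obtain ⟨r, hr, q, hq, h⟩ := chi_spec hg
  have h1 : E.t * g * E.t⁻¹ = (r * E.p1 q)⁻¹ * g := by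
    have h2 : g * E.t = r * E.p1 q * E.t * g := WEnv.conj_eq_iff.1 h
    have h3 : E.t⁻¹ = E.t := WEnv.inv_of_sq E.t_sq
    calc E.t * g * E.t⁻¹ = (r * E.p1 q)⁻¹ * (r * E.p1 q * E.t * g) * E.t⁻¹ := by group
      _ = (r * E.p1 q)⁻¹ * (g * E.t) * E.t⁻¹ := by rw [h2]
      _ = _ := by group
  refine ⟨r⁻¹, Gr.Z.inv_mem hr, q⁻¹, by rw [Tp.inv_w, hq], ?_⟩
  rw [h1, mul_inv_rev, p1_inv, (cZP (Gr.Z.inv_mem hr) (Gr.p1_mem q⁻¹)).eq]

theorem t_P {g : G} (hg : g ∈ Gr.P) : E.t * g * E.t⁻¹ ∈ Gr.P := by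
  obtain ⟨r, hr, q, -, h⟩ := t_P' hg
  rw [h]
  exact Gr.P.mul_mem (Gr.P.mul_mem (Gr.Z_le hr) (Gr.p1_mem q)) hg

theorem tv_t {g : G} (hg : g ∈ Gr.P) : tv Gr (E.t * g * E.t⁻¹) = tv Gr (E.p1 (tp B (chi Gr g))) + tv Gr g := by
  obtain ⟨r, hr, q, hq, h⟩ := t_P' hg
  rw [h, tv_mul (Gr.P.mul_mem (Gr.Z_le hr) (Gr.p1_mem q)) hg, tv_mul (Gr.Z_le hr) (Gr.p1_mem q), tv_Z hr,
    zero_add, tv_p1 (q := q) (q' := tp B (chi Gr g)) hq]

theorem chi_of_tv {g g' : G} (hg : g ∈ Gr.P) (hg' : g' ∈ Gr.P) (h : tv Gr g = tv Gr g') :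
    chi Gr g = chi Gr g' := by
  obtain ⟨r, hr, rfl⟩ := (tv_eq_iff hg hg').1 h
  rw [chi_mul (Gr.Z_le hr) hg', chi_Z hr, zero_add]

end Cfsg.Agent.StdRank2.SC.Five
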