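import Cfsg.Agent.StdRank2.SC.FiveP

/-!
# Structure constants of `U₅(q)`: the group `R`, the commutator maps `al`, `ac`, `ga`, `pi`

`[a, k] = al a k · ac a k` (`a ∈ A`, `k ∈ R`, `al ∈ P`, `ac ∈ C`), `ga g k = [g, k] ∈ C` (`g ∈ P`),
`pi g g' = [g, g'] ∈ Z` (`g, g' ∈ P`).
-/

set_option autoImplicit false
set_option linter.unusedSectionVars false

namespace Cfsg.Agent.StdRank2.SC.Five

open Subgroup Cfsg.Agent.StdRank2.UFour Cfsg.Agent.StdRank2.UFive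
open Cfsg.Agent.StdRank2.SC.Eps (lt tr_lt)

variable {F : Type*} [Field F] [CharP F 2] {B : Bar F} {G : Type*} [Group G]
variable {E : UFive.Env B G} {Gr : UFive.Grown E}

theorem na_inv : E.na⁻¹ = E.na := WEnv.inv_of_sq E.na_sq

theorem na_na (g : G) : E.na * (E.na * g * E.na⁻¹) * E.na⁻¹ = g := by
  calc E.na * (E.na * g * E.na⁻¹) * E.na⁻¹ = (E.na * E.na) * g * (E.na * E.na)⁻¹ := by group
    _ = g := by rw [E.na_sq]; group

theorem na_R {g : G} (hg : g ∈ Gr.R) : E.na * g * E.na⁻¹ ∈ Gr.P := (Gr.mem_R g).1 hg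

theorem na_P {g : G} (hg : g ∈ Gr.P) : E.na * g * E.na⁻¹ ∈ Gr.R := by
  rw [Gr.mem_R, na_na]; exact hg

theorem B_le_R {g : G} (hg : g ∈ Gr.Bb) : g ∈ Gr.R := (Gr.mem_R g).2 (Gr.Z_le (Gr.na_B g hg))

/-- transport of commutation under `na`. -/
theorem na_comm {x y : G} (h : Commute (E.na * x * E.na⁻¹) (E.na * y * E.na⁻¹)) : Commute x y := by
  have h1 := congrArg (fun g => E.na⁻¹ * g * E.na) h.eq
  have h2 : x * y = E.na⁻¹ * (E.na * x * E.na⁻¹ * (E.na * y * E.na⁻¹)) * E.na := by group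
  have h3 : y * x = E.na⁻¹ * (E.na * y * E.na⁻¹ * (E.na * x * E.na⁻¹)) * E.na := by group
  change x * y = y * x
  rw [h2, h3]; exact h1

theorem cCR {c k : G} (hc : c ∈ Gr.C) (hk : k ∈ Gr.R) : Commute c k :=
  na_comm (cCP (Gr.na_C c hc) (na_R hk))

theorem cBR {c k : G} (hc : c ∈ Gr.Bb) (hk : k ∈ Gr.R) : Commute c k :=
  na_comm (cZP (Gr.na_B c hc) (na_R hk))

theorem cZR {c k : G} (hc : c ∈ Gr.Z) (hk : k ∈ Gr.R) : Commute c k :=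
  na_comm (cPB (na_R hk) (Gr.na_Z c hc)).symm

theorem R_sq {k : G} (hk : k ∈ Gr.R) : k * k ∈ Gr.Bb := by
  have h1 := Gr.na_Z _ (Gr.P_sq _ (na_R hk))
  have h2 : E.na * (E.na * k * E.na⁻¹ * (E.na * k * E.na⁻¹)) * E.na⁻¹ =
      (E.na * (E.na * k * E.na⁻¹) * E.na⁻¹) * (E.na * (E.na * k * E.na⁻¹) * E.na⁻¹) := by group
  rw [h2, na_na] at h1
  exact h1

theorem R_comm {k k' : G} (hk : k ∈ Gr.R) (hk' : k' ∈ Gr.R) : ∃ b ∈ Gr.Bb, k * k' * k⁻¹ = b * k' := by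
  obtain ⟨r, hr, h⟩ := Gr.P_comm _ (na_R hk) _ (na_R hk')
  refine ⟨_, Gr.na_Z r hr, ?_⟩
  have h1 := congrArg (fun g => E.na * g * E.na⁻¹) h
  have h2 : E.na * (E.na * k * E.na⁻¹ * (E.na * k' * E.na⁻¹) * (E.na * k * E.na⁻¹)⁻¹) * E.na⁻¹ =
      (E.na * (E.na * k * E.na⁻¹) * E.na⁻¹) * (E.na * (E.na * k' * E.na⁻¹) * E.na⁻¹) *
        (E.na * (E.na * k * E.na⁻¹) * E.na⁻¹)⁻¹ := by group
  have h3 : E.na * (r * (E.na * k' * E.na⁻¹)) * E.na⁻¹ =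
      (E.na * r * E.na⁻¹) * (E.na * (E.na * k' * E.na⁻¹) * E.na⁻¹) := by group
  beta_reduce at h1
  rw [h2, h3, na_na, na_na] at h1
  exact h1

theorem p2_mem (q : Tp B) : E.p2 q ∈ Gr.R := by
  rw [Gr.mem_R, E.na_2]; exact Gr.p1_mem q

theorem T_P {k g : G} (hk : k ∈ E.T) (hg : g ∈ Gr.P) : k * g * k⁻¹ ∈ Gr.P := Gr.P_T k hk g hg

theorem T_R {k g : G} (hk : k ∈ E.T) (hg : g ∈ Gr.R) : k * g * k⁻¹ ∈ Gr.R := by
  rw [Gr.mem_R]
  have h1 := T_P ((E.na_T k).1 hk) (na_R hg)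
  have h2 : E.na * (k * g * k⁻¹) * E.na⁻¹ =
      (E.na * k * E.na⁻¹) * (E.na * g * E.na⁻¹) * (E.na * k * E.na⁻¹)⁻¹ := by group
  rw [h2]; exact h1

theorem t_na_conj (g : G) : E.na * (E.t * g * E.t⁻¹) * E.na⁻¹ = E.t * (E.na * g * E.na⁻¹) * E.t⁻¹ := by
  have h := E.t_na
  calc E.na * (E.t * g * E.t⁻¹) * E.na⁻¹ = (E.na * E.t) * g * (E.na * E.t)⁻¹ := by group
    _ = _ := by rw [← h]; group

theorem t_R {g : G} (hg : g ∈ Gr.R) : E.t * g * E.t⁻¹ ∈ Gr.R := by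
  rw [Gr.mem_R, t_na_conj]; exact t_P (na_R hg)

theorem t_C {g : G} (hg : g ∈ Gr.C) : E.t * g * E.t⁻¹ ∈ Gr.C := AGrown.t_C (D := ag Gr) hg
theorem t_A {g : G} (hg : g ∈ Gr.A) : E.t * g * E.t⁻¹ ∈ Gr.A := AGrown.t_A (D := ag Gr) hg
theorem t_B {g : G} (hg : g ∈ Gr.Bb) : E.t * g * E.t⁻¹ ∈ Gr.Bb := AGrown.t_B (D := ag Gr) hg

/-! ### `P ∩ C = 1` -/

theorem PC_inf {x : G} (hP : x ∈ Gr.P) (hC : x ∈ Gr.C) : x = 1 := by
  obtain ⟨r, hr, q, h⟩ := Gr.P_t x hP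
  obtain ⟨y, hy⟩ := Gr.rootC.conj_t x hC
  have h1 : r * E.p1 q = E.xc y := mul_right_cancel (h.symm.trans hy)
  have key : ∀ (r : G) (_ : r ∈ Gr.Z) (q : Tp B) (y : F), r * E.p1 q = E.xc y → y = 0 := by
    intro r hr q y h1
    have h2 : r = E.xc y * (E.p1 q)⁻¹ := by rw [← h1]; group
    have h3 : r * E.t = E.t * r := by
      rw [h2, p1_inv, mul_assoc, ← (t_p1 _).eq, ← mul_assoc, ← E.t_c, mul_assoc]
    obtain ⟨k, hk⟩ := Gr.rootZ.cent r hr h3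
    have h4 : E.p1 (Tp.ofK k * q) * E.xc y * E.p2 1 * E.xa 0 = 1 := by
      rw [E.p1_mul, E.p1_K, ← hk, h1, E.toWEnv.xc_sq, p2_one, E.toWEnv.xa_zero, one_mul, one_mul]
    exact (E.u_inj _ _ _ _ h4).2.1
  have hy0 := key r hr q y h1
  rw [hy0, E.toWEnv.xc_zero, one_mul] at hy
  obtain ⟨y', hy'⟩ := Gr.rootC.cent x hC (WEnv.conj_eq_iff.1 hy)
  obtain ⟨r', hr', q', h5⟩ := Gr.P_cent x hP 1 Gr.Z.one_mem (by rw [one_mul]; exact hy)
  have h6 := key r' hr' q' y' (by rw [← h5, hy'])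
  rw [hy', h6, E.toWEnv.xc_zero]

theorem PC_uniq {g g' c c' : G} (hg : g ∈ Gr.P) (hg' : g' ∈ Gr.P) (hc : c ∈ Gr.C) (hc' : c' ∈ Gr.C)
    (h : g * c = g' * c') : g = g' ∧ c = c' := by
  have h1 : g'⁻¹ * g = c' * c⁻¹ := by
    calc g'⁻¹ * g = g'⁻¹ * (g * c) * c⁻¹ := by group
      _ = _ := by rw [h]; group
  have h2 : g'⁻¹ * g = 1 := PC_inf (Gr.P.mul_mem (Gr.P.inv_mem hg') hg) (by
    rw [h1]; exact Gr.C.mul_mem hc' (Gr.C.inv_mem hc))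
  have h3 : g = g' := (inv_mul_eq_one.1 h2).symm
  rw [h3] at h
  exact ⟨h3, mul_left_cancel h⟩

/-! ### `al`, `ac` -/

open Classical in
variable (Gr) in
/-- the `P`-component of `[a, k]`. -/
noncomputable def al (a k : G) : G :=
  if h : ∃ g ∈ Gr.P, ∃ c ∈ Gr.C, a * k * a⁻¹ = g * c * k then h.choose else 1

variable (Gr) in
/-- the `C`-component of `[a, k]`. -/
noncomputable def ac (a k : G) : G := (al Gr a k)⁻¹ * (a * k * a⁻¹ * k⁻¹)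

theorem al_eq {a k g c : G} (hg : g ∈ Gr.P) (hc : c ∈ Gr.C) (h : a * k * a⁻¹ = g * c * k) :
    al Gr a k = g := by
  have h0 : ∃ g ∈ Gr.P, ∃ c ∈ Gr.C, a * k * a⁻¹ = g * c * k := ⟨g, hg, c, hc, h⟩
  rw [al, dif_pos h0]
  obtain ⟨h1, c', hc', h2⟩ := h0.choose_spec
  exact (PC_uniq h1 hg hc' hc (mul_right_cancel (h2.symm.trans h))).1

theorem ac_eq {a k g c : G} (hg : g ∈ Gr.P) (hc : c ∈ Gr.C) (h : a * k * a⁻¹ = g * c * k) :
    ac Gr a k = c := by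
  rw [ac, al_eq hg hc h, h]; group

theorem al_spec {a k : G} (ha : a ∈ Gr.A) (hk : k ∈ Gr.R) :
    al Gr a k ∈ Gr.P ∧ ac Gr a k ∈ Gr.C := by
  obtain ⟨g, hg, c, hc, h⟩ := Gr.A_R a ha k hk
  rw [al_eq hg hc h, ac_eq hg hc h]
  exact ⟨hg, hc⟩

theorem al_mem {a k : G} (ha : a ∈ Gr.A) (hk : k ∈ Gr.R) : al Gr a k ∈ Gr.P := (al_spec ha hk).1
theorem ac_mem {a k : G} (ha : a ∈ Gr.A) (hk : k ∈ Gr.R) : ac Gr a k ∈ Gr.C := (al_spec ha hk).2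

theorem conj_al (a k : G) : a * k * a⁻¹ = al Gr a k * ac Gr a k * k := by unfold ac; group

/-- the commutator of `P` and `R`. -/
def ga (g k : G) : G := g * k * g⁻¹ * k⁻¹

theorem ga_spec (g k : G) : g * k * g⁻¹ = ga g k * k := by unfold ga; group

theorem ga_mem {g k : G} (hg : g ∈ Gr.P) (hk : k ∈ Gr.R) : ga g k ∈ Gr.C := by
  obtain ⟨c, hc, h⟩ := Gr.P_R g hg k hk
  rw [ga, h, mul_inv_cancel_right]; exact hc

theorem ga_mul_left {g g' k : G} (hg : g ∈ Gr.P) (hg' : g' ∈ Gr.P) (hk : k ∈ Gr.R) :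
    ga (g * g') k = ga g k * ga g' k := by
  have h1 := ga_mem hg' hk
  have h2 : (g * g') * k * (g * g')⁻¹ = ga g k * ga g' k * k := by
    calc (g * g') * k * (g * g')⁻¹ = g * (g' * k * g'⁻¹) * g⁻¹ := by group
      _ = (g * ga g' k * g⁻¹) * (g * k * g⁻¹) := by rw [ga_spec g' k]; group
      _ = ga g' k * (ga g k * k) := by
          rw [← (cCP h1 hg).eq, mul_inv_cancel_right, ga_spec]
      _ = _ := by rw [← mul_assoc, (cCC h1 (ga_mem hg hk)).eq]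
  rw [ga, h2, mul_inv_cancel_right]

theorem ga_mul_right {g k k' : G} (hg : g ∈ Gr.P) (hk : k ∈ Gr.R) (hk' : k' ∈ Gr.R) :
    ga g (k * k') = ga g k * ga g k' := by
  have h1 := ga_mem hg hk'
  have h2 : g * (k * k') * g⁻¹ = ga g k * ga g k' * (k * k') := by
    calc g * (k * k') * g⁻¹ = (g * k * g⁻¹) * (g * k' * g⁻¹) := by group
      _ = ga g k * (k * ga g k') * k' := by rw [ga_spec g k, ga_spec g k']; group
      _ = _ := by rw [← (cCR h1 hk).eq]; group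
  rw [ga, h2, mul_inv_cancel_right]

theorem ga_of_comm {g k : G} (h : Commute g k) : ga g k = 1 := by
  rw [ga, h.eq]; group

theorem comm_of_ga {g k : G} (h : ga g k = 1) : Commute g k := by
  have := ga_spec g k
  rw [h, one_mul] at this
  exact WEnv.conj_eq_iff.1 this

theorem ga_conj (n g k : G) : ga (n * g * n⁻¹) (n * k * n⁻¹) = n * ga g k * n⁻¹ := by unfold ga; group

/-- `k g k⁻¹ = ga g k · g`. -/
theorem R_conj_P {g k : G} (hg : g ∈ Gr.P) (hk : k ∈ Gr.R) : k * g * k⁻¹ = ga g k * g := by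
  have h1 := ga_mem hg hk
  have h2 : k * g * k⁻¹ = (ga g k)⁻¹ * g := by unfold ga; group
  rw [h2, WEnv.inv_of_sq (Gr.rootC.sq _ h1)]

theorem al_mul_left {a a' k : G} (ha : a ∈ Gr.A) (ha' : a' ∈ Gr.A) (hk : k ∈ Gr.R) :
    al Gr (a * a') k = AGrown.ph a (ac Gr a' k) * (al Gr a' k * al Gr a k) ∧
      ac Gr (a * a') k = ac Gr a k * ac Gr a' k := by
  obtain ⟨h1, h2⟩ := al_spec ha hk
  obtain ⟨h1', h2'⟩ := al_spec ha' hk
  have hp : AGrown.ph a (ac Gr a' k) ∈ Gr.Z := AGrown.ph_mem (D := ag Gr) ha h2'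
  have h : (a * a') * k * (a * a')⁻¹ =
      (AGrown.ph a (ac Gr a' k) * (al Gr a' k * al Gr a k)) * (ac Gr a k * ac Gr a' k) * k := by
    calc (a * a') * k * (a * a')⁻¹ = a * (a' * k * a'⁻¹) * a⁻¹ := by group
      _ = (a * al Gr a' k * a⁻¹) * (a * ac Gr a' k * a⁻¹) * (a * k * a⁻¹) := by
          rw [conj_al (Gr := Gr) a' k]; group
      _ = al Gr a' k * (AGrown.ph a (ac Gr a' k) * ac Gr a' k) * (al Gr a k * ac Gr a k * k) := by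
          rw [(cAP ha h1').eq, mul_inv_cancel_right, AGrown.ph_spec, conj_al (Gr := Gr) a k]
      _ = (al Gr a' k * AGrown.ph a (ac Gr a' k)) * (ac Gr a' k * al Gr a k) * ac Gr a k * k := by group
      _ = (AGrown.ph a (ac Gr a' k) * al Gr a' k) * (al Gr a k * ac Gr a' k) * ac Gr a k * k := by
          rw [← (cZP hp h1').eq, (cCP h2' h1).eq]
      _ = _ := by
          rw [(cCC h2 h2').eq]; group
  have hm := Gr.P.mul_mem (Gr.Z_le hp) (Gr.P.mul_mem h1' h1)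
  exact ⟨al_eq hm (Gr.C.mul_mem h2 h2') h, ac_eq hm (Gr.C.mul_mem h2 h2') h⟩

theorem al_mul_right {a k k' : G} (ha : a ∈ Gr.A) (hk : k ∈ Gr.R) (hk' : k' ∈ Gr.R) :
    al Gr a (k * k') = al Gr a k * al Gr a k' ∧
      ac Gr a (k * k') = ac Gr a k * ac Gr a k' * ga (al Gr a k') k := by
  obtain ⟨h1, h2⟩ := al_spec ha hk
  obtain ⟨h1', h2'⟩ := al_spec ha hk'
  have hg := ga_mem h1' hk
  have h : a * (k * k') * a⁻¹ =
      (al Gr a k * al Gr a k') * (ac Gr a k * ac Gr a k' * ga (al Gr a k') k) * (k * k') := by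
    calc a * (k * k') * a⁻¹ = (a * k * a⁻¹) * (a * k' * a⁻¹) := by group
      _ = al Gr a k * ac Gr a k * (k * al Gr a k' * k⁻¹) * (k * ac Gr a k') * k' := by
          rw [conj_al (Gr := Gr) a k, conj_al (Gr := Gr) a k']; group
      _ = al Gr a k * ac Gr a k * (ga (al Gr a k') k * al Gr a k') * (ac Gr a k' * k) * k' := by
          rw [R_conj_P h1' hk, (cCR h2' hk).eq]
      _ = al Gr a k * (ac Gr a k * ga (al Gr a k') k * al Gr a k') * ac Gr a k' * (k * k') := by group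
      _ = al Gr a k * (al Gr a k' * (ac Gr a k * ga (al Gr a k') k)) * ac Gr a k' * (k * k') := by
          rw [(cCP (Gr.C.mul_mem h2 hg) h1').eq]
      _ = _ := by
          rw [mul_assoc (ac Gr a k) (ac Gr a k'), (cCC h2' hg).eq]; group
  have hm := Gr.P.mul_mem h1 h1'
  have hc := Gr.C.mul_mem (Gr.C.mul_mem h2 h2') hg
  exact ⟨al_eq hm hc h, ac_eq hm hc h⟩

theorem al_conj {n a k : G} (ha : a ∈ Gr.A) (hk : k ∈ Gr.R) (hP : ∀ g ∈ Gr.P, n * g * n⁻¹ ∈ Gr.P)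
    (hC : ∀ g ∈ Gr.C, n * g * n⁻¹ ∈ Gr.C) :
    al Gr (n * a * n⁻¹) (n * k * n⁻¹) = n * al Gr a k * n⁻¹ ∧
      ac Gr (n * a * n⁻¹) (n * k * n⁻¹) = n * ac Gr a k * n⁻¹ := by
  obtain ⟨h1, h2⟩ := al_spec ha hk
  have h : n * a * n⁻¹ * (n * k * n⁻¹) * (n * a * n⁻¹)⁻¹ =
      (n * al Gr a k * n⁻¹) * (n * ac Gr a k * n⁻¹) * (n * k * n⁻¹) := by
    calc n * a * n⁻¹ * (n * k * n⁻¹) * (n * a * n⁻¹)⁻¹ = n * (a * k * a⁻¹) * n⁻¹ := by group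
      _ = _ := by rw [conj_al (Gr := Gr) a k]; group
  exact ⟨al_eq (hP _ h1) (hC _ h2) h, ac_eq (hP _ h1) (hC _ h2) h⟩

theorem al_T {n a k : G} (hn : n ∈ E.T) (ha : a ∈ Gr.A) (hk : k ∈ Gr.R) :
    al Gr (n * a * n⁻¹) (n * k * n⁻¹) = n * al Gr a k * n⁻¹ ∧
      ac Gr (n * a * n⁻¹) (n * k * n⁻¹) = n * ac Gr a k * n⁻¹ :=
  al_conj ha hk (Gr.P_T n hn) (Gr.rootC.conj_T n hn)

theorem al_t {a k : G} (ha : a ∈ Gr.A) (hk : k ∈ Gr.R) :
    al Gr (E.t * a * E.t⁻¹) (E.t * k * E.t⁻¹) = E.t * al Gr a k * E.t⁻¹ ∧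
      ac Gr (E.t * a * E.t⁻¹) (E.t * k * E.t⁻¹) = E.t * ac Gr a k * E.t⁻¹ :=
  al_conj ha hk (fun _ => t_P) (fun _ => t_C)

/-- on `B`. -/
theorem al_B {a b : G} (ha : a ∈ Gr.A) (hb : b ∈ Gr.Bb) :
    al Gr a b = (ag Gr).tz a b ∧ ac Gr a b = (ag Gr).th a b := by
  have h := AGrown.tz_spec (D := ag Gr) a b
  have h1 : (ag Gr).tz a b ∈ Gr.Z := AGrown.tz_mem (D := ag Gr) ha hb
  have h2 : (ag Gr).th a b ∈ Gr.C := AGrown.th_mem (D := ag Gr) ha hb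
  exact ⟨al_eq (Gr.Z_le h1) h2 h, ac_eq (Gr.Z_le h1) h2 h⟩

theorem al_xa (s : F) (q : Tp B) : al Gr (E.xa s) (E.p2 q) = E.p1 (Tp.sm (B.s s) q) ∧
    ac Gr (E.xa s) (E.p2 q) = E.xc (s * B.s q.c) :=
  ⟨al_eq (Gr.p1_mem _) (xc_mem _) (E.a_2 s q), ac_eq (Gr.p1_mem _) (xc_mem _) (E.a_2 s q)⟩

/-! ### The commutator `pi` of `P` -/

/-- the commutator of `P`. -/
def pi (g g' : G) : G := g * g' * g⁻¹ * g'⁻¹

theorem pi_spec (g g' : G) : g * g' * g⁻¹ = pi g g' * g' := by unfold pi; group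

theorem pi_mem {g g' : G} (hg : g ∈ Gr.P) (hg' : g' ∈ Gr.P) : pi g g' ∈ Gr.Z := by
  obtain ⟨r, hr, h⟩ := Gr.P_comm g hg g' hg'
  rw [pi, h, mul_inv_cancel_right]; exact hr

theorem pi_mul_left {g g' k : G} (hg : g ∈ Gr.P) (hg' : g' ∈ Gr.P) (hk : k ∈ Gr.P) :
    pi (g * g') k = pi g k * pi g' k := by
  have h1 := pi_mem hg' hk
  have h2 : (g * g') * k * (g * g')⁻¹ = pi g k * pi g' k * k := by
    calc (g * g') * k * (g * g')⁻¹ = g * (g' * k * g'⁻¹) * g⁻¹ := by group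
      _ = (g * pi g' k * g⁻¹) * (g * k * g⁻¹) := by rw [pi_spec g' k]; group
      _ = pi g' k * (pi g k * k) := by
          rw [← (cZP h1 hg).eq, mul_inv_cancel_right, pi_spec]
      _ = _ := by rw [← mul_assoc, (cZZ h1 (pi_mem hg hk)).eq]
  rw [pi, h2, mul_inv_cancel_right]

theorem pi_swap {g g' : G} (hg : g ∈ Gr.P) (hg' : g' ∈ Gr.P) : pi g' g = pi g g' := by
  have h1 : pi g' g = (pi g g')⁻¹ := by unfold pi; group
  rw [h1, WEnv.inv_of_sq (Gr.rootZ.sq _ (pi_mem hg hg'))]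

theorem pi_mul_right {g g' k : G} (hg : g ∈ Gr.P) (hg' : g' ∈ Gr.P) (hk : k ∈ Gr.P) :
    pi k (g * g') = pi k g * pi k g' := by
  rw [pi_swap (Gr.P.mul_mem hg hg') hk, pi_mul_left hg hg' hk, pi_swap hk hg, pi_swap hk hg']

theorem pi_conj (n g k : G) : pi (n * g * n⁻¹) (n * k * n⁻¹) = n * pi g k * n⁻¹ := by unfold pi; group

theorem pi_Z {g r : G} (hg : g ∈ Gr.P) (hr : r ∈ Gr.Z) : pi r g = 1 := by
  rw [pi, (cZP hr hg).eq]; group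

theorem pi_congr {g g' k : G} (hg : g ∈ Gr.P) (hg' : g' ∈ Gr.P) (hk : k ∈ Gr.P)
    (h : tv Gr g = tv Gr g') : pi g k = pi g' k := by
  obtain ⟨r, hr, rfl⟩ := (tv_eq_iff hg hg').1 h
  rw [pi_mul_left (Gr.Z_le hr) hg' hk, pi_Z hk hr, one_mul]

theorem pi_congr_right {g g' k : G} (hg : g ∈ Gr.P) (hg' : g' ∈ Gr.P) (hk : k ∈ Gr.P)
    (h : tv Gr g = tv Gr g') : pi k g = pi k g' := by
  rw [pi_swap hg hk, pi_congr hg hg' hk h, pi_swap hk hg']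

theorem ga_Z {k r : G} (hk : k ∈ Gr.R) (hr : r ∈ Gr.Z) : ga r k = 1 := ga_of_comm (cZR hr hk)

theorem ga_B {g b : G} (hg : g ∈ Gr.P) (hb : b ∈ Gr.Bb) : ga g b = 1 := ga_of_comm (cPB hg hb)

theorem ga_congr {g g' k : G} (hg : g ∈ Gr.P) (hg' : g' ∈ Gr.P) (hk : k ∈ Gr.R)
    (h : tv Gr g = tv Gr g') : ga g k = ga g' k := by
  obtain ⟨r, hr, rfl⟩ := (tv_eq_iff hg hg').1 h
  rw [ga_mul_left (Gr.Z_le hr) hg' hk, ga_Z hk hr, one_mul]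

/-! ### `R / B` -/

variable (Gr) in
/-- the image of `k ∈ R` in `R / B`, transported to `P / Z`. -/
noncomputable def tr' (k : G) : V Gr := tv Gr (E.na * k * E.na⁻¹)

theorem tr'_mul {k k' : G} (hk : k ∈ Gr.R) (hk' : k' ∈ Gr.R) : tr' Gr (k * k') = tr' Gr k + tr' Gr k' := by
  unfold tr'
  rw [← tv_mul (na_R hk) (na_R hk')]
  congr 1; group

theorem tr'_eq_iff {k k' : G} (hk : k ∈ Gr.R) (hk' : k' ∈ Gr.R) :
    tr' Gr k = tr' Gr k' ↔ ∃ b ∈ Gr.Bb, k = b * k' := by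
  unfold tr'
  rw [tv_eq_iff (na_R hk) (na_R hk')]
  constructor
  · rintro ⟨r, hr, h⟩
    refine ⟨_, Gr.na_Z r hr, ?_⟩
    have h1 := congrArg (fun g => E.na * g * E.na⁻¹) h
    have h3 : E.na * (r * (E.na * k' * E.na⁻¹)) * E.na⁻¹ =
      (E.na * r * E.na⁻¹) * (E.na * (E.na * k' * E.na⁻¹) * E.na⁻¹) := by group
    beta_reduce at h1
    rw [h3, na_na, na_na] at h1
    exact h1
  · rintro ⟨b, hb, rfl⟩
    exact ⟨_, Gr.na_B b hb, by group⟩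

theorem tv_al_congr {a k k' : G} (ha : a ∈ Gr.A) (hk : k ∈ Gr.R) (hk' : k' ∈ Gr.R)
    (h : tr' Gr k = tr' Gr k') : tv Gr (al Gr a k) = tv Gr (al Gr a k') := by
  obtain ⟨b, hb, rfl⟩ := (tr'_eq_iff hk hk').1 h
  have h1 : (ag Gr).tz a b ∈ Gr.Z := AGrown.tz_mem (D := ag Gr) ha hb
  rw [(al_mul_right ha (B_le_R hb) hk').1, (al_B ha hb).1, tv_mul (Gr.Z_le h1) (al_mem ha hk'),
    tv_Z h1, zero_add]

theorem ga_congr' {g k k' : G} (hg : g ∈ Gr.P) (hk : k ∈ Gr.R) (hk' : k' ∈ Gr.R)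
    (h : tr' Gr k = tr' Gr k') : ga g k = ga g k' := by
  obtain ⟨b, hb, rfl⟩ := (tr'_eq_iff hk hk').1 h
  rw [ga_mul_right hg (B_le_R hb) hk', ga_B hg hb, one_mul]

/-- **(r3)** -/
theorem rule3 {a g k : G} (ha : a ∈ Gr.A) (hg : g ∈ Gr.P) (hk : k ∈ Gr.R) :
    pi g (al Gr a k) = AGrown.ph a (ga g k) := by
  obtain ⟨h1, h2⟩ := al_spec ha hk
  have h3 := ga_mem hg hk
  have h4 : a * (g * k * g⁻¹) * a⁻¹ = pi g (al Gr a k) * ga g k * (al Gr a k * ac Gr a k * k) := by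
    calc a * (g * k * g⁻¹) * a⁻¹ = (a * g * a⁻¹) * (a * k * a⁻¹) * (a * g * a⁻¹)⁻¹ := by group
      _ = g * (al Gr a k * ac Gr a k * k) * g⁻¹ := by
          rw [(cAP ha hg).eq, mul_inv_cancel_right, conj_al (Gr := Gr) a k]
      _ = (g * al Gr a k * g⁻¹) * (g * ac Gr a k * g⁻¹) * (g * k * g⁻¹) := by group
      _ = pi g (al Gr a k) * al Gr a k * (ac Gr a k * (ga g k * k)) := by
          rw [pi_spec, ← (cCP h2 hg).eq, mul_inv_cancel_right, ga_spec]; group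
      _ = pi g (al Gr a k) * (al Gr a k * (ac Gr a k * ga g k)) * k := by group
      _ = pi g (al Gr a k) * (al Gr a k * (ga g k * ac Gr a k)) * k := by rw [(cCC h2 h3).eq]
      _ = pi g (al Gr a k) * ((al Gr a k * ga g k) * ac Gr a k) * k := by group
      _ = _ := by rw [← (cCP h3 h1).eq]; group
  have h5 : a * (g * k * g⁻¹) * a⁻¹ =
      AGrown.ph a (ga g k) * ga g k * (al Gr a k * ac Gr a k * k) := by
    calc a * (g * k * g⁻¹) * a⁻¹ = (a * ga g k * a⁻¹) * (a * k * a⁻¹) := by rw [ga_spec g k]; group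
      _ = _ := by rw [AGrown.ph_spec, conj_al (Gr := Gr) a k]
  exact mul_right_cancel (mul_right_cancel (h4.symm.trans h5))

/-- **(r2)** -/
theorem rule2 {a k : G} (ha : a ∈ Gr.A) (hk : k ∈ Gr.R) :
    ga (al Gr a k) k = (ag Gr).th a (k * k) := by
  obtain ⟨-, h1⟩ := al_mul_right ha hk hk
  rw [(al_B ha (R_sq hk)).2, Gr.rootC.sq _ (ac_mem ha hk), one_mul] at h1
  exact h1.symm

end Cfsg.Agent.StdRank2.SC.Five
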