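import Cfsg.Agent.StdRank2.UFive.Class
import Cfsg.Agent.StdRank2.SC.FiveP

/-!
# The split case of `U₅(q)`: the two components

`SplitG Gr`: subgroups `AA i ≤ A`, `PP i ≤ P` (`i : Bool`) swapped by `t`, with `C_i = nb A_i nb`, `R_i = na P_i na`.
`S_i = A_i R_i P_i C_i`; `S_false × S_true = S0`; `LL i` = the group generated by the eight root groups of index `i`.
-/

set_option autoImplicit false
set_option linter.unusedSectionVars false
set_option linter.unusedVariables false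

namespace Cfsg.Agent.StdRank2.SC.Five

open Subgroup Cfsg.Agent.StdRank2.UFour Cfsg.Agent.StdRank2.UFive Cfsg.Agent.StdRank2.UFour.SeedPre
open scoped commutatorElement

variable {F : Type*} [Field F] [CharP F 2] {B : Bar F} {G : Type*} [Group G]
variable {E : UFive.Env B G}

/-- Output of the structure constants in the split case (`C_i = nb A_i nb`, `R_i = na P_i na`). -/
structure SplitG (Gr : UFive.Grown E) where
  AA : Bool → Subgroup G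
  PP : Bool → Subgroup G
  A_le : ∀ i, AA i ≤ Gr.A
  P_le : ∀ i, PP i ≤ Gr.P
  t_A : ∀ i, ∀ g ∈ AA i, E.t * g * E.t⁻¹ ∈ AA (!i)
  t_P : ∀ i, ∀ g ∈ PP i, E.t * g * E.t⁻¹ ∈ PP (!i)
  A_sup : ∀ g ∈ Gr.A, ∃ x ∈ AA false, ∃ y ∈ AA true, g = x * y
  P_sup : ∀ g ∈ Gr.P, ∃ x ∈ PP false, ∃ y ∈ PP true, g = x * y
  A_inf : ∀ g ∈ AA false, g ∈ AA true → g = 1
  P_inf : ∀ g ∈ PP false, g ∈ PP true → g = 1
  T_A : ∀ i, ∀ k ∈ E.T, ∀ g ∈ AA i, k * g * k⁻¹ ∈ AA i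
  T_P : ∀ i, ∀ k ∈ E.T, ∀ g ∈ PP i, k * g * k⁻¹ ∈ PP i
  nb_P : ∀ g ∈ Gr.P, E.nb * g * E.nb⁻¹ = g
  na_C : ∀ i, ∀ a ∈ AA i, E.na * (E.nb * a * E.nb⁻¹) * E.na⁻¹ ∈ (AA i).map (MulAut.conj E.nb).toMonoidHom
  -- inside of the component
  A_C : ∀ i, ∀ a ∈ AA i, ∀ c, E.nb * c * E.nb⁻¹ ∈ AA i → ∃ p ∈ PP i, a * c * a⁻¹ = p * c
  A_R : ∀ i, ∀ a ∈ AA i, ∀ g, E.na * g * E.na⁻¹ ∈ PP i →
    ∃ p ∈ PP i, ∃ c, E.nb * c * E.nb⁻¹ ∈ AA i ∧ a * g * a⁻¹ = p * c * g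
  P_R : ∀ i, ∀ p ∈ PP i, ∀ g, E.na * g * E.na⁻¹ ∈ PP i → ∃ c, E.nb * c * E.nb⁻¹ ∈ AA i ∧ p * g * p⁻¹ = c * g
  -- cross terms
  cA_C : ∀ i, ∀ a ∈ AA i, ∀ c, E.nb * c * E.nb⁻¹ ∈ AA (!i) → c * a = a * c
  cA_R : ∀ i, ∀ a ∈ AA i, ∀ g, E.na * g * E.na⁻¹ ∈ PP (!i) → g * a = a * g
  cP_P : ∀ i, ∀ p ∈ PP i, ∀ g ∈ PP (!i), g * p = p * g
  cP_R : ∀ i, ∀ p ∈ PP i, ∀ g, E.na * g * E.na⁻¹ ∈ PP (!i) → g * p = p * g
  -- generation
  C_gen : ∀ i, ∀ c, E.nb * c * E.nb⁻¹ ∈ AA i → ∃ a ∈ AA i, ∃ g, E.na * g * E.na⁻¹ ∈ PP i ∧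
    ∃ a' ∈ AA i, ∃ c', E.nb * c' * E.nb⁻¹ ∈ AA i ∧ c = ⁅a, g⁆ * ⁅a', c'⁆
  P_gen : ∀ i, ∀ p ∈ PP i, ∃ a ∈ AA i, ∃ g, E.na * g * E.na⁻¹ ∈ PP i ∧ ∃ c, E.nb * c * E.nb⁻¹ ∈ AA i ∧
    ∃ a' ∈ AA i, ∃ c', E.nb * c' * E.nb⁻¹ ∈ AA i ∧ p = ⁅a, g⁆ * c * ⁅a', c'⁆

/-! ### Conjugates of subgroups -/

section gen

/-- the preimage of `H` under conjugation by `n`. -/
def kj (n : G) (H : Subgroup G) : Subgroup G := H.map (MulAut.conj n⁻¹).toMonoidHom

theorem mem_kj {n g : G} {H : Subgroup G} : g ∈ kj n H ↔ n * g * n⁻¹ ∈ H := by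
  constructor
  · rintro ⟨h, hh, rfl⟩
    change n * (n⁻¹ * h * n⁻¹⁻¹) * n⁻¹ ∈ H
    rw [show n * (n⁻¹ * h * n⁻¹⁻¹) * n⁻¹ = h by group]
    exact hh
  · intro h
    refine ⟨n * g * n⁻¹, h, ?_⟩
    change n⁻¹ * (n * g * n⁻¹) * n⁻¹⁻¹ = g
    group

theorem kj_kj (m n : G) (H : Subgroup G) : kj m (kj n H) = kj (n * m) H := by
  ext g
  rw [mem_kj, mem_kj, mem_kj]
  rw [show n * (m * g * m⁻¹) * n⁻¹ = n * m * g * (n * m)⁻¹ by group]

theorem kj_one (H : Subgroup G) : kj 1 H = H := by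
  ext g
  rw [mem_kj, one_mul, inv_one, mul_one]

theorem kj_sup (n : G) (H K : Subgroup G) : kj n (H ⊔ K) = kj n H ⊔ kj n K := Subgroup.map_sup H K _

theorem kj_mono (n : G) {H K : Subgroup G} (h : H ≤ K) : kj n H ≤ kj n K := Subgroup.map_mono h

theorem kj_comm (n : G) (H K : Subgroup G) : kj n ⁅H, K⁆ = ⁅kj n H, kj n K⁆ := Subgroup.map_commutator H K _

/-- elementwise commuting subgroups. -/
def Cm (H K : Subgroup G) : Prop := H ≤ centralizer (K : Set G)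

theorem cm_iff {H K : Subgroup G} : Cm H K ↔ ∀ x ∈ H, ∀ y ∈ K, y * x = x * y :=
  ⟨fun h x hx y hy => mem_centralizer_iff.1 (h hx) y hy, fun h x hx => mem_centralizer_iff.2 fun y hy => h x hx y hy⟩

theorem Cm.symm {H K : Subgroup G} (h : Cm H K) : Cm K H := le_centralizer_iff.1 h

theorem Cm.kj {H K : Subgroup G} (h : Cm H K) (n : G) : Cm (kj n H) (kj n K) := by
  rw [cm_iff] at h ⊢
  intro x hx y hy
  have h1 := h _ (mem_kj.1 hx) _ (mem_kj.1 hy)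
  have h2 : n * (y * x) * n⁻¹ = n * (x * y) * n⁻¹ := by
    calc n * (y * x) * n⁻¹ = (n * y * n⁻¹) * (n * x * n⁻¹) := by group
      _ = _ := h1
      _ = _ := by group
  exact mul_left_cancel (mul_right_cancel h2)

theorem Cm.of_kj {H K : Subgroup G} {n : G} (h : Cm (Five.kj n H) (Five.kj n K)) : Cm H K := by
  have := h.kj n⁻¹
  rwa [kj_kj, kj_kj, mul_inv_cancel, kj_one, kj_one] at this

theorem Cm.sup {H H' K : Subgroup G} (h : Cm H K) (h' : Cm H' K) : Cm (H ⊔ H') K := sup_le h h'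
theorem Cm.sup' {H K K' : Subgroup G} (h : Cm H K) (h' : Cm H K') : Cm H (K ⊔ K') := (h.symm.sup h'.symm).symm

theorem Cm.mono {H H' K : Subgroup G} (h : Cm H K) (h' : H' ≤ H) : Cm H' K := le_trans h' h

/-- the product of two subgroups. -/
def mulS (H K : Subgroup G) (hn : ∀ h ∈ H, ∀ k ∈ K, h * k * h⁻¹ ∈ K) : Subgroup G where
  carrier := {x | ∃ h ∈ H, ∃ k ∈ K, x = h * k}
  mul_mem' := by
    rintro _ _ ⟨h, hh, k, hk, rfl⟩ ⟨h', hh', k', hk', rfl⟩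
    refine ⟨h * h', mul_mem hh hh', (h'⁻¹ * k * h'⁻¹⁻¹) * k', mul_mem (hn _ (inv_mem hh') _ hk) hk', by group⟩
  one_mem' := ⟨1, one_mem _, 1, one_mem _, by group⟩
  inv_mem' := by
    rintro _ ⟨h, hh, k, hk, rfl⟩
    exact ⟨h⁻¹, inv_mem hh, h * k⁻¹ * h⁻¹, hn _ hh _ (inv_mem hk), by group⟩

theorem mulS_eq_sup (H K : Subgroup G) (hn : ∀ h ∈ H, ∀ k ∈ K, h * k * h⁻¹ ∈ K) : mulS H K hn = H ⊔ K := by
  apply le_antisymm
  · rintro _ ⟨h, hh, k, hk, rfl⟩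
    exact mul_mem (mem_sup_left hh) (mem_sup_right hk)
  · exact sup_le (fun h hh => ⟨h, hh, 1, one_mem _, by group⟩) (fun k hk => ⟨1, one_mem _, k, hk, by group⟩)

end gen

namespace SplitG

variable {Gr : UFive.Grown E} (D : SplitG Gr)

/-- the eight root groups. -/
def X (i : Bool) : Fin 8 → Subgroup G
  | 0 => kj (E.na * E.nb) (D.PP i)
  | 1 => D.AA i
  | 2 => D.PP i
  | 3 => kj E.nb (D.AA i)
  | 4 => kj E.na (D.PP i)
  | 5 => kj E.na (D.AA i)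
  | 6 => kj (E.na * E.nb * E.na) (D.PP i)
  | 7 => kj (E.na * E.nb) (D.AA i)

theorem na_inv : E.na⁻¹ = E.na := WEnv.inv_of_sq E.na_sq
theorem nb_inv : E.nb⁻¹ = E.nb := WEnv.inv_of_sq E.nb_sq

theorem kj_na_na (H : Subgroup G) : kj E.na (kj E.na H) = H := by rw [kj_kj, E.na_sq, kj_one]
theorem kj_nb_nb (H : Subgroup G) : kj E.nb (kj E.nb H) = H := by rw [kj_kj, E.nb_sq, kj_one]

include D in
theorem nb_PP (i : Bool) : kj E.nb (D.PP i) = D.PP i := by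
  apply le_antisymm
  · rintro _ ⟨h, hh, rfl⟩
    change E.nb⁻¹ * h * E.nb⁻¹⁻¹ ∈ D.PP i
    rw [nb_inv, D.nb_P h (D.P_le i hh)]
    exact hh
  · intro h hh
    rw [mem_kj, D.nb_P h (D.P_le i hh)]
    exact hh

theorem na_X3 (i : Bool) : kj E.na (kj E.nb (D.AA i)) = kj E.nb (D.AA i) := by
  have h : kj E.nb (D.AA i) ≤ kj E.na (kj E.nb (D.AA i)) := by
    intro c hc
    rw [mem_kj] at hc
    have h1 := D.na_C i _ hc
    have h2 : E.nb * (E.nb * c * E.nb⁻¹) * E.nb⁻¹ = c := by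
      calc E.nb * (E.nb * c * E.nb⁻¹) * E.nb⁻¹ = (E.nb * E.nb) * c * (E.nb * E.nb)⁻¹ := by group
        _ = c := by rw [E.nb_sq]; group
    rw [h2] at h1
    rw [mem_kj]
    rw [kj, nb_inv]
    exact h1
  apply le_antisymm _ h
  have := kj_mono E.na h
  rwa [kj_na_na] at this

theorem nb_X6 (i : Bool) : kj E.nb (D.X i 6) = D.X i 6 := by
  change kj E.nb (kj (E.na * E.nb * E.na) (D.PP i)) = kj (E.na * E.nb * E.na) (D.PP i)
  rw [kj_kj, E.braid, show E.nb * E.na * E.nb * E.na = E.nb * (E.na * E.nb * E.na) by group, ← kj_kj, D.nb_PP]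

theorem na_X7 (i : Bool) : kj E.na (D.X i 7) = D.X i 7 := by
  change kj E.na (kj (E.na * E.nb) (D.AA i)) = kj (E.na * E.nb) (D.AA i)
  have h1 : E.na * E.nb * E.na = (E.nb * E.na) * (E.nb * E.na * E.nb) := by
    have h2 : E.na * E.nb * E.na * E.nb * E.nb = E.nb * E.na * E.nb * E.na * E.nb := by rw [E.braid]
    calc E.na * E.nb * E.na = E.na * E.nb * E.na * (E.nb * E.nb) := by rw [E.nb_sq, mul_one]
      _ = E.na * E.nb * E.na * E.nb * E.nb := by group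
      _ = _ := by rw [h2]; group
  rw [kj_kj, h1, ← kj_kj, ← kj_kj E.na E.nb, D.na_X3, kj_kj,
    show E.nb * (E.nb * E.na * E.nb) = (E.nb * E.nb) * (E.na * E.nb) by group, E.nb_sq, one_mul]

/-- action of `na` -/
theorem na_X (i : Bool) (k : Fin 8) : kj E.na (D.X i k) = D.X i (6 - k) := by
  match k with
  | 0 => exact kj_kj _ _ _
  | 1 => rfl
  | 2 => rfl
  | 3 => exact D.na_X3 i
  | 4 => exact kj_na_na _
  | 5 => exact kj_na_na _
  | 6 =>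
    change kj E.na (kj (E.na * E.nb * E.na) (D.PP i)) = kj (E.na * E.nb) (D.PP i)
    rw [kj_kj, mul_assoc (E.na * E.nb), E.na_sq, mul_one]
  | 7 => exact D.na_X7 i

/-- action of `nb` -/
theorem nb_X (i : Bool) (k : Fin 8) : kj E.nb (D.X i k) = D.X i (4 - k) := by
  match k with
  | 0 =>
    change kj E.nb (kj (E.na * E.nb) (D.PP i)) = kj E.na (D.PP i)
    rw [kj_kj, mul_assoc, E.nb_sq, mul_one]
  | 1 => rfl
  | 2 => exact D.nb_PP i
  | 3 => exact kj_nb_nb _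
  | 4 => exact kj_kj _ _ _
  | 5 => exact kj_kj _ _ _
  | 6 => exact D.nb_X6 i
  | 7 =>
    change kj E.nb (kj (E.na * E.nb) (D.AA i)) = kj E.na (D.AA i)
    rw [kj_kj, mul_assoc, E.nb_sq, mul_one]

/-- the `k`-th and `l`-th root groups of different components commute. -/
def Q (k l : Fin 8) : Prop := ∀ i, Cm (D.X i k) (D.X (!i) l)

variable {D}

theorem Q.swap {k l : Fin 8} (h : D.Q k l) : D.Q l k := by
  intro i
  have := (h (!i)).symm
  rwa [Bool.not_not] at this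

theorem Q.na {k l : Fin 8} (h : D.Q k l) : D.Q (6 - k) (6 - l) := by
  intro i
  rw [← D.na_X, ← D.na_X]
  exact (h i).kj _

theorem Q.nb {k l : Fin 8} (h : D.Q k l) : D.Q (4 - k) (4 - l) := by
  intro i
  rw [← D.nb_X, ← D.nb_X]
  exact (h i).kj _

theorem Q.tr {k l : Fin 8} (h : D.Q k l) : D.Q (k + 2) (l + 2) := by
  have := h.nb.na
  have e : ∀ k : Fin 8, 6 - (4 - k) = k + 2 := by decide
  rwa [e, e] at this

theorem Q.tr' {k l : Fin 8} (h : D.Q k l) (n : ℕ) : ∀ m : Fin 8, (m : ℕ) = n → D.Q (k + 2 * m) (l + 2 * m) := by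
  induction n with
  | zero =>
    intro m hm
    have : m = 0 := Fin.ext hm
    rw [this, mul_zero, add_zero, add_zero]
    exact h
  | succ n ih =>
    intro m hm
    have h1 : n < 8 := by have := m.2; omega
    have h2 := (ih ⟨n, h1⟩ rfl).tr
    have e : ∀ k m m' : Fin 8, (m : ℕ) = m' + 1 → k + 2 * m' + 2 = k + 2 * m := by decide
    rw [e k m ⟨n, h1⟩ hm, e l m ⟨n, h1⟩ hm] at h2
    exact h2

variable (D)

theorem q11 : D.Q 1 1 := fun i => cm_iff.2 fun x hx y hy =>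
  (cAA (Gr := Gr) (D.A_le _ hx) (D.A_le _ hy)).symm.eq
theorem q12 : D.Q 1 2 := fun i => cm_iff.2 fun x hx y hy => (cAP (Gr := Gr) (D.A_le _ hx) (D.P_le _ hy)).symm.eq
theorem q13 : D.Q 1 3 := fun i => cm_iff.2 fun x hx y hy => D.cA_C i x hx y (mem_kj.1 hy)
theorem q14 : D.Q 1 4 := fun i => cm_iff.2 fun x hx y hy => D.cA_R i x hx y (mem_kj.1 hy)
theorem q22 : D.Q 2 2 := fun i => cm_iff.2 fun x hx y hy => D.cP_P i x hx y hy
theorem q24 : D.Q 2 4 := fun i => cm_iff.2 fun x hx y hy => D.cP_R i x hx y (mem_kj.1 hy)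

theorem C_le (i : Bool) : kj E.nb (D.AA i) ≤ Gr.C := fun c hc => (Gr.mem_C c).2 (D.A_le i (mem_kj.1 hc))
theorem R_le (i : Bool) : kj E.na (D.PP i) ≤ Gr.R := fun c hc => (Gr.mem_R c).2 (D.P_le i (mem_kj.1 hc))

theorem q23 : D.Q 2 3 := fun i => cm_iff.2 fun x hx y hy => (cCP (Gr := Gr) (D.C_le _ hy) (D.P_le _ hx)).eq

theorem cC_R (i j : Bool) {c r : G} (hc : c ∈ D.X i 3) (hr : r ∈ D.X j 4) : c * r = r * c := by
  have h1 : c ∈ kj E.na (kj E.nb (D.AA i)) := by rw [D.na_X3]; exact hc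
  have h2 : E.na * c * E.na⁻¹ ∈ Gr.C := D.C_le i (mem_kj.1 h1)
  have h3 := (cCP (Gr := Gr) h2 (D.P_le j (mem_kj.1 hr))).eq
  have h4 : E.na * (c * r) * E.na⁻¹ = E.na * (r * c) * E.na⁻¹ := by
    calc E.na * (c * r) * E.na⁻¹ = (E.na * c * E.na⁻¹) * (E.na * r * E.na⁻¹) := by group
      _ = _ := h3
      _ = _ := by group
  exact mul_left_cancel (mul_right_cancel h4)

theorem X3_gen (i : Bool) : D.X i 3 ≤ ⁅D.X i 1, D.X i 4⁆ ⊔ ⁅D.X i 1, D.X i 3⁆ := by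
  intro c hc
  obtain ⟨a, ha, g, hg, a', ha', c', hc', rfl⟩ := D.C_gen i c (mem_kj.1 hc)
  exact mul_mem (mem_sup_left (commutator_mem_commutator ha (mem_kj.2 hg)))
    (mem_sup_right (commutator_mem_commutator ha' (mem_kj.2 hc')))

theorem X13_le (i : Bool) : ⁅D.X i 1, D.X i 3⁆ ≤ D.X i 2 := by
  rw [commutator_le]
  intro a ha c hc
  obtain ⟨p, hp, h⟩ := D.A_C i a ha c (mem_kj.1 hc)
  rw [commutatorElement_def, h, mul_inv_cancel_right]
  exact hp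

theorem X2_gen (i : Bool) : D.X i 2 ≤ ⁅D.X i 1, D.X i 4⁆ ⊔ D.X i 3 ⊔ ⁅D.X i 1, D.X i 3⁆ := by
  intro p hp
  obtain ⟨a, ha, g, hg, c, hc, a', ha', c', hc', rfl⟩ := D.P_gen i p hp
  exact mul_mem (mem_sup_left (mul_mem (mem_sup_left (commutator_mem_commutator ha (mem_kj.2 hg)))
    (mem_sup_right (mem_kj.2 hc)))) (mem_sup_right (commutator_mem_commutator ha' (mem_kj.2 hc')))

theorem Cm.comm {H K L : Subgroup G} (h1 : Cm H L) (h2 : Cm K L) : Cm ⁅H, K⁆ L :=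
  le_trans (commutator_mono h1 h2) (commutator_le_self _)

theorem q25 : D.Q 2 5 := D.q14.na.swap
theorem q05 : D.Q 0 5 := (D.q14.tr.tr).swap
theorem q35 : D.Q 3 5 := D.q13.tr
theorem q02 : D.Q 0 2 := D.q24.swap.nb
theorem q03 : D.Q 0 3 := D.q14.swap.nb

theorem q15 : D.Q 1 5 := by
  intro i
  have h1 : D.X i 1 ≤ ⁅D.X i 3, D.X i 0⁆ ⊔ D.X i 2 := by
    have h2 := kj_mono E.nb (D.X3_gen i)
    rw [kj_sup, kj_comm, D.nb_X, D.nb_X, D.nb_X] at h2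
    have h3 := kj_mono E.nb (D.X13_le i)
    rw [D.nb_X] at h3
    exact h2.trans (sup_le_sup_left h3 _)
  exact Cm.mono ((Cm.comm (D.q35 i) (D.q05 i)).sup (D.q25 i)) h1

theorem q40 : D.Q 4 0 := by
  intro i
  have h1 : D.X i 4 ≤ ⁅D.X i 5, D.X i 2⁆ ⊔ D.X i 3 ⊔ ⁅D.X i 5, D.X i 3⁆ := by
    have h2 := kj_mono E.na (D.X2_gen i)
    rw [kj_sup, kj_sup, kj_comm, kj_comm, D.na_X, D.na_X, D.na_X, D.na_X] at h2
    exact h2
  exact Cm.mono (((Cm.comm (D.q05.swap i) (D.q02.swap i)).sup (D.q03.swap i)).sup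
    (Cm.comm (D.q05.swap i) (D.q03.swap i))) h1

theorem q_all (k l : Fin 8) : D.Q k l := by
  have base : ∀ d ∈ ([(1,1),(2,2),(1,2),(2,3),(1,3),(2,4),(1,4),(2,5),(1,5),(4,0)] : List (Fin 8 × Fin 8)),
      D.Q d.1 d.2 := by
    intro d hd
    simp only [List.mem_cons, List.not_mem_nil, or_false] at hd
    rcases hd with rfl | rfl | rfl | rfl | rfl | rfl | rfl | rfl | rfl | rfl
    · exact D.q11
    · exact D.q22
    · exact D.q12
    · exact D.q23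
    · exact D.q13
    · exact D.q24
    · exact D.q14
    · exact D.q25
    · exact D.q15
    · exact D.q40
  have key : ∀ k l : Fin 8, ∃ d ∈ ([(1,1),(2,2),(1,2),(2,3),(1,3),(2,4),(1,4),(2,5),(1,5),(4,0)] : List (Fin 8 × Fin 8)),
      ∃ m : Fin 8, (k = d.1 + 2 * m ∧ l = d.2 + 2 * m) ∨ (l = d.1 + 2 * m ∧ k = d.2 + 2 * m) := by decide
  obtain ⟨d, hd, m, ⟨rfl, rfl⟩ | ⟨rfl, rfl⟩⟩ := key k l
  · exact (base d hd).tr' m m rfl
  · exact ((base d hd).tr' m m rfl).swap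

/-! ### The components -/

/-- the component. -/
def LL (i : Bool) : Subgroup G := ⨆ k, D.X i k

theorem X_LL (i : Bool) (k : Fin 8) : D.X i k ≤ D.LL i := le_iSup (D.X i) k

theorem LL_comm (i : Bool) : Cm (D.LL i) (D.LL (!i)) := by
  refine iSup_le fun k => ?_
  refine Cm.symm (iSup_le fun l => ?_)
  exact (D.q_all k l i).symm

theorem na_LL (i : Bool) : kj E.na (D.LL i) = D.LL i := by
  have h : kj E.na (D.LL i) ≤ D.LL i := by
    unfold LL kj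
    rw [Subgroup.map_iSup]
    refine iSup_le fun k => ?_
    have := D.na_X i k
    unfold kj at this
    rw [this]
    exact D.X_LL i _
  apply le_antisymm h
  have := kj_mono E.na h
  rwa [kj_na_na] at this

theorem nb_LL (i : Bool) : kj E.nb (D.LL i) = D.LL i := by
  have h : kj E.nb (D.LL i) ≤ D.LL i := by
    unfold LL kj
    rw [Subgroup.map_iSup]
    refine iSup_le fun k => ?_
    have := D.nb_X i k
    unfold kj at this
    rw [this]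
    exact D.X_LL i _
  apply le_antisymm h
  have := kj_mono E.nb h
  rwa [kj_nb_nb] at this

theorem LL_perf (i : Bool) : D.LL i ≤ ⁅D.LL i, D.LL i⁆ := by
  have h3 : D.X i 3 ≤ ⁅D.LL i, D.LL i⁆ :=
    (D.X3_gen i).trans (sup_le (commutator_mono (D.X_LL i _) (D.X_LL i _)) (commutator_mono (D.X_LL i _) (D.X_LL i _)))
  have h2 : D.X i 2 ≤ ⁅D.LL i, D.LL i⁆ :=
    (D.X2_gen i).trans (sup_le (sup_le (commutator_mono (D.X_LL i _) (D.X_LL i _)) h3)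
      (commutator_mono (D.X_LL i _) (D.X_LL i _)))
  have hna : ∀ k : Fin 8, D.X i k ≤ ⁅D.LL i, D.LL i⁆ → D.X i (6 - k) ≤ ⁅D.LL i, D.LL i⁆ := by
    intro k hk
    have := kj_mono E.na hk
    rwa [kj_comm, D.na_LL, D.na_X] at this
  have hnb : ∀ k : Fin 8, D.X i k ≤ ⁅D.LL i, D.LL i⁆ → D.X i (4 - k) ≤ ⁅D.LL i, D.LL i⁆ := by
    intro k hk
    have := kj_mono E.nb hk
    rwa [kj_comm, D.nb_LL, D.nb_X] at this
  have h1 : D.X i 1 ≤ _ := hnb 3 h3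
  have h4 : D.X i 4 ≤ _ := hna 2 h2
  have h5 : D.X i 5 ≤ _ := hna 1 h1
  have h0 : D.X i 0 ≤ _ := hnb 4 h4
  have h6 : D.X i 6 ≤ _ := hna 0 h0
  have h7 : D.X i 7 ≤ _ := hnb 5 h5
  refine iSup_le fun k => ?_
  match k with
  | 0 => exact h0
  | 1 => exact h1
  | 2 => exact h2
  | 3 => exact h3
  | 4 => exact h4
  | 5 => exact h5
  | 6 => exact h6
  | 7 => exact h7

theorem t_X (i : Bool) (k : Fin 8) : kj E.t (D.X i k) ≤ D.X (!i) k := by
  have ht : E.t⁻¹ = E.t := E.toWEnv.t_inv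
  have hA : ∀ i, kj E.t (D.AA i) ≤ D.AA (!i) := by
    intro i g hg
    have h1 := D.t_A i _ (mem_kj.1 hg)
    have h2 : E.t * (E.t * g * E.t⁻¹) * E.t⁻¹ = g := by
      calc E.t * (E.t * g * E.t⁻¹) * E.t⁻¹ = (E.t * E.t) * g * (E.t * E.t)⁻¹ := by group
        _ = g := by rw [E.t_sq]; group
    rwa [h2] at h1
  have hP : ∀ i, kj E.t (D.PP i) ≤ D.PP (!i) := by
    intro i g hg
    have h1 := D.t_P i _ (mem_kj.1 hg)
    have h2 : E.t * (E.t * g * E.t⁻¹) * E.t⁻¹ = g := by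
      calc E.t * (E.t * g * E.t⁻¹) * E.t⁻¹ = (E.t * E.t) * g * (E.t * E.t)⁻¹ := by group
        _ = g := by rw [E.t_sq]; group
    rwa [h2] at h1
  have key : ∀ (n : G) (H K : Subgroup G), n * E.t = E.t * n → kj E.t H ≤ K → kj E.t (kj n H) ≤ kj n K := by
    intro n H K hn hK
    rw [kj_kj, hn, ← kj_kj]
    exact kj_mono n hK
  have hna : E.na * E.t = E.t * E.na := E.t_na.symm
  have hnb : E.nb * E.t = E.t * E.nb := E.t_nb.symm
  have hab : E.na * E.nb * E.t = E.t * (E.na * E.nb) := by rw [mul_assoc, hnb, ← mul_assoc, hna, mul_assoc]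
  have haba : E.na * E.nb * E.na * E.t = E.t * (E.na * E.nb * E.na) := by
    rw [mul_assoc (E.na * E.nb), hna, ← mul_assoc, hab]; group
  match k with
  | 0 => exact key _ _ _ hab (hP i)
  | 1 => exact hA i
  | 2 => exact hP i
  | 3 => exact key _ _ _ hnb (hA i)
  | 4 => exact key _ _ _ hna (hP i)
  | 5 => exact key _ _ _ hna (hA i)
  | 6 => exact key _ _ _ haba (hP i)
  | 7 => exact key _ _ _ hab (hA i)

theorem t_LL (i : Bool) {g : G} (hg : g ∈ D.LL i) : E.t * g * E.t⁻¹ ∈ D.LL (!i) := by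
  have h : kj E.t (D.LL i) ≤ D.LL (!i) := by
    have h1 : kj E.t (⨆ k, D.X i k) = ⨆ k, kj E.t (D.X i k) := by
      unfold kj
      exact Subgroup.map_iSup _ _
    unfold LL
    rw [h1]
    exact iSup_le fun k => (D.t_X i k).trans (D.X_LL (!i) k)
  apply h
  rw [mem_kj]
  have h2 : E.t * (E.t * g * E.t⁻¹) * E.t⁻¹ = g := by
    calc E.t * (E.t * g * E.t⁻¹) * E.t⁻¹ = (E.t * E.t) * g * (E.t * E.t)⁻¹ := by group
      _ = g := by rw [E.t_sq]; group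
  rw [h2]
  exact hg

end SplitG

end Cfsg.Agent.StdRank2.SC.Five
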