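import Cfsg.Agent.StdRank2.SC.FiveSplitS
import Cfsg.Agent.StdRank2.B2Conn

/-!
# The split case of `U₅(q)`: the component `M = LL false` in `X`

`LL i` is perfect, generated by 2-elements, commutes with its `t`-conjugate and `{x x^t : x ∈ LL i}` is the group
generated by the root groups of `E`, i.e. `im A`.
-/

set_option autoImplicit false
set_option linter.unusedSectionVars false
set_option linter.unusedVariables false

namespace Cfsg.Agent.StdRank2.SC.Five.SplitG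

open Subgroup Cfsg.Agent.StdRank2.UFour Cfsg.Agent.StdRank2.UFive Cfsg.Agent.StdRank2.UFour.SeedPre
open scoped commutatorElement

section abs

variable {F : Type*} [Field F] [CharP F 2] {B : Bar F} {G : Type*} [Group G]
variable {E : UFive.Env B G} {Gr : UFive.Grown E} (D : SplitG Gr)

theorem LL_perf' (i : Bool) : ⁅D.LL i, D.LL i⁆ = D.LL i := le_antisymm (commutator_le_self _) (D.LL_perf i)

theorem t_LL' (i : Bool) {y : G} (hy : y ∈ D.LL i) : E.t * y * E.t ∈ D.LL (!i) := by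
  have h1 := D.t_LL i hy
  rwa [E.toWEnv.t_inv] at h1

theorem LL_swap (i : Bool) (x : G) (hx : x ∈ D.LL i) (y : G) (hy : y ∈ D.LL i) :
    x * (E.t * y * E.t) = E.t * y * E.t * x :=
  (cm_iff.1 (D.LL_comm i) x hx _ (D.t_LL' i hy)).symm

theorem two_X (i : Bool) (k : Fin 8) {x : G} (hx : x ∈ D.X i k) : x ^ 2 ^ 2 = 1 := by
  have hA : ∀ {x}, x ∈ D.AA i → x ^ 2 ^ 2 = 1 := by
    intro x hx
    have h1 := Gr.rootA.sq x (D.A_le i hx)
    rw [show 2 ^ 2 = 2 * 2 by norm_num, pow_mul, pow_two x, h1, one_pow]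
  have hP : ∀ {x}, x ∈ D.PP i → x ^ 2 ^ 2 = 1 := by
    intro x hx
    have h1 := Gr.rootZ.sq _ (Gr.P_sq x (D.P_le i hx))
    rw [show 2 ^ 2 = 2 * 2 by norm_num, pow_mul, pow_two, pow_two, h1]
  have key : ∀ {n x : G}, (n * x * n⁻¹) ^ 2 ^ 2 = 1 → x ^ 2 ^ 2 = 1 := by
    intro n x h
    rw [conj_pow] at h
    calc x ^ 2 ^ 2 = n⁻¹ * (n * x ^ 2 ^ 2 * n⁻¹) * n := by group
      _ = 1 := by rw [h]; group
  match k, hx with
  | 0, hx => exact key (hP (mem_kj.1 hx))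
  | 1, hx => exact hA hx
  | 2, hx => exact hP hx
  | 3, hx => exact key (hA (mem_kj.1 hx))
  | 4, hx => exact key (hP (mem_kj.1 hx))
  | 5, hx => exact key (hA (mem_kj.1 hx))
  | 6, hx => exact key (hP (mem_kj.1 hx))
  | 7, hx => exact key (hA (mem_kj.1 hx))

/-- `LL i` is generated by 2-elements -/
theorem LL_two (i : Bool) : D.LL i ≤ closure {x | x ∈ D.LL i ∧ ∃ k : ℕ, x ^ 2 ^ k = 1} :=
  iSup_le fun k _ hx => subset_closure ⟨D.X_LL i k hx, 2, D.two_X i k hx⟩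

/-- `x ↦ x x^t` -/
def dg (i : Bool) : D.LL i →* G where
  toFun x := x * (E.t * x * E.t)
  map_one' := by rw [OneMemClass.coe_one, mul_one, one_mul, E.t_sq]
  map_mul' x y := by
    have h1 := D.LL_swap i y y.2 x x.2
    change (x : G) * y * (E.t * (x * y) * E.t) = x * (E.t * x * E.t) * (y * (E.t * y * E.t))
    calc (x : G) * y * (E.t * (x * y) * E.t) = x * y * (E.t * x * E.t⁻¹) * (E.t * y * E.t) := by group
      _ = x * (y * (E.t * x * E.t)) * (E.t * y * E.t) := by rw [E.toWEnv.t_inv]; group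
      _ = _ := by rw [h1]; group

theorem dg_apply (i : Bool) (x : D.LL i) : D.dg i x = x * (E.t * x * E.t) := rfl

theorem mem_range_dg {i : Bool} {g : G} : g ∈ (D.dg i).range ↔ ∃ x ∈ D.LL i, x * (E.t * x * E.t) = g :=
  ⟨fun ⟨x, h⟩ => ⟨x, x.2, h⟩, fun ⟨x, hx, h⟩ => ⟨⟨x, hx⟩, h⟩⟩

theorem na_range {i : Bool} {g : G} (hg : g ∈ (D.dg i).range) : E.na * g * E.na⁻¹ ∈ (D.dg i).range := by
  obtain ⟨x, hx, rfl⟩ := D.mem_range_dg.1 hg
  refine D.mem_range_dg.2 ⟨E.na * x * E.na⁻¹, (by rw [← mem_kj, D.na_LL]; exact hx), ?_⟩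
  have h1 := E.t_na
  calc E.na * x * E.na⁻¹ * (E.t * (E.na * x * E.na⁻¹) * E.t)
      = E.na * x * E.na⁻¹ * ((E.t * E.na) * x * (E.na⁻¹ * E.t)) := by group
    _ = E.na * x * E.na⁻¹ * ((E.na * E.t) * x * (E.t * E.na⁻¹)) := by
        rw [h1]
        have h2 : E.na⁻¹ * E.t = E.t * E.na⁻¹ := by
          rw [inv_mul_eq_iff_eq_mul, ← mul_assoc, ← h1, mul_inv_cancel_right]
        rw [h2]
    _ = _ := by group

theorem nb_range {i : Bool} {g : G} (hg : g ∈ (D.dg i).range) : E.nb * g * E.nb⁻¹ ∈ (D.dg i).range := by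
  obtain ⟨x, hx, rfl⟩ := D.mem_range_dg.1 hg
  refine D.mem_range_dg.2 ⟨E.nb * x * E.nb⁻¹, (by rw [← mem_kj, D.nb_LL]; exact hx), ?_⟩
  have h1 := E.t_nb
  calc E.nb * x * E.nb⁻¹ * (E.t * (E.nb * x * E.nb⁻¹) * E.t)
      = E.nb * x * E.nb⁻¹ * ((E.t * E.nb) * x * (E.nb⁻¹ * E.t)) := by group
    _ = E.nb * x * E.nb⁻¹ * ((E.nb * E.t) * x * (E.t * E.nb⁻¹)) := by
        rw [h1]
        have h2 : E.nb⁻¹ * E.t = E.t * E.nb⁻¹ := by
          rw [inv_mul_eq_iff_eq_mul, ← mul_assoc, ← h1, mul_inv_cancel_right]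
        rw [h2]
    _ = _ := by group

theorem U_range [Finite G] (i : Bool) : UU E.toWEnv ≤ (D.dg i).range := by
  intro u hu
  obtain ⟨s, hs⟩ := D.half_surj i ⟨u, hu⟩
  refine D.mem_range_dg.2 ⟨s, D.SS_le_LL i s.2, ?_⟩
  have h1 : (D.half i s : G) = u := congrArg Subtype.val hs
  rw [half_apply, E.toWEnv.t_inv] at h1
  exact h1

theorem range_le [Finite G] (i : Bool) {K : Subgroup G} (hU : UU E.toWEnv ≤ K) (hna : E.na ∈ K) (hnb : E.nb ∈ K) :
    (D.dg i).range ≤ K := by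
  have hX : ∀ k, ∀ x ∈ D.X i k, x * (E.t * x * E.t) ∈ K := by
    have h14 : ∀ x ∈ D.SS i, x * (E.t * x * E.t) ∈ K := by
      intro x hx
      have := D.half_mem i hx
      rw [E.toWEnv.t_inv] at this
      exact hU this
    have cn : ∀ {n : G}, n ∈ K → E.t * n = n * E.t → ∀ {x : G}, (n * x * n⁻¹) * (E.t * (n * x * n⁻¹) * E.t) ∈ K →
        x * (E.t * x * E.t) ∈ K := by
      intro n hn ht x hx
      have h2 : n⁻¹ * E.t = E.t * n⁻¹ := by
        rw [inv_mul_eq_iff_eq_mul, ← mul_assoc, ← ht, mul_inv_cancel_right]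
      have h3 : (n * x * n⁻¹) * (E.t * (n * x * n⁻¹) * E.t) = n * (x * (E.t * x * E.t)) * n⁻¹ := by
        calc (n * x * n⁻¹) * (E.t * (n * x * n⁻¹) * E.t)
            = n * x * n⁻¹ * ((E.t * n) * x * (n⁻¹ * E.t)) := by group
          _ = n * x * n⁻¹ * ((n * E.t) * x * (E.t * n⁻¹)) := by rw [ht, h2]
          _ = _ := by group
      rw [h3] at hx
      have := mul_mem (mul_mem (inv_mem hn) hx) hn
      rwa [show n⁻¹ * (n * (x * (E.t * x * E.t)) * n⁻¹) * n = x * (E.t * x * E.t) by group] at this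
    have e1 : ∀ x ∈ D.X i 1, x * (E.t * x * E.t) ∈ K := fun x hx => h14 x ((D.X_SS i).1 hx)
    have e2 : ∀ x ∈ D.X i 2, x * (E.t * x * E.t) ∈ K := fun x hx => h14 x ((D.X_SS i).2.1 hx)
    have e3 : ∀ x ∈ D.X i 3, x * (E.t * x * E.t) ∈ K := fun x hx => h14 x ((D.X_SS i).2.2.1 hx)
    have e4 : ∀ x ∈ D.X i 4, x * (E.t * x * E.t) ∈ K := fun x hx => h14 x ((D.X_SS i).2.2.2 hx)
    have fna : ∀ k, (∀ x ∈ D.X i (6 - k), x * (E.t * x * E.t) ∈ K) → ∀ x ∈ D.X i k, x * (E.t * x * E.t) ∈ K := by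
      intro k hk x hx
      refine cn hna E.t_na (hk _ ?_)
      have h1 : x ∈ kj E.na (D.X i (6 - k)) := by
        have h2 : (6 : Fin 8) - (6 - k) = k := (by decide : ∀ k : Fin 8, (6 : Fin 8) - (6 - k) = k) k
        rw [D.na_X, h2]; exact hx
      exact mem_kj.1 h1
    have fnb : ∀ k, (∀ x ∈ D.X i (4 - k), x * (E.t * x * E.t) ∈ K) → ∀ x ∈ D.X i k, x * (E.t * x * E.t) ∈ K := by
      intro k hk x hx
      refine cn hnb E.t_nb (hk _ ?_)
      have h1 : x ∈ kj E.nb (D.X i (4 - k)) := by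
        have h2 : (4 : Fin 8) - (4 - k) = k := (by decide : ∀ k : Fin 8, (4 : Fin 8) - (4 - k) = k) k
        rw [D.nb_X, h2]; exact hx
      exact mem_kj.1 h1
    have e0 : ∀ x ∈ D.X i 0, x * (E.t * x * E.t) ∈ K := fnb 0 e4
    have e5 : ∀ x ∈ D.X i 5, x * (E.t * x * E.t) ∈ K := fna 5 e1
    have e6 : ∀ x ∈ D.X i 6, x * (E.t * x * E.t) ∈ K := fna 6 e0
    have e7 : ∀ x ∈ D.X i 7, x * (E.t * x * E.t) ∈ K := fnb 7 e5
    intro k
    match k with
    | 0 => exact e0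
    | 1 => exact e1
    | 2 => exact e2
    | 3 => exact e3
    | 4 => exact e4
    | 5 => exact e5
    | 6 => exact e6
    | 7 => exact e7
  have h1 : D.LL i ≤ (K.comap (D.dg i)).map (D.LL i).subtype := by
    refine iSup_le fun k x hx => ?_
    exact ⟨⟨x, D.X_LL i k hx⟩, hX k x hx, rfl⟩
  rintro _ ⟨x, rfl⟩
  obtain ⟨y, hy, e⟩ := h1 x.2
  have : y = x := Subtype.ext e
  rw [← this]
  exact hy

/-- the group generated by the root groups -/
theorem range_eq [Finite G] (i : Bool) {K : Subgroup G} (hU : UU E.toWEnv ≤ K) (hna : E.na ∈ K) (hnb : E.nb ∈ K)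
    (hgen : K ≤ closure {g | (∃ s, g = E.xa s ∨ g = E.na * E.xa s * E.na⁻¹) ∨
      ∃ q, g = E.p2 q ∨ g = E.nb * E.p2 q * E.nb⁻¹}) : (D.dg i).range = K := by
  apply le_antisymm (D.range_le i hU hna hnb)
  refine hgen.trans ((closure_le _).2 ?_)
  rintro g (⟨s, rfl | rfl⟩ | ⟨q, rfl | rfl⟩)
  · exact D.U_range i (a_mem _ s)
  · exact D.na_range (D.U_range i (a_mem _ s))
  · exact D.U_range i (Q_le _ (E.p2_memQ q))
  · exact D.nb_range (D.U_range i (Q_le _ (E.p2_memQ q)))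

end abs

section conc

open Cfsg.Agent.TitsThree.B2Pkg Cfsg.Agent.TitsThree.RankTwoIdentB2
  Cfsg.Agent.TitsThree.CoreB2 Cfsg.Agent.TitsThree.RankTwoIdx Cfsg.Agent.TitsThree.RankTwoRGD
  Cfsg.Agent.TitsThree.StdData
open Cfsg.Agent.StdRank2.B2Std Cfsg.Agent.StdRank2.UEnvW Cfsg.Agent.StdRank2.UEnv5
open Cfsg.Agent.StdRank2.B2Conn Cfsg.Agent.StdEven.CoreQuot

universe u

variable {F : Type*} [Field F] [Finite F] [CharP F 2] {B : Bar F} {G : Type u} [Group G] {A : Subgroup G} [Finite A]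
variable (S : Std (stdU1 F B.s B.invol) ↥A) {t : G} (h : UEnvW.Hyp S B t) {lam : B.K} (h0 : lam ≠ 0) (h1 : lam ≠ 1)

theorem U_le_A : UU (UEnv5.env5 S h h0 h1).toWEnv ≤ A := by
  rintro _ ⟨q, ⟨v, -, rfl⟩, s, rfl⟩
  exact mul_mem v.2 (S.m.x s).2

theorem A_gen : A ≤ closure {g | (∃ s, g = (UEnv5.env5 S h h0 h1).xa s ∨
      g = (UEnv5.env5 S h h0 h1).na * (UEnv5.env5 S h h0 h1).xa s * (UEnv5.env5 S h h0 h1).na⁻¹) ∨
      ∃ q, g = (UEnv5.env5 S h h0 h1).p2 q ∨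
        g = (UEnv5.env5 S h h0 h1).nb * (UEnv5.env5 S h h0 h1).p2 q * (UEnv5.env5 S h h0 h1).nb⁻¹} := by
  have key : (closure (genSet S.m)).map A.subtype ≤ closure {g | (∃ s, g = (UEnv5.env5 S h h0 h1).xa s ∨
      g = (UEnv5.env5 S h h0 h1).na * (UEnv5.env5 S h h0 h1).xa s * (UEnv5.env5 S h h0 h1).na⁻¹) ∨
      ∃ q, g = (UEnv5.env5 S h h0 h1).p2 q ∨
        g = (UEnv5.env5 S h h0 h1).nb * (UEnv5.env5 S h h0 h1).p2 q * (UEnv5.env5 S h h0 h1).nb⁻¹} := by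
    rw [MonoidHom.map_closure]
    apply Subgroup.closure_mono
    rintro _ ⟨y, (⟨a, rfl | rfl⟩ | ⟨p, rfl | rfl⟩), rfl⟩
    · exact Or.inl ⟨a, Or.inl rfl⟩
    · refine Or.inl ⟨a, Or.inr ?_⟩
      exact congrArg A.subtype (B2Rel2.nI_x S a).symm
    · exact Or.inr ⟨vc p, Or.inl rfl⟩
    · refine Or.inr ⟨vc p, Or.inr ?_⟩
      exact congrArg A.subtype (B2Rel2.nb_z₂ S (one_ok h.hB) p).symm
  rw [S.gen, ← MonoidHom.range_eq_map, Subgroup.range_subtype] at key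
  exact key

/-- **`{x x^t : x ∈ LL i} = A`** for the environment `env5`. -/
theorem range_dg_env5 [Finite G] {Gr : UFive.Grown (UEnv5.env5 S h h0 h1)} (D : SplitG Gr) (i : Bool) :
    (D.dg i).range = A :=
  D.range_eq i (U_le_A S h h0 h1) (S.m.nI).2 (B2Rel2.nb S (one_ok h.hB)).2 (A_gen S h h0 h1)

end conc

end Cfsg.Agent.StdRank2.SC.Five.SplitG
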