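import Cfsg.Agent.StdRank2.SC.FiveR

/-!
# Structure constants of `U₅(q)`: the eigenspaces of `P / Z`

`W5 E g μ ν ω` : `g ∈ T` acts with the weights `μ` (on `a`), `ν` (on `b`), `ω` on `p2`, `μ̄ ω` on `p1`.
`al (xa 1) k = na k na⁻¹` (r4), `nb p nb⁻¹ = p` (r5).
`al (ea s) (p2 q) ≡ P' (s̄ q.w)` (the cocycle `δ` vanishes).
-/

set_option autoImplicit false
set_option linter.unusedSectionVars false

namespace Cfsg.Agent.StdRank2.SC.Five

open Subgroup Cfsg.Agent.StdRank2.UFour Cfsg.Agent.StdRank2.UFive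
open Cfsg.Agent.StdRank2.SC.Eps (lt tr_lt)

variable {F : Type*} [Field F] [CharP F 2] {B : Bar F} {G : Type*} [Group G]
variable {E : UFive.Env B G} {Gr : UFive.Grown E}

/-! ### Weights -/

/-- `g` is in the torus, with weights. -/
structure W5 (E : UFive.Env B G) (g : G) (μ : Fˣ) (ν : B.Kˣ) (ω : Fˣ) : Prop extends Wt E.toWEnv g μ ν where
  w1 : ∀ q, g * E.p1 q * g⁻¹ = E.p1 (Tp.sm (B.s μ * ω) q)
  w2 : ∀ q, g * E.p2 q * g⁻¹ = E.p2 (Tp.sm ω q)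

theorem sm_eq {x y : F} (h : x = y) (q : Tp B) : Tp.sm x q = Tp.sm y q := by rw [h]

theorem p2_inj {q q' : Tp B} (h : E.p2 q = E.p2 q') : q = q' := by
  have h1 := congrArg (fun g => E.na * g * E.na⁻¹) h
  beta_reduce at h1
  rw [E.na_2, E.na_2] at h1
  exact p1_inj h1

theorem s_unit_ne {x : Fˣ} : B.s (x : F) ≠ 0 := (map_ne_zero_iff B.s B.s.injective).2 x.ne_zero

theorem nm_unit_ne (x : Fˣ) : B.nm (x : F) ≠ 0 := fun h => x.ne_zero (B.nm_eq_zero.1 h)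

/-- the weight `ω`. -/
noncomputable def om (B : Bar F) (α β : Fˣ) : Fˣ :=
  Units.mk0 (B.s β * B.s β * B.s α * (α : F)⁻¹ * (β : F)⁻¹)
    (by
      refine mul_ne_zero (mul_ne_zero (mul_ne_zero (mul_ne_zero ?_ ?_) ?_) ?_) ?_
      · exact s_unit_ne
      · exact s_unit_ne
      · exact s_unit_ne
      · exact inv_ne_zero α.ne_zero
      · exact inv_ne_zero β.ne_zero)

theorem W5.hh (E : UFive.Env B G) (α β : Fˣ) :
    W5 E (E.hh α β) (α / β) (Units.mk0 (B.nm β) (nm_unit_ne β)) (om B α β) := by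
  have hα := α.ne_zero
  have hβ := β.ne_zero
  have hβ' : B.s (β : F) ≠ 0 := s_unit_ne
  refine ⟨⟨E.hh_mem α β, fun x => ?_, fun x => ?_, fun x => ?_, fun x => ?_⟩, fun q => ?_, fun q => ?_⟩
  · rw [E.hh_a, Units.val_div_eq_div_val, div_eq_mul_inv]
  · rw [E.hh_c]
    congr 1
    rw [Units.val_div_eq_div_val, Units.val_mk0]
    change (α : F) * B.s β * x = α / β * (β * B.s β) * x
    field_simp
  · rw [E.hh_b, Units.val_mk0]
  · rw [E.hh_z, Units.val_mk0]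
    congr 2
    apply Subtype.ext
    rw [Units.val_div_eq_div_val]
    change (α : F) * B.s α = (α / β) * B.s (α / β) * (β * B.s β)
    rw [map_div₀]
    field_simp
  · rw [E.hh_1]
    congr 1
    refine sm_eq ?_ q
    rw [Units.val_div_eq_div_val, map_div₀]
    change B.s (α : F) * B.s α * B.s β * (α : F)⁻¹ * (β : F)⁻¹ =
      B.s α / B.s β * (B.s β * B.s β * B.s α * (α : F)⁻¹ * (β : F)⁻¹)
    field_simp
  · rw [E.hh_2]
    rfl

/-- the elements `hh k k`, `k ∈ K`: scalars on `P`, `R`. -/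
theorem W5.kk (E : UFive.Env B G) (k : B.Kˣ) :
    ∃ g, W5 E g 1 (k * k) (Units.mk0 ((k : B.K) : F) (fun h => k.ne_zero (Subtype.ext h))) := by
  set κ : Fˣ := Units.mk0 ((k : B.K) : F) (fun h => k.ne_zero (Subtype.ext h)) with hκ
  have h := W5.hh E κ κ
  refine ⟨E.hh κ κ, ?_⟩
  · have h1 : κ / κ = 1 := div_self' κ
    have h2 : Units.mk0 (B.nm (κ : F)) (nm_unit_ne κ) = k * k := by
      apply Units.ext
      apply Subtype.ext
      change ((k : B.K) : F) * B.s ((k : B.K) : F) = ((k : B.K) : F) * ((k : B.K) : F)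
      rw [B.s_K]
    have h3 : om B κ κ = κ := by
      apply Units.ext
      change B.s ((k : B.K) : F) * B.s ((k : B.K) : F) * B.s ((k : B.K) : F) * ((k : B.K) : F)⁻¹ *
        ((k : B.K) : F)⁻¹ = ((k : B.K) : F)
      have hne : ((k : B.K) : F) ≠ 0 := κ.ne_zero
      rw [B.s_K]; field_simp
    rw [h1, h2, h3] at h
    exact h

/-- the elements `hh k 1`, `k ∈ K`. -/
theorem W5.k1 (E : UFive.Env B G) (k : B.Kˣ) :
    ∃ g, W5 E g (Units.mk0 ((k : B.K) : F) (fun h => k.ne_zero (Subtype.ext h))) 1 1 := by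
  set κ : Fˣ := Units.mk0 ((k : B.K) : F) (fun h => k.ne_zero (Subtype.ext h)) with hκ
  have h := W5.hh E κ 1
  refine ⟨E.hh κ 1, ?_⟩
  · have h1 : κ / 1 = κ := div_one κ
    have h2 : Units.mk0 (B.nm ((1 : Fˣ) : F)) (nm_unit_ne 1) = (1 : B.Kˣ) := by
      apply Units.ext
      change B.nm ((1 : Fˣ) : F) = 1
      rw [Units.val_one, B.nm_one]
    have h3 : om B κ 1 = 1 := by
      apply Units.ext
      change B.s ((1 : Fˣ) : F) * B.s ((1 : Fˣ) : F) * B.s ((k : B.K) : F) * ((k : B.K) : F)⁻¹ *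
        (((1 : Fˣ) : F))⁻¹ = ((1 : Fˣ) : F)
      have hne : ((k : B.K) : F) ≠ 0 := κ.ne_zero
      rw [B.s_K, Units.val_one, map_one]; field_simp
    rw [h1, h2, h3] at h
    exact h

/-- the elements `hh a 1`, `nm a = 1`. -/
theorem W5.a1 (E : UFive.Env B G) {a : Fˣ} (ha : B.nm (a : F) = 1) :
    ∃ g, g = E.hh a 1 ∧ W5 E g a 1 (a⁻¹ * a⁻¹) := by
  have h := W5.hh E a 1
  refine ⟨_, rfl, ?_⟩
  have hn : (a : F) * B.s a = 1 := congrArg Subtype.val ha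
  have h1 : a / 1 = a := div_one a
  have h2 : Units.mk0 (B.nm ((1 : Fˣ) : F)) (nm_unit_ne 1) = (1 : B.Kˣ) := by
    apply Units.ext
    change B.nm ((1 : Fˣ) : F) = 1
    rw [Units.val_one, B.nm_one]
  have h3 : om B a 1 = a⁻¹ * a⁻¹ := by
    apply Units.ext
    change B.s ((1 : Fˣ) : F) * B.s ((1 : Fˣ) : F) * B.s (a : F) * (a : F)⁻¹ *
      (((1 : Fˣ) : F))⁻¹ = ((a⁻¹ * a⁻¹ : Fˣ) : F)
    have hne : (a : F) ≠ 0 := a.ne_zero
    have h4 : B.s (a : F) = (a : F)⁻¹ := eq_inv_of_mul_eq_one_right hn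
    rw [h4, Units.val_one, map_one, Units.val_mul, Units.val_inv_eq_inv_val]; ring
  rw [h1, h2, h3] at h
  exact h

theorem s_norm {a : Fˣ} (ha : B.nm (a : F) = 1) : B.s (a : F) = (a : F)⁻¹ := by
  have hn : (a : F) * B.s a = 1 := congrArg Subtype.val ha
  exact eq_inv_of_mul_eq_one_right hn

/-- every element of the torus has weights. -/
theorem exists_W5 {g : G} (hg : g ∈ E.T) : ∃ μ ν ω, W5 E g μ ν ω := by
  obtain ⟨μ, ν, hw⟩ := exists_Wt hg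
  obtain ⟨ω', ω, h1, h2⟩ := E.T_act' g hg
  refine ⟨μ, ν, ω, hw, fun q => ?_, h2⟩
  have e1 := E.a_2 1 (tp B 1)
  have e2 := congrArg (fun x => g * x * g⁻¹) e1
  beta_reduce at e2
  have e3 : g * (E.xa 1 * E.p2 (tp B 1) * (E.xa 1)⁻¹) * g⁻¹ =
      (g * E.xa 1 * g⁻¹) * (g * E.p2 (tp B 1) * g⁻¹) * (g * E.xa 1 * g⁻¹)⁻¹ := by group
  have e4 : g * (E.p1 (Tp.sm (B.s 1) (tp B 1)) * E.xc (1 * B.s (tp B 1).c) * E.p2 (tp B 1)) * g⁻¹ =
      (g * E.p1 (Tp.sm (B.s 1) (tp B 1)) * g⁻¹) * (g * E.xc (1 * B.s (tp B 1).c) * g⁻¹) *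
        (g * E.p2 (tp B 1) * g⁻¹) := by group
  rw [e3, e4, hw.a, h1, hw.c, h2, E.a_2] at e2
  have e5 := mul_right_cancel e2
  -- compare
  have e6 : ∀ (p p' : Tp B) (x x' : F), E.p1 p * E.xc x = E.p1 p' * E.xc x' → p = p' := by
    intro p p' x x' h
    have h3 : E.p1 (p'⁻¹ * p) * E.xc (x + x') * E.p2 1 * E.xa 0 = 1 := by
      rw [E.p1_mul, ← p1_inv, E.xc_add, p2_one, E.toWEnv.xa_zero, mul_one, mul_one]
      calc (E.p1 p')⁻¹ * E.p1 p * (E.xc x * E.xc x') = (E.p1 p')⁻¹ * (E.p1 p * E.xc x) * E.xc x' := by group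
        _ = E.xc x' * E.xc x' := by rw [h]; group
        _ = 1 := E.toWEnv.xc_sq x'
    exact (inv_mul_eq_one.1 (E.u_inj _ _ _ _ h3).1).symm
  have e7 := congrArg Tp.w (e6 _ _ _ _ e5)
  have e8 : B.s (μ : F) * ω = ω' := by
    simpa using e7
  rw [h1, e8]

/-! ### `R ∩ P C = 1` -/

theorem P_conj_t {g : G} (hg : g ∈ Gr.P) : ∃ r ∈ Gr.Z, ∃ q : Tp B, g * E.t * g⁻¹ = r * E.p1 q * E.t :=
  Gr.P_t g hg

theorem R_conj_t {k : G} (hk : k ∈ Gr.R) : ∃ b ∈ Gr.Bb, ∃ q : Tp B, k * E.t * k⁻¹ = b * E.p2 q * E.t := by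
  obtain ⟨r, hr, q, h⟩ := Gr.P_t _ (na_R hk)
  refine ⟨_, Gr.na_Z r hr, q, ?_⟩
  have h1 := congrArg (fun g => E.na * g * E.na⁻¹) h
  beta_reduce at h1
  have ht : E.na * E.t * E.na⁻¹ = E.t := by rw [← E.t_na, mul_inv_cancel_right]
  have e1 : E.na * (E.na * k * E.na⁻¹ * E.t * (E.na * k * E.na⁻¹)⁻¹) * E.na⁻¹ =
      (E.na * (E.na * k * E.na⁻¹) * E.na⁻¹) * (E.na * E.t * E.na⁻¹) *
        (E.na * (E.na * k * E.na⁻¹) * E.na⁻¹)⁻¹ := by group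
  have e2 : E.na * (r * E.p1 q * E.t) * E.na⁻¹ =
      (E.na * r * E.na⁻¹) * (E.na * E.p1 q * E.na⁻¹) * (E.na * E.t * E.na⁻¹) := by group
  rw [e1, e2, na_na, ht, E.na_1] at h1
  exact h1

theorem R_cent_t {k : G} (hk : k ∈ Gr.R) (h : k * E.t = E.t * k) :
    ∃ b ∈ Gr.Bb, ∃ q : Tp B, k = b * E.p2 q := by
  have ht : E.na * E.t * E.na⁻¹ = E.t := by rw [← E.t_na, mul_inv_cancel_right]
  have h1 : (E.na * k * E.na⁻¹) * E.t * (E.na * k * E.na⁻¹)⁻¹ = 1 * E.t := by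
    calc (E.na * k * E.na⁻¹) * E.t * (E.na * k * E.na⁻¹)⁻¹
        = (E.na * k * E.na⁻¹) * (E.na * E.t * E.na⁻¹) * (E.na * k * E.na⁻¹)⁻¹ := by rw [ht]
      _ = E.na * (k * E.t * k⁻¹) * E.na⁻¹ := by group
      _ = E.na * E.t * E.na⁻¹ := by rw [h, mul_inv_cancel_right]
      _ = _ := by rw [ht, one_mul]
  obtain ⟨r, hr, q, h2⟩ := Gr.P_cent _ (na_R hk) 1 Gr.Z.one_mem h1
  refine ⟨_, Gr.na_Z r hr, q, ?_⟩
  have h3 := congrArg (fun g => E.na * g * E.na⁻¹) h2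
  beta_reduce at h3
  rw [na_na] at h3
  rw [h3, ← E.na_1]; group

theorem p2_mem_R (q : Tp B) : E.p2 q ∈ Gr.R := p2_mem q

/-- Lemma E. -/
theorem lemE {b r : G} (hb : b ∈ Gr.Bb) (hr : r ∈ Gr.Z) {q q' : Tp B} {y : F}
    (h : b * E.p2 q = E.xc y * (r * E.p1 q')) : b * E.p2 q = 1 ∧ y = 0 ∧ r * E.p1 q' = 1 := by
  obtain ⟨κ, hκ⟩ := Gr.rootB.conj_t b hb
  obtain ⟨κ', hκ'⟩ := Gr.rootZ.conj_t r hr
  have h1 : E.t * b * E.t⁻¹ = b * E.xb κ := r_t_conj Gr.rootB hb hκ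
  have h2 : E.t * r * E.t⁻¹ = r * E.xz κ' := r_t_conj Gr.rootZ hr hκ'
  have h3 := congrArg (fun g => E.t * g * E.t⁻¹) h
  beta_reduce at h3
  have e1 : E.t * (b * E.p2 q) * E.t⁻¹ = (E.t * b * E.t⁻¹) * (E.t * E.p2 q * E.t⁻¹) := by group
  have e2 : E.t * (E.xc y * (r * E.p1 q')) * E.t⁻¹ =
      (E.t * E.xc y * E.t⁻¹) * ((E.t * r * E.t⁻¹) * (E.t * E.p1 q' * E.t⁻¹)) := by group
  rw [e1, e2, h1, h2, (t_p2 q).eq, (t_p1 q').eq, E.t_c, mul_inv_cancel_right, mul_inv_cancel_right,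
    mul_inv_cancel_right] at h3
  -- `b xb κ p2 = xc r xz κ' p1`
  have e3 : b * E.xb κ * E.p2 q = (b * E.p2 q) * E.xb κ := by
    rw [mul_assoc, E.b_Q κ _ (p2_mem_Q q), ← mul_assoc]
  have e4 : E.xc y * (r * E.xz κ' * E.p1 q') = (E.xc y * (r * E.p1 q')) * E.xz κ' := by
    rw [mul_assoc r, E.z_Q κ' _ (p1_mem_Q q')]; group
  rw [e3, e4, h] at h3
  have e5 : E.xb κ = E.xz κ' := mul_left_cancel h3
  have e6 : E.w (κ', 0, κ) = 1 := by
    simp only [WEnv.w, E.toWEnv.xc_zero, mul_one]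
    rw [e5]; exact E.toWEnv.xz_sq κ'
  have e7 := E.w_eq_one e6
  have k0 : κ = 0 := congrArg (fun v => v.2.2) e7
  have k0' : κ' = 0 := congrArg Prod.fst e7
  rw [k0, E.toWEnv.xb_zero, one_mul] at hκ
  rw [k0', E.toWEnv.xz_zero, one_mul] at hκ'
  obtain ⟨k, rfl⟩ := Gr.rootB.cent b hb (WEnv.conj_eq_iff.1 hκ)
  obtain ⟨k', rfl⟩ := Gr.rootZ.cent r hr (WEnv.conj_eq_iff.1 hκ')
  have f1 : E.p1 (Tp.ofK k' * q')⁻¹ * E.xc y * E.p2 (Tp.ofK k * q) * E.xa 0 = 1 := by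
    rw [← p1_inv, E.p1_mul, E.p1_K, E.p2_mul, E.p2_K, E.toWEnv.xa_zero, mul_one, mul_assoc, h]
    have hc : Commute (E.xc y) (E.p1 q') := E.c_Q y _ (p1_mem_Q q')
    have hc2 : Commute (E.xc y) (E.xz k') := (E.z_c k' y).symm
    have hc3 : Commute (E.xc y) (E.xz k' * E.p1 q') := hc2.mul_right hc
    calc (E.xz k' * E.p1 q')⁻¹ * (E.xc y * (E.xc y * (E.xz k' * E.p1 q')))
        = (E.xz k' * E.p1 q')⁻¹ * ((E.xc y * E.xc y) * (E.xz k' * E.p1 q')) := by group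
      _ = 1 := by rw [E.toWEnv.xc_sq]; group
  obtain ⟨g1, g2, g3, -⟩ := E.u_inj _ _ _ _ f1
  refine ⟨?_, g2, ?_⟩
  · rw [← E.p2_K, ← E.p2_mul, g3, p2_one]
  · rw [← E.p1_K, ← E.p1_mul, inv_eq_one.1 g1, p1_one]

/-- `R ∩ P C = 1`. -/
theorem RPC_inf {k g c : G} (hk : k ∈ Gr.R) (hg : g ∈ Gr.P) (hc : c ∈ Gr.C) (h : k = c * g) : k = 1 := by
  obtain ⟨b, hb, q, h1⟩ := R_conj_t hk
  obtain ⟨r, hr, q', h2⟩ := Gr.P_t g hg
  obtain ⟨y, hy⟩ := Gr.rootC.conj_t c hc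
  have h3 : b * E.p2 q = E.xc y * (r * E.p1 q') := by
    have e1 : k * E.t * k⁻¹ = E.xc y * (r * E.p1 q') * E.t := by
      calc k * E.t * k⁻¹ = c * (g * E.t * g⁻¹) * c⁻¹ := by rw [h]; group
        _ = c * (r * E.p1 q') * E.t * c⁻¹ := by rw [h2]; group
        _ = (r * E.p1 q') * (c * E.t * c⁻¹) := by
            have : Commute c (r * E.p1 q') :=
              (cCP hc (Gr.P.mul_mem (Gr.Z_le hr) (Gr.p1_mem q')))
            rw [this.eq]; group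
        _ = _ := by
            have : Commute (E.xc y) (r * E.p1 q') :=
              (cCP (xc_mem y) (Gr.P.mul_mem (Gr.Z_le hr) (Gr.p1_mem q')))
            rw [hy, this.eq]; group
    exact mul_right_cancel (h1.symm.trans e1)
  obtain ⟨e1, e2, e3⟩ := lemE hb hr h3
  have h4 : k * E.t = E.t * k := by
    rw [e1, one_mul] at h1
    exact WEnv.conj_eq_iff.1 h1
  obtain ⟨b', hb', q'', h5⟩ := R_cent_t hk h4
  obtain ⟨r', hr', q3, h6⟩ := Gr.P_cent g hg 1 Gr.Z.one_mem (by rw [one_mul, h2, e3, one_mul])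
  obtain ⟨y', hy'⟩ := Gr.rootC.cent c hc (WEnv.conj_eq_iff.1 (by
    rw [hy, e2, E.toWEnv.xc_zero, one_mul]))
  have h7 : b' * E.p2 q'' = E.xc y' * (r' * E.p1 q3) := by rw [← h5, ← h6, ← hy', h]
  rw [h5]
  exact (lemE hb' hr' h7).1

/-! ### (r4), (r5) -/

theorem xa_sq' (s : F) : E.xa s * E.xa s = 1 := E.toWEnv.xa_sq s

theorem na_x (x : G) (hx : x = E.xa 1) : E.na * x * E.na = x * E.na * x := by
  subst hx
  have h := E.na_a
  have h1 := E.na_sq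
  have h2 := xa_sq' (E := E) 1
  have h3 : E.na⁻¹ = E.na := na_inv
  have h4 : (E.xa 1)⁻¹ = E.xa 1 := WEnv.inv_of_sq h2
  have h5 : E.na * E.xa 1 * E.na = (E.xa 1)⁻¹ * E.na⁻¹ * (E.xa 1)⁻¹ := by
    have h6 : (E.na * E.xa 1 * E.na) * (E.xa 1 * E.na * E.xa 1) = 1 := by rw [← h]; group
    rw [eq_inv_of_mul_eq_one_left h6]; group
  rw [h3, h4] at h5
  exact h5

/-- **(r4)** -/
theorem rule4 {k : G} (hk : k ∈ Gr.R) : al Gr (E.xa 1) k = E.na * k * E.na⁻¹ := by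
  set x := E.xa 1 with hx
  set n := E.na with hn
  have hxA : x ∈ Gr.A := xa_mem 1
  have hxx : x * x = 1 := xa_sq' 1
  have hxi : x⁻¹ = x := WEnv.inv_of_sq hxx
  have hni : n⁻¹ = n := na_inv
  obtain ⟨h1, h2⟩ := al_spec hxA hk
  have hκ : n * al Gr x k * n⁻¹ ∈ Gr.R := na_P h1
  have hg : n * k * n⁻¹ ∈ Gr.P := na_R hk
  have hc' : n * ac Gr x k * n⁻¹ ∈ Gr.C := Gr.na_C _ h2
  obtain ⟨h3, h4⟩ := al_spec hxA hκ
  have e1 : (x * n * x) * k * (x * n * x)⁻¹ = al Gr x (n * al Gr x k * n⁻¹) * ac Gr x (n * al Gr x k * n⁻¹) *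
      (n * al Gr x k * n⁻¹) * (AGrown.ph x (n * ac Gr x k * n⁻¹) * (n * ac Gr x k * n⁻¹)) *
        (n * k * n⁻¹) := by
    calc (x * n * x) * k * (x * n * x)⁻¹ = x * n * (x * k * x⁻¹) * n⁻¹ * x⁻¹ := by group
      _ = (x * (n * al Gr x k * n⁻¹) * x⁻¹) * (x * (n * ac Gr x k * n⁻¹) * x⁻¹) *
            (x * (n * k * n⁻¹) * x⁻¹) := by rw [conj_al (Gr := Gr) x k]; group
      _ = _ := by
          rw [conj_al (Gr := Gr) x (n * al Gr x k * n⁻¹), AGrown.ph_spec x (n * ac Gr x k * n⁻¹),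
            (cAP hxA hg).eq, mul_inv_cancel_right]
  have e2 : (n * x * n) * k * (n * x * n)⁻¹ = k := by
    calc (n * x * n) * k * (n * x * n)⁻¹ = n * (x * (n * k * n⁻¹) * x⁻¹) * n⁻¹ := by group
      _ = n * (n * k * n⁻¹) * n⁻¹ := by rw [(cAP hxA hg).eq, mul_inv_cancel_right]
      _ = k := na_na k
  rw [na_x x hx, e1] at e2
  set κ := n * al Gr x k * n⁻¹ with hκd
  set g := n * k * n⁻¹ with hgd
  set c' := n * ac Gr x k * n⁻¹ with hcd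
  have hp : AGrown.ph x c' ∈ Gr.Z := AGrown.ph_mem (D := ag Gr) hxA hc'
  -- `k κ⁻¹ ∈ C P`
  have hga := ga_mem hg hκ
  have e3 : k * κ⁻¹ = (ac Gr x κ * c' * ga g κ) * (al Gr x κ * AGrown.ph x c' * g) := by
    have f1 : κ * g = ga g κ * g * κ := WEnv.conj_eq_iff.1 (R_conj_P hg hκ)
    have f2 : κ * (AGrown.ph x c' * c') = (AGrown.ph x c' * c') * κ :=
      ((cZR hp hκ).symm.mul_right (cCR hc' hκ).symm).eq
    have f3 : Commute (c' * ga g κ) (al Gr x κ * AGrown.ph x c') :=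
      (cCP (Gr.C.mul_mem hc' hga) (Gr.P.mul_mem h3 (Gr.Z_le hp)))
    have f4 : Commute (ac Gr x κ) (al Gr x κ) := cCP h4 h3
    have f5 : AGrown.ph x c' * ac Gr x κ = ac Gr x κ * AGrown.ph x c' := (cZC hp h4).eq
    calc k * κ⁻¹ = (al Gr x κ * ac Gr x κ * κ * (AGrown.ph x c' * c') * g) * κ⁻¹ := by rw [e2]
      _ = al Gr x κ * ac Gr x κ * (κ * (AGrown.ph x c' * c')) * g * κ⁻¹ := by group
      _ = al Gr x κ * ac Gr x κ * (AGrown.ph x c' * c') * (κ * g) * κ⁻¹ := by rw [f2]; group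
      _ = al Gr x κ * ac Gr x κ * (AGrown.ph x c' * c') * (ga g κ * g) := by rw [f1]; group
      _ = ac Gr x κ * ((al Gr x κ * AGrown.ph x c') * (c' * ga g κ)) * g := by
          rw [← f4.eq]; group
      _ = _ := by rw [← f3.eq]; group
  have hk2 := RPC_inf (Gr.R.mul_mem hk (Gr.R.inv_mem hκ))
    (Gr.P.mul_mem (Gr.P.mul_mem h3 (Gr.Z_le hp)) hg)
    (Gr.C.mul_mem (Gr.C.mul_mem h4 hc') hga) e3
  have hk3 : k = κ := mul_inv_eq_one.1 hk2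
  have hk4 : n * κ * n⁻¹ = al Gr x k := na_na _
  rw [← hk4, ← hk3]

theorem nb_x (Gr : UFive.Grown E) : E.nb * E.xb 1 * E.nb = E.xb 1 * E.nb * E.xb 1 := (ag Gr).nb_b

theorem nb_inv : E.nb⁻¹ = E.nb := WEnv.inv_of_sq E.nb_sq

/-- **(r5)** -/
theorem rule5 {g : G} (hg : g ∈ Gr.P) : E.nb * g * E.nb⁻¹ = g := by
  set x := E.xb 1 with hx
  set m := E.nb with hm
  have hxx : x * x = 1 := E.toWEnv.xb_sq 1
  have hxB : x ∈ Gr.Bb := xb_mem 1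
  have hg' : m * g * m⁻¹ ∈ Gr.P := Gr.P_nb g hg
  have hmm : m * m = 1 := E.nb_sq
  have e1 : (m * x * m) * g * (m * x * m)⁻¹ = g := by
    calc (m * x * m) * g * (m * x * m)⁻¹ = m * (x * (m * g * m⁻¹) * x⁻¹) * m⁻¹ := by group
      _ = m * (m * g * m⁻¹) * m⁻¹ := by rw [← (cPB hg' hxB).eq, mul_inv_cancel_right]
      _ = (m * m) * g * (m * m)⁻¹ := by group
      _ = g := by rw [hmm]; group
  have e2 : (x * m * x) * g * (x * m * x)⁻¹ = m * g * m⁻¹ := by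
    calc (x * m * x) * g * (x * m * x)⁻¹ = x * (m * (x * g * x⁻¹) * m⁻¹) * x⁻¹ := by group
      _ = x * (m * g * m⁻¹) * x⁻¹ := by rw [← (cPB hg hxB).eq, mul_inv_cancel_right]
      _ = _ := by rw [← (cPB hg' hxB).eq, mul_inv_cancel_right]
  rw [← e2, ← nb_x Gr]
  exact e1

end Cfsg.Agent.StdRank2.SC.Five
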