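import Cfsg.Agent.StdRank2.SC.FiveV

/-!
# Structure constants of `U₅(q)`: `al (ea s) (p2 q)` depends only on `s̄ q.w`

`cjv k` : conjugation on `V = P / Z`; `sp w` the image of `p1`; `chv : V → F`; `tal a k` the image of `al a k`.
`tal_ea : tal (ea s) (p2 q) = Pr (s̄ q.w)`, `Pr w := tal (ea 1) (p2 (tp w))`.
-/

set_option autoImplicit false
set_option linter.unusedSectionVars false

namespace Cfsg.Agent.StdRank2.SC.Five

open Subgroup Cfsg.Agent.StdRank2.UFour Cfsg.Agent.StdRank2.UFive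
open Cfsg.Agent.StdRank2.SC.Eps (lt tr_lt)

section Fld

variable {F : Type*} [Field F] [CharP F 2] (B : Bar F)

theorem sq_ne_one {a : F} (h : a ≠ 1) : a * a ≠ 1 := by
  intro h1
  apply h
  have h2 : (a + 1) * (a + 1) = 0 := by
    have h3 := Bar.add_self a
    have h4 := Bar.add_self (1 : F)
    linear_combination h1 + h3 + h4
  have h3 := mul_self_eq_zero.1 h2
  have h4 := Bar.add_self (1 : F)
  linear_combination h3 - h4

theorem delta_zero [Finite F] {δ : F → F → F} (hadd1 : ∀ s s' w, δ (s + s') w = δ s w + δ s' w)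
    (hadd2 : ∀ s w w', δ s (w + w') = δ s w + δ s w')
    (hkk : ∀ (k : B.K) s w, δ s ((k : F) * w) = (k : F) * δ s w)
    (hk1 : ∀ (k : B.K) s w, δ ((k : F) * s) w = δ k (B.s s * w) + (k : F) * δ s w)
    {a b : F} (hab : a * b = 1) (hs : B.s a = b) (ha1 : a ≠ 1)
    (haa : ∀ s w, δ (a * s) (b * b * w) = δ a (b * b * (B.s s * w)) + b * b * b * δ s w) (s w : F) :
    δ s w = 0 := by
  have hK : ∀ (k : B.K) w, δ (k : F) w = 0 := by
    intro k w
    refine der_zero B (δ := fun k : B.K => δ (k : F) w) (fun x y => ?_) k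
    have h1 := hk1 x (y : F) w
    rw [B.s_K, hkk] at h1
    exact h1
  have hk2 : ∀ (k : B.K) s w, δ ((k : F) * s) w = (k : F) * δ s w := by
    intro k s w
    rw [hk1, hK, zero_add]
  obtain ⟨c1, c2, c3, c4, hc⟩ := bil B hadd1 hadd2 hk2 hkk
  have hb : B.s b = a := by rw [← hs, B.invol]
  have key : ∀ x y, (c1 * (b - b * b * b)) * x * y + (-(c1 * b) - b * b * b * c2) * B.s x * y +
      (-(c4 * a) - b * b * b * c3) * x * B.s y + (c4 * (a - b * b * b)) * B.s x * B.s y = 0 := by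
    intro x y
    have h := haa x y
    rw [hc (a * x), hc a, hc x] at h
    simp only [map_mul, hs, hb, B.invol] at h
    linear_combination h - (c1 * b * x * y - c1 * b * B.s x * y + c3 * a * a * a * 0 ) * (hab) * 0 -
      (c1 * x * b * y - c1 * b * B.s x * y + c4 * a * B.s x * B.s y - c4 * a * x * B.s y) * hab
  obtain ⟨e1, e2, e3, e4⟩ := bil_uniq B key
  have hbne : b ≠ 0 := right_ne_zero_of_mul_eq_one hab
  have hane : a ≠ 0 := left_ne_zero_of_mul_eq_one hab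
  have hb1 : b ≠ 1 := by rintro rfl; exact ha1 (by rwa [mul_one] at hab)
  have f1 : c1 = 0 := by
    have h1 : b - b * b * b ≠ 0 := by
      intro h
      have h2 : b * (1 - b * b) = 0 := by linear_combination h
      have h3 := (mul_eq_zero.1 h2).resolve_left hbne
      exact sq_ne_one hb1 (sub_eq_zero.1 h3).symm
    exact (mul_eq_zero.1 e1).resolve_right h1
  have f4 : c4 = 0 := by
    have h1 : a - b * b * b ≠ 0 := by
      intro h
      have h2 : (b * b) * (b * b) = 1 := by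
        have : b * a - b * (b * b * b) = 0 := by rw [← mul_sub, h, mul_zero]
        linear_combination hab - this
      exact sq_ne_one (sq_ne_one hb1) h2
    exact (mul_eq_zero.1 e4).resolve_right h1
  have hb3 : b * b * b ≠ 0 := mul_ne_zero (mul_ne_zero hbne hbne) hbne
  have f2 : c2 = 0 := by
    rw [f1] at e2
    have : (b * b * b) * c2 = 0 := by linear_combination -e2
    exact (mul_eq_zero.1 this).resolve_left hb3
  have f3 : c3 = 0 := by
    rw [f4] at e3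
    have : (b * b * b) * c3 = 0 := by linear_combination -e3
    exact (mul_eq_zero.1 this).resolve_left hb3
  rw [hc, f1, f2, f3, f4]; ring

end Fld

variable {F : Type*} [Field F] [CharP F 2] {B : Bar F} {G : Type*} [Group G]
variable {E : UFive.Env B G} {Gr : UFive.Grown E}

/-! ### Conjugation on `V` -/

/-- `k` normalises `P` and `Z`. -/
structure Nm (Gr : UFive.Grown E) (k : G) : Prop where
  P : ∀ g ∈ Gr.P, k * g * k⁻¹ ∈ Gr.P
  Z : ∀ g ∈ Gr.Z, k * g * k⁻¹ ∈ Gr.Z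

theorem Nm.T {k : G} (hk : k ∈ E.T) : Nm Gr k := ⟨Gr.P_T k hk, Gr.rootZ.conj_T k hk⟩
theorem Nm.t : Nm Gr E.t := ⟨fun _ => t_P, fun _ => t_Z⟩

/-- conjugation on `V`. -/
noncomputable def cjv (k : G) (v : V Gr) : V Gr := tv Gr (k * (exists_tv v).choose * k⁻¹)

theorem cjv_tv {k : G} (hk : Nm Gr k) {g : G} (hg : g ∈ Gr.P) : cjv k (tv Gr g) = tv Gr (k * g * k⁻¹) := by
  obtain ⟨h1, h2⟩ := (exists_tv (tv Gr g)).choose_spec
  exact tv_conj_congr hk.P hk.Z h1 hg h2.symm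

theorem cjv_add {k : G} (hk : Nm Gr k) (v v' : V Gr) : cjv k (v + v') = cjv k v + cjv k v' := by
  obtain ⟨g, hg, rfl⟩ := exists_tv v
  obtain ⟨g', hg', rfl⟩ := exists_tv v'
  rw [← tv_mul hg hg', cjv_tv hk hg, cjv_tv hk hg', cjv_tv hk (Gr.P.mul_mem hg hg'),
    ← tv_mul (hk.P g hg) (hk.P g' hg')]
  congr 1; group

/-- `chi` on `V`. -/
noncomputable def chv (v : V Gr) : F := chi Gr (exists_tv v).choose

theorem chv_tv {g : G} (hg : g ∈ Gr.P) : chv (tv Gr g) = chi Gr g := by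
  obtain ⟨h1, h2⟩ := (exists_tv (tv Gr g)).choose_spec
  exact chi_of_tv h1 hg h2.symm

theorem chv_add (v v' : V Gr) : chv (v + v') = chv v + chv v' := by
  obtain ⟨g, hg, rfl⟩ := exists_tv v
  obtain ⟨g', hg', rfl⟩ := exists_tv v'
  rw [← tv_mul hg hg', chv_tv hg, chv_tv hg', chv_tv (Gr.P.mul_mem hg hg'), chi_mul hg hg']

variable (Gr) in
/-- the image of `p1`. -/
noncomputable def sp (w : F) : V Gr := tv Gr (E.p1 (tp B w))

theorem tv_p1' (q : Tp B) : tv Gr (E.p1 q) = sp Gr q.w := tv_p1 rfl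

theorem sp_add (w w' : F) : sp Gr (w + w') = sp Gr w + sp Gr w' := by
  have h : (tp B (w + w')).w = (tp B w * tp B w').w := rfl
  rw [sp, tv_p1 h, E.p1_mul, tv_mul (Gr.p1_mem _) (Gr.p1_mem _)]; rfl

theorem sp_inj {w w' : F} (h : sp Gr w = sp Gr w') : w = w' := tv_p1_eq h

theorem sp_zero : sp Gr 0 = 0 := by
  have h := sp_add (Gr := Gr) 0 0
  rw [add_zero] at h
  exact left_eq_add.1 h

theorem chv_sp (w : F) : chv (sp Gr w) = 0 := by
  rw [sp, chv_tv (Gr.p1_mem _), chi_p1]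

theorem exists_sp {v : V Gr} (h : chv v = 0) : ∃ w, v = sp Gr w := by
  obtain ⟨g, hg, rfl⟩ := exists_tv v
  rw [chv_tv hg] at h
  obtain ⟨r, hr, q, rfl⟩ := chi_zero hg h
  refine ⟨q.w, ?_⟩
  rw [tv_mul (Gr.Z_le hr) (Gr.p1_mem q), tv_Z hr, zero_add, tv_p1']

theorem cjv_sp {g : G} {μ : Fˣ} {ν : B.Kˣ} {ω : Fˣ} (hg : W5 E g μ ν ω) (w : F) :
    cjv g (sp Gr w) = sp Gr (B.s μ * ω * w) := by
  rw [sp, cjv_tv (Nm.T hg.mem) (Gr.p1_mem _), hg.w1, tv_p1']
  rfl

theorem cjv_t (v : V Gr) : cjv E.t v = sp Gr (chv v) + v := by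
  obtain ⟨g, hg, rfl⟩ := exists_tv v
  rw [cjv_tv Nm.t hg, chv_tv hg, tv_t hg]; rfl

/-! ### `tal` -/

variable (Gr) in
/-- the image of `al a k` in `V`. -/
noncomputable def tal (a k : G) : V Gr := tv Gr (al Gr a k)

theorem tal_mul_left {a a' k : G} (ha : a ∈ Gr.A) (ha' : a' ∈ Gr.A) (hk : k ∈ Gr.R) :
    tal Gr (a * a') k = tal Gr a k + tal Gr a' k := by
  have hp : AGrown.ph a (ac Gr a' k) ∈ Gr.Z := AGrown.ph_mem (D := ag Gr) ha (ac_mem ha' hk)
  have h1 := al_mem ha hk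
  have h2 := al_mem ha' hk
  rw [tal, (al_mul_left ha ha' hk).1, tv_mul (Gr.Z_le hp) (Gr.P.mul_mem h2 h1), tv_Z hp, zero_add,
    tv_mul h2 h1, add_comm]; rfl

theorem tal_mul_right {a k k' : G} (ha : a ∈ Gr.A) (hk : k ∈ Gr.R) (hk' : k' ∈ Gr.R) :
    tal Gr a (k * k') = tal Gr a k + tal Gr a k' := by
  rw [tal, (al_mul_right ha hk hk').1, tv_mul (al_mem ha hk) (al_mem ha hk')]; rfl

theorem tal_congr {a k k' : G} (ha : a ∈ Gr.A) (hk : k ∈ Gr.R) (hk' : k' ∈ Gr.R)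
    (h : tr' Gr k = tr' Gr k') : tal Gr a k = tal Gr a k' := tv_al_congr ha hk hk' h

theorem tal_T {g a k : G} (hg : g ∈ E.T) (ha : a ∈ Gr.A) (hk : k ∈ Gr.R) :
    tal Gr (g * a * g⁻¹) (g * k * g⁻¹) = cjv g (tal Gr a k) := by
  rw [tal, (al_T hg ha hk).1, tal, cjv_tv (Nm.T hg) (al_mem ha hk)]

theorem tal_t {a k : G} (ha : a ∈ Gr.A) (hk : k ∈ Gr.R) :
    tal Gr (E.t * a * E.t⁻¹) (E.t * k * E.t⁻¹) = cjv E.t (tal Gr a k) := by
  rw [tal, (al_t ha hk).1, tal, cjv_tv Nm.t (al_mem ha hk)]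

theorem tr'_p2 (q : Tp B) : tr' Gr (E.p2 q) = sp Gr q.w := by
  rw [tr', E.na_2, tv_p1']

theorem tal_xa (s : F) (q : Tp B) : tal Gr (E.xa s) (E.p2 q) = sp Gr (B.s s * q.w) := by
  rw [tal, (al_xa s q).1, tv_p1']; rfl

theorem tal_p2 {a : G} (ha : a ∈ Gr.A) {q q' : Tp B} (h : q.w = q'.w) :
    tal Gr a (E.p2 q) = tal Gr a (E.p2 q') :=
  tal_congr ha (p2_mem _) (p2_mem _) (by rw [tr'_p2, tr'_p2, h])

theorem tal_p2_add {a : G} (ha : a ∈ Gr.A) (w w' : F) :
    tal Gr a (E.p2 (tp B (w + w'))) = tal Gr a (E.p2 (tp B w)) + tal Gr a (E.p2 (tp B w')) := by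
  have h : (tp B (w + w')).w = (tp B w * tp B w').w := rfl
  rw [tal_p2 ha h, E.p2_mul, tal_mul_right ha (p2_mem _) (p2_mem _)]

/-- `eaG s = ea s ∈ A`. -/
theorem ea_memA (s : F) : (ag Gr).ea s ∈ Gr.A := AGrown.ea_mem (D := ag Gr) s

variable (Gr) in
/-- `[ea s, p2 w]` in `V`. -/
noncomputable def Ae (s w : F) : V Gr := tal Gr ((ag Gr).ea s) (E.p2 (tp B w))

theorem Ae_add_left (s s' w : F) : Ae Gr (s + s') w = Ae Gr s w + Ae Gr s' w := by
  rw [Ae, AGrown.ea_add (D := ag Gr), tal_mul_left (ea_memA s) (ea_memA s') (p2_mem _)]; rfl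

theorem Ae_add_right (s w w' : F) : Ae Gr s (w + w') = Ae Gr s w + Ae Gr s w' := tal_p2_add (ea_memA s) w w'

theorem Ae_T {g : G} {μ : Fˣ} {ν : B.Kˣ} {ω : Fˣ} (hg : W5 E g μ ν ω) (s w : F) :
    cjv g (Ae Gr s w) = Ae Gr (μ * s) (ω * w) := by
  rw [Ae, ← tal_T hg.mem (ea_memA s) (p2_mem _), AGrown.ea_T (D := ag Gr) hg.mem hg.a, hg.w2]
  exact tal_p2 (ea_memA _) rfl

theorem chv_Ae (s w : F) : chv (Ae Gr s w) = B.s s * w := by
  have h1 := tal_t (ea_memA (Gr := Gr) s) (p2_mem (Gr := Gr) (tp B w))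
  rw [(t_p2 _).eq, mul_inv_cancel_right] at h1
  have h2 : E.t * (ag Gr).ea s * E.t⁻¹ = (ag Gr).ea s * E.xa s := AGrown.t_ea (D := ag Gr) s
  rw [h2, tal_mul_left (ea_memA s) (xa_mem s) (p2_mem _), tal_xa, cjv_t] at h1
  change Ae Gr s w + _ = sp Gr (chv (Ae Gr s w)) + Ae Gr s w at h1
  rw [add_comm] at h1
  exact (sp_inj (add_right_cancel h1)).symm

/-- the cocycle vanishes. -/
theorem Ae_eq [Finite F] {lam : B.K} (h0 : lam ≠ 0) (h1 : lam ≠ 1) (s w : F) :
    Ae Gr s w = Ae Gr 1 (B.s s * w) := by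
  have hex : ∀ s w, ∃ δ, Ae Gr s w = Ae Gr 1 (B.s s * w) + sp Gr δ := by
    intro s w
    have h2 : chv (Ae Gr s w - Ae Gr 1 (B.s s * w)) = 0 := by
      have h3 : Ae Gr s w = (Ae Gr s w - Ae Gr 1 (B.s s * w)) + Ae Gr 1 (B.s s * w) := by abel
      have h4 := congrArg chv h3
      rw [chv_add, chv_Ae, chv_Ae, map_one, one_mul] at h4
      exact right_eq_add.1 h4
    obtain ⟨δ, hδ⟩ := exists_sp h2
    exact ⟨δ, by rw [← hδ]; abel⟩
  choose δ hδ using hex
  have hadd1 : ∀ s s' w, δ (s + s') w = δ s w + δ s' w := by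
    intro s s' w
    refine sp_inj (Gr := Gr) ?_
    have h2 := hδ (s + s') w
    rw [Ae_add_left, hδ s, hδ s', map_add, add_mul, Ae_add_right] at h2
    rw [sp_add]
    have h3 : Ae Gr 1 (B.s s * w) + Ae Gr 1 (B.s s' * w) + (sp Gr (δ s w) + sp Gr (δ s' w)) =
        Ae Gr 1 (B.s s * w) + Ae Gr 1 (B.s s' * w) + sp Gr (δ (s + s') w) := by
      rw [← h2]; abel
    exact (add_left_cancel h3).symm
  have hadd2 : ∀ s w w', δ s (w + w') = δ s w + δ s w' := by
    intro s w w'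
    refine sp_inj (Gr := Gr) ?_
    have h2 := hδ s (w + w')
    rw [Ae_add_right, hδ s w, hδ s w', mul_add, Ae_add_right] at h2
    rw [sp_add]
    have h3 : Ae Gr 1 (B.s s * w) + Ae Gr 1 (B.s s * w') + (sp Gr (δ s w) + sp Gr (δ s w')) =
        Ae Gr 1 (B.s s * w) + Ae Gr 1 (B.s s * w') + sp Gr (δ s (w + w')) := by
      rw [← h2]; abel
    exact (add_left_cancel h3).symm
  -- the cocycle relation
  have hT : ∀ {g : G} {μ : Fˣ} {ν : B.Kˣ} {ω : Fˣ}, W5 E g μ ν ω → ∀ s w,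
      δ (μ * s) (ω * w) = δ μ (ω * (B.s s * w)) + B.s μ * ω * δ s w := by
    intro g μ ν ω hg s w
    refine sp_inj (Gr := Gr) ?_
    have h2 := congrArg (cjv g) (hδ s w)
    rw [cjv_add (Nm.T hg.mem), Ae_T hg, Ae_T hg, cjv_sp hg, mul_one, hδ (μ * s), hδ μ, map_mul] at h2
    rw [sp_add]
    have e1 : B.s (μ : F) * B.s s * (ω * w) = B.s μ * (ω * (B.s s * w)) := by ring
    rw [e1, add_assoc] at h2
    exact add_left_cancel h2
  have hδ1 : ∀ w, δ 1 w = 0 := by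
    intro w
    refine sp_inj (Gr := Gr) ?_
    have h2 := hδ 1 w
    rw [map_one, one_mul] at h2
    rw [sp_zero]
    exact left_eq_add.1 h2
  have h00 : ∀ w, δ 0 w = 0 := by
    intro w
    have h2 := hadd1 0 0 w
    rw [add_zero] at h2
    exact left_eq_add.1 h2
  have h00' : ∀ s, δ s 0 = 0 := by
    intro s
    have h2 := hadd2 s 0 0
    rw [add_zero] at h2
    exact left_eq_add.1 h2
  have hkk : ∀ (k : B.K) s w, δ s ((k : F) * w) = (k : F) * δ s w := by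
    intro k s w
    by_cases hk : k = 0
    · rw [hk]; change δ s (0 * w) = 0 * δ s w
      rw [zero_mul, zero_mul, h00']
    · obtain ⟨g, hg⟩ := W5.kk E (Units.mk0 k hk)
      have h2 := hT hg s w
      rw [Units.val_one, one_mul, map_one, one_mul, hδ1, zero_add] at h2
      exact h2
  have hk1 : ∀ (k : B.K) s w, δ ((k : F) * s) w = δ k (B.s s * w) + (k : F) * δ s w := by
    intro k s w
    by_cases hk : k = 0
    · rw [hk]; change δ (0 * s) w = δ 0 (B.s s * w) + 0 * δ s w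
      rw [zero_mul, zero_mul, h00, h00, add_zero]
    · obtain ⟨g, hg⟩ := W5.k1 E (Units.mk0 k hk)
      have h2 := hT hg s w
      rw [Units.val_one, one_mul, one_mul, mul_one] at h2
      have h3 : B.s (((Units.mk0 (k : F) (fun h => hk (Subtype.ext h)) : Fˣ)) : F) = (k : F) := B.s_K k
      change δ ((k : F) * s) w = δ k (B.s s * w) + B.s (k : F) * δ s w at h2
      rw [B.s_K] at h2
      exact h2
  obtain ⟨a, ha, ha3⟩ := exists_norm B h0 h1
  have ha1 : (a : F) ≠ 1 := by intro h; apply ha3; rw [h, one_pow]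
  obtain ⟨g, -, hg⟩ := W5.a1 E ha
  have hz := delta_zero B hadd1 hadd2 hkk hk1 (a := (a : F)) (b := (a : F)⁻¹) (mul_inv_cancel₀ a.ne_zero)
    (s_norm ha) ha1 (fun s w => by
      have h2 := hT hg s w
      rw [Units.val_mul, Units.val_inv_eq_inv_val, s_norm ha] at h2
      rw [h2]; ring) s w
  rw [hδ, hz, sp_zero, add_zero]

end Cfsg.Agent.StdRank2.SC.Five
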