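import Cfsg.Agent.StdRank2.SC.FiveFS

/-!
# Structure constants of `U₅(q)`: pure representatives `rho i u ∈ P`, `sig i u ∈ R`

`h' = hh a 1`, `a` of norm one, `φ g = [h', g]`, `rho i u = φ (pe i ((a⁻³ + 1)⁻¹ u))`, `sig i u = na (rho i u) na⁻¹`.
`killC`, `killZ` : equivariant biadditive functions vanish.
-/

set_option autoImplicit false
set_option linter.unusedSectionVars false

namespace Cfsg.Agent.StdRank2.SC.Five

open Subgroup Cfsg.Agent.StdRank2.UFour Cfsg.Agent.StdRank2.UFive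
open Cfsg.Agent.StdRank2.SC.Eps (lt tr_lt)

/-! ### Square roots -/

section Sqrt

variable {F : Type*} [Field F] [CharP F 2]

theorem sq_inj {x y : F} (h : x * x = y * y) : x = y := by
  have h2 : (x + y) * (x + y) = 0 := by
    have e1 := Bar.add_self (x * y)
    have e2 := Bar.add_self (y * y)
    linear_combination h + e1 + e2
  have h3 := mul_self_eq_zero.1 h2
  have h4 := Bar.add_self y
  exact add_right_cancel (h3.trans h4.symm)

theorem exists_rt [Finite F] : ∃ r : F → F, ∀ x, r x * r x = x := by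
  have h1 : Function.Injective (fun x : F => x * x) := fun x y h => sq_inj h
  have h2 : Function.Surjective (fun x : F => x * x) := Finite.surjective_of_injective h1
  choose r hr using h2
  exact ⟨r, hr⟩

end Sqrt

variable {F : Type*} [Field F] [CharP F 2] {B : Bar F} {G : Type*} [Group G]
variable {E : UFive.Env B G}

section Kill

variable {f : F → F → F} (hadd1 : ∀ s s' u, f (s + s') u = f s u + f s' u)
  (hadd2 : ∀ s u u', f s (u + u') = f s u + f s u')
include hadd1 hadd2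

theorem killC [Finite F] (hT : ∀ {g : G} {μ : Fˣ} {ν : B.Kˣ} {ω : Fˣ}, W5 E g μ ν ω → ∀ s u,
    f (μ * s) (ω * u) = μ * ((ν : B.K) : F) * f s u) (s u : F) : f s u = 0 := by
  obtain ⟨r, hr⟩ := exists_rt (F := F)
  obtain ⟨a, ha⟩ := exists_Na E.toWEnv
  obtain ⟨g0, -, hg0⟩ := W5.a1 E ha.nm
  have hane : (a : F) ≠ 0 := a.ne_zero
  have hradd : ∀ x y, r (x + y) = r x + r y := by
    intro x y
    refine sq_inj ?_
    have h1 := hr x
    have h2 := hr y
    have h3 := hr (x + y)
    have h4 := Bar.add_self (r x * r y)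
    linear_combination h3 - h1 - h2 - h4
  have hrmul : ∀ x y, r (x * y) = r x * r y := by
    intro x y
    refine sq_inj ?_
    rw [hr, mul_mul_mul_comm, hr, hr]
  have hrK : ∀ k : B.K, B.s (r k) = r k := by
    intro k
    refine sq_inj ?_
    rw [← map_mul, hr, B.s_K]
  have h0 : ∀ u, f 0 u = 0 := fun u => zero_of_add (f := fun x => f x u) (fun x y => hadd1 x y u)
  have h0' : ∀ s, f s 0 = 0 := fun s => zero_of_add (hadd2 s)
  have hk1 : ∀ (k : B.K) s u, f ((k : F) * s) u = (k : F) * f s u := by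
    intro k s u
    by_cases hk : k = 0
    · rw [hk]; change f (0 * s) u = 0 * f s u
      rw [zero_mul, zero_mul, h0]
    · obtain ⟨g, hg⟩ := W5.k1 E (Units.mk0 k hk)
      have h2 := hT hg s u
      rw [Units.val_one, one_mul, Units.val_one, B.K.coe_one, mul_one] at h2
      exact h2
  have hk2 : ∀ (k : B.K) s u, f s ((k : F) * u) = (k : F) * k * f s u := by
    intro k s u
    by_cases hk : k = 0
    · rw [hk]; change f s (0 * u) = 0 * 0 * f s u
      rw [zero_mul, zero_mul, zero_mul, h0']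
    · obtain ⟨g, hg⟩ := W5.kk E (Units.mk0 k hk)
      have h2 := hT hg s u
      rw [Units.val_one, one_mul, one_mul] at h2
      exact h2
  have key := bil_zero B (g := fun s v => f s (r v)) (fun x x' y => hadd1 x x' (r y))
    (fun x y y' => by rw [hradd, hadd2]) (fun k x y => hk1 k x (r y))
    (fun k x y => by
      have h1 := hk2 ⟨r k, hrK k⟩ x (r y)
      change f x (r k * r y) = r k * r k * f x (r y) at h1
      rw [← hrmul, hr] at h1
      exact h1)
    (l := (a : F)) (m := (a : F)⁻¹ * (a : F)⁻¹ * ((a : F)⁻¹ * (a : F)⁻¹)) (n := (a : F))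
    (fun x y => by
      have h1 := hT hg0 x (r y)
      rw [Units.val_mul, Units.val_inv_eq_inv_val, Units.val_one, B.K.coe_one, mul_one] at h1
      have h2 : r ((a : F)⁻¹ * (a : F)⁻¹ * ((a : F)⁻¹ * (a : F)⁻¹) * y) = (a : F)⁻¹ * (a : F)⁻¹ * r y := by
        rw [hrmul]
        congr 1
        exact sq_inj (hr _)
      rw [h2]; exact h1)
    (by
      intro h; apply ha.four; field_simp at h; linear_combination -h)
    (by
      intro h; apply ha.six; rw [ha.s] at h; field_simp at h; linear_combination -h)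
    (by
      intro h; apply ha.four
      rw [map_mul, map_mul, ha.s'] at h
      have h3 : (a : F) * (a * a * (a * a)) = a * 1 := by rw [mul_one]; linear_combination h
      exact mul_left_cancel₀ hane h3)
    (by
      intro h; apply ha.two
      rw [map_mul, map_mul, ha.s', ha.s] at h
      have h3 : (a : F) * (a * a) = a * 1 := by
        rw [mul_one]; nth_rewrite 4 [← h]; field_simp
      exact mul_left_cancel₀ hane h3)
    s (u * u)
  have h5 : r (u * u) = u := sq_inj (hr _)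
  simpa [h5] using key

theorem killZ [Finite F] (hT : ∀ {g : G} {μ : Fˣ} {ν : B.Kˣ} {ω : Fˣ}, W5 E g μ ν ω → ∀ s u,
    f (μ * s) (ω * u) = (μ * B.s μ) * ((ν : B.K) : F) * f s u) (s u : F) : f s u = 0 := by
  obtain ⟨r, hr⟩ := exists_rt (F := F)
  obtain ⟨a, ha⟩ := exists_Na E.toWEnv
  obtain ⟨g0, -, hg0⟩ := W5.a1 E ha.nm
  have hane : (a : F) ≠ 0 := a.ne_zero
  have hradd : ∀ x y, r (x + y) = r x + r y := by
    intro x y
    refine sq_inj ?_
    have h1 := hr x
    have h2 := hr y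
    have h3 := hr (x + y)
    have h4 := Bar.add_self (r x * r y)
    linear_combination h3 - h1 - h2 - h4
  have hrmul : ∀ x y, r (x * y) = r x * r y := by
    intro x y
    refine sq_inj ?_
    rw [hr, mul_mul_mul_comm, hr, hr]
  have hrK : ∀ k : B.K, B.s (r k) = r k := by
    intro k
    refine sq_inj ?_
    rw [← map_mul, hr, B.s_K]
  have h0 : ∀ u, f 0 u = 0 := fun u => zero_of_add (f := fun x => f x u) (fun x y => hadd1 x y u)
  have h0' : ∀ s, f s 0 = 0 := fun s => zero_of_add (hadd2 s)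
  have hk1 : ∀ (k : B.K) s u, f ((k : F) * s) u = (k : F) * k * f s u := by
    intro k s u
    by_cases hk : k = 0
    · rw [hk]; change f (0 * s) u = 0 * 0 * f s u
      rw [zero_mul, zero_mul, zero_mul, h0]
    · obtain ⟨g, hg⟩ := W5.k1 E (Units.mk0 k hk)
      have h2 := hT hg s u
      rw [Units.val_one, one_mul, Units.val_one, B.K.coe_one, mul_one] at h2
      change f ((k : F) * s) u = (k : F) * B.s (k : F) * f s u at h2
      rwa [B.s_K] at h2
  have hk2 : ∀ (k : B.K) s u, f s ((k : F) * u) = (k : F) * k * f s u := by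
    intro k s u
    by_cases hk : k = 0
    · rw [hk]; change f s (0 * u) = 0 * 0 * f s u
      rw [zero_mul, zero_mul, zero_mul, h0']
    · obtain ⟨g, hg⟩ := W5.kk E (Units.mk0 k hk)
      have h2 := hT hg s u
      rw [Units.val_one, one_mul, map_one, one_mul, one_mul] at h2
      exact h2
  have key := bil_zero B (g := fun s v => f (r s) (r v)) (fun x x' y => by rw [hradd, hadd1])
    (fun x y y' => by rw [hradd, hadd2])
    (fun k x y => by
      have h1 := hk1 ⟨r k, hrK k⟩ (r x) (r y)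
      change f (r k * r x) (r y) = r k * r k * f (r x) (r y) at h1
      rw [← hrmul, hr] at h1
      exact h1)
    (fun k x y => by
      have h1 := hk2 ⟨r k, hrK k⟩ (r x) (r y)
      change f (r x) (r k * r y) = r k * r k * f (r x) (r y) at h1
      rw [← hrmul, hr] at h1
      exact h1)
    (l := (a : F) * a) (m := (a : F)⁻¹ * (a : F)⁻¹ * ((a : F)⁻¹ * (a : F)⁻¹)) (n := 1)
    (fun x y => by
      have h1 := hT hg0 (r x) (r y)
      rw [Units.val_mul, Units.val_inv_eq_inv_val, Units.val_one, B.K.coe_one, mul_one, ha.s,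
        mul_inv_cancel₀ hane] at h1
      have h2 : r ((a : F)⁻¹ * (a : F)⁻¹ * ((a : F)⁻¹ * (a : F)⁻¹) * y) = (a : F)⁻¹ * (a : F)⁻¹ * r y := by
        rw [hrmul]
        congr 1
        exact sq_inj (hr _)
      have h3 : r ((a : F) * a * x) = a * r x := by
        rw [hrmul]
        congr 1
        exact sq_inj (hr _)
      rw [h2, h3]; exact h1)
    (by
      intro h; apply ha.two; field_simp at h; linear_combination -h)
    (by
      intro h; apply ha.six; rw [map_mul, ha.s] at h; field_simp at h; linear_combination -h)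
    (by
      intro h; apply ha.six
      rw [map_mul, map_mul, ha.s'] at h
      linear_combination h)
    (by
      intro h; apply ha.two
      rw [map_mul, map_mul, map_mul, ha.s', ha.s] at h
      field_simp at h
      linear_combination h)
    (s * s) (u * u)
  have h5 : r (u * u) = u := sq_inj (hr _)
  have h6 : r (s * s) = s := sq_inj (hr _)
  simpa [h5, h6] using key

end Kill

/-! ### The element `h'` -/

variable (E) in
/-- the element `h'`. -/
structure Hp where
  a : Fˣ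
  na : Na B a
  h : G
  w : W5 E h a 1 (a⁻¹ * a⁻¹)

theorem exists_Hp : Nonempty (Hp E) := by
  obtain ⟨a, ha⟩ := exists_Na E.toWEnv
  obtain ⟨g, -, hg⟩ := W5.a1 E ha.nm
  exact ⟨⟨a, ha, g, hg⟩⟩

variable {Gr : UFive.Grown E}

namespace Hp

variable (H : Hp E)

/-- the normalising constant. -/
noncomputable def k0 : F := ((H.a : F)⁻¹ * (H.a : F)⁻¹ * (H.a : F)⁻¹ + 1)⁻¹

theorem k0_spec : ((H.a : F)⁻¹ * (H.a : F)⁻¹ * (H.a : F)⁻¹ + 1) * H.k0 = 1 := by
  apply mul_inv_cancel₀
  intro h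
  apply H.na.three
  have hane : (H.a : F) ≠ 0 := H.a.ne_zero
  have h2 : (H.a : F)⁻¹ * (H.a : F)⁻¹ * (H.a : F)⁻¹ = 1 := by
    have h3 := Bar.add_self (1 : F)
    exact add_right_cancel (h.trans h3.symm)
  field_simp at h2
  linear_combination -h2

/-- `φ`. -/
def phi (g : G) : G := H.h * g * H.h⁻¹ * g⁻¹

variable {H}

theorem comm_Z {r : G} (hr : r ∈ Gr.Z) : Commute H.h r :=
  r_T_comm Gr.rootZ H.w.mem (fun c => by
    have := H.w.z c
    rw [H.na.nm, Units.val_one, one_mul, one_mul] at this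
    exact WEnv.conj_eq_iff.1 this) hr

theorem phi_mem {g : G} (hg : g ∈ Gr.P) : H.phi g ∈ Gr.P :=
  Gr.P.mul_mem (T_P H.w.mem hg) (Gr.P.inv_mem hg)

theorem phi_congr {g g' : G} (hg : g ∈ Gr.P) (hg' : g' ∈ Gr.P) (h : tv Gr g = tv Gr g') :
    H.phi g = H.phi g' := by
  obtain ⟨r, hr, rfl⟩ := (tv_eq_iff hg hg').1 h
  have h2 : Commute r (H.phi g') := cZP hr (Gr.P.mul_mem (T_P H.w.mem hg') (Gr.P.inv_mem hg'))
  calc H.phi (r * g') = (H.h * r * H.h⁻¹) * (H.phi g') * r⁻¹ := by unfold phi; group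
    _ = _ := by rw [(comm_Z hr).eq, mul_inv_cancel_right, h2.eq, mul_inv_cancel_right]

theorem phi_mul {g g' : G} (hg : g ∈ Gr.P) (hg' : g' ∈ Gr.P) :
    H.phi (g * g') = H.phi g * H.phi g' * pi g (H.phi g') := by
  have h1 := phi_mem (H := H) hg'
  have hp := pi_mem hg h1
  have e : g * H.phi g' * g⁻¹ = pi g (H.phi g') * H.phi g' := pi_spec _ _
  calc H.phi (g * g') = H.phi g * (g * H.phi g' * g⁻¹) := by unfold phi; group
    _ = _ := by rw [e, (cZP hp h1).eq]; group

theorem phi_conj {k : G} (hk : Commute k H.h) (g : G) : H.phi (k * g * k⁻¹) = k * H.phi g * k⁻¹ := by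
  have h1 : k⁻¹ * H.h = H.h * k⁻¹ := hk.inv_left.eq
  have h2 : k⁻¹ * H.h⁻¹ = H.h⁻¹ * k⁻¹ := hk.inv_left.inv_right.eq
  calc H.phi (k * g * k⁻¹) = (H.h * k) * g * (k⁻¹ * H.h⁻¹) * k * g⁻¹ * k⁻¹ := by unfold phi; group
    _ = _ := by rw [← hk.eq, h2]; unfold phi; group

end Hp

variable (P : Eps (ag Gr)) (H : Hp E)

/-- the pure representatives in `P`. -/
noncomputable def rho (i : Bool) (u : F) : G := H.phi (pe P i (H.k0 * u))

/-- the pure representatives in `R`. -/
noncomputable def sig (i : Bool) (u : F) : G := E.na * rho P H i u * E.na⁻¹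

variable {P H}

theorem rho_mem (i : Bool) (u : F) : rho P H i u ∈ Gr.P := Hp.phi_mem (pe_mem _ _)
theorem sig_mem (i : Bool) (u : F) : sig P H i u ∈ Gr.R := na_P (rho_mem _ _)

theorem na_sig (i : Bool) (u : F) : E.na * sig P H i u * E.na⁻¹ = rho P H i u := na_na _
theorem na_rho (i : Bool) (u : F) : E.na * rho P H i u * E.na⁻¹ = sig P H i u := rfl

section FinG

variable [Finite G]

theorem tv_rho (i : Bool) (u : F) : tv Gr (rho P H i u) = vi P i u := by
  have h0 := pe_mem (P := P) i (H.k0 * u)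
  rw [rho, Hp.phi, tv_mul (T_P H.w.mem h0) (Gr.P.inv_mem h0), tv_inv h0, tv_T_pe H.w, tv_pe, tv_pe]
  have h2 : -vi P i (H.k0 * u) = vi P i (H.k0 * u) := neg_eq_of_add_eq_zero_left (V_two _)
  rw [h2, ← vi_add]
  congr 1
  rw [Units.val_mul, Units.val_inv_eq_inv_val, H.na.s]
  have := H.k0_spec
  linear_combination u * this

theorem tr'_sig (i : Bool) (u : F) : tr' Gr (sig P H i u) = vi P i u := by
  rw [tr', na_sig, tv_rho]

theorem tv_rho_pe (i : Bool) (u : F) : tv Gr (rho P H i u) = tv Gr (pe P i u) := tv_rho i u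
theorem tr'_sig_re (i : Bool) (u : F) : tr' Gr (sig P H i u) = tr' Gr (re P i u) := by
  rw [tr'_sig, tr'_re]

theorem rho_add (i : Bool) (u u' : F) :
    rho P H i (u + u') = rho P H i u * rho P H i u' * pi (pe P i (H.k0 * u)) (pe P i u') := by
  have h0 := pe_mem (P := P) i (H.k0 * u)
  have h0' := pe_mem (P := P) i (H.k0 * u')
  have h1 : rho P H i (u + u') = H.phi (pe P i (H.k0 * u) * pe P i (H.k0 * u')) := by
    refine Hp.phi_congr (pe_mem i _) (Gr.P.mul_mem h0 h0') ?_
    rw [mul_add, tv_pe_add]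
  rw [h1, Hp.phi_mul h0 h0']
  change rho P H i u * rho P H i u' * pi (pe P i (H.k0 * u)) (rho P H i u') = _
  rw [pi_congr_right (rho_mem i u') (pe_mem i u') h0 (tv_rho_pe i u')]

theorem rho_T {g : G} {μ : Fˣ} {ν : B.Kˣ} {ω : Fˣ} (hg : W5 E g μ ν ω) (i : Bool) (u : F) :
    g * rho P H i u * g⁻¹ = rho P H i (B.s μ * ω * u) := by
  have hc : Commute g H.h := E.T_comm g hg.mem H.h H.w.mem
  rw [rho, ← Hp.phi_conj hc, rho]
  refine Hp.phi_congr (T_P hg.mem (pe_mem _ _)) (pe_mem _ _) ?_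
  rw [tv_T_pe hg]
  congr 2; ring

theorem rho_t (i : Bool) (u : F) : E.t * rho P H i u * E.t⁻¹ = rho P H (!i) u := by
  have hc : Commute E.t H.h := E.T_t H.h H.w.mem
  rw [rho, ← Hp.phi_conj hc, rho]
  refine Hp.phi_congr (t_P (pe_mem _ _)) (pe_mem _ _) ?_
  rw [tv_t_pe]

theorem sig_T {g : G} {μ : Fˣ} {ν : B.Kˣ} {ω : Fˣ} (hg : W5 E g μ ν ω) (i : Bool) (u : F) :
    g * sig P H i u * g⁻¹ = sig P H i (ω * u) := by
  obtain ⟨μ', ν', ω', h⟩ := exists_W5 ((E.na_T g).1 hg.mem)
  have h1 := rho_T (P := P) (H := H) h i u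
  have h2 : B.s (μ' : F) * ω' = ω := by
    have h1 := h.w1 (tp B 1)
    have h2 : (E.na * g * E.na⁻¹) * E.p1 (tp B 1) * (E.na * g * E.na⁻¹)⁻¹ = E.p1 (Tp.sm ω (tp B 1)) := by
      have e1 : E.na⁻¹ * E.p1 (tp B 1) * E.na = E.p2 (tp B 1) := by
        rw [na_inv, ← E.na_1, na_inv]
      calc (E.na * g * E.na⁻¹) * E.p1 (tp B 1) * (E.na * g * E.na⁻¹)⁻¹
          = E.na * (g * (E.na⁻¹ * E.p1 (tp B 1) * E.na) * g⁻¹) * E.na⁻¹ := by group
        _ = _ := by rw [e1, hg.w2, E.na_2]
    have h3 := congrArg Tp.w (p1_inj (h1.symm.trans h2))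
    simpa using h3
  rw [h2] at h1
  rw [sig, sig, ← h1]
  have e : E.na * (E.na * g * E.na⁻¹ * rho P H i u * (E.na * g * E.na⁻¹)⁻¹) * E.na⁻¹ =
      (E.na * E.na) * g * (E.na⁻¹ * rho P H i u * E.na) * g⁻¹ * (E.na * E.na)⁻¹ := by group
  rw [e, E.na_sq, na_inv]; group

theorem sig_t (i : Bool) (u : F) : E.t * sig P H i u * E.t⁻¹ = sig P H (!i) u := by
  rw [sig, ← t_na_conj, rho_t]; rfl

theorem ga_rho (i j : Bool) (u v : F) : ga (rho P H i u) (sig P H j v) = ga (pe P i u) (re P j v) := by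
  rw [ga_congr (rho_mem i u) (pe_mem i u) (sig_mem j v) (tv_rho_pe i u),
    ga_congr' (pe_mem i u) (sig_mem j v) (re_mem j v) (tr'_sig_re j v)]

theorem pi_rho (i j : Bool) (u v : F) : pi (rho P H i u) (rho P H j v) = pi (pe P i u) (pe P j v) := by
  rw [pi_congr (rho_mem i u) (pe_mem i u) (rho_mem j v) (tv_rho_pe i u),
    pi_congr_right (rho_mem j v) (pe_mem j v) (pe_mem i u) (tv_rho_pe j v)]

theorem tal_a_sig (i j : Bool) (s u : F) (h : yc P = 0) :
    tal Gr (P.a i s) (sig P H j u) = if i = j then vi P i (B.s s * u) else 0 := by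
  rw [tal_congr (a_memA i s) (sig_mem j u) (re_mem j u) (tr'_sig_re j u), tal_a_re' i j s u h]

end FinG

/-! ### `na` on `B`, `Z` -/

theorem rule6 {b : G} (hb : b ∈ Gr.Bb) : (ag Gr).tz (E.xa 1) b = E.na * b * E.na⁻¹ := by
  rw [← rule4 (B_le_R hb), (al_B (xa_mem 1) hb).1]

end Cfsg.Agent.StdRank2.SC.Five
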