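import Cfsg.Agent.StdRank2.SC.Psi

/-!
# Structure constants, IV: eigenvectors of `e`; the `Z`-component `tz`

`Eps D` : an eigenvalue `e` of `e` on `A`, `ep i = e` or `e + 1`; `D.a i s`, `D.c i s` the eigenvectors in `A`, `C`;
`bb k k' = xb k · eb k'`.
-/

set_option autoImplicit false
set_option linter.unusedSectionVars false

namespace Cfsg.Agent.StdRank2.SC

open Subgroup Cfsg.Agent.StdRank2.UFour

variable {F : Type*} [Field F] [CharP F 2] {B : Bar F} {G : Type*} [Group G]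
variable {E : WEnv B G}

/-- an additive map with `κ (μ s) = nm μ · κ s` vanishes. -/
theorem quad_zero (B : Bar F) {κ : F → F} (hadd : ∀ s s', κ (s + s') = κ s + κ s')
    (h : ∀ μ : Fˣ, ∀ s, κ (μ * s) = ((B.nm μ : B.K) : F) * κ s) (s : F) : κ s = 0 := by
  obtain ⟨x, hx⟩ := B.ne
  have hx0 : x ≠ 0 := by rintro rfl; exact hx (map_zero _)
  have hx1 : 1 + x ≠ 0 := by
    intro h1
    apply hx
    have h2 : x = 1 := by
      have := Bar.add_self (1 : F)
      linear_combination h1 - this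
    rw [h2, map_one]
  have h1 := h (Units.mk0 x hx0) s
  have h2 := h (Units.mk0 (1 + x) hx1) s
  rw [Units.val_mk0] at h1 h2
  rw [add_mul, one_mul, hadd, h1] at h2
  have h3 : (((B.nm (1 + x) : B.K) : F)) = 1 + ((B.nm x : B.K) : F) + (x + B.s x) := by
    change (1 + x) * B.s (1 + x) = 1 + x * B.s x + (x + B.s x)
    rw [map_add, map_one]; ring
  rw [h3] at h2
  have h4 : (x + B.s x) * κ s = 0 := by
    linear_combination -h2
  rcases mul_eq_zero.1 h4 with h5 | h5
  · exfalso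
    apply hx
    have := Bar.add_self x
    linear_combination h5 - this
  · exact h5

namespace AGrown

variable {D : AGrown E}

/-! ### The `Z`-component of `[a, b]` -/

variable (D) in
/-- `[a, b] = tz · th`. -/
noncomputable def tz (a b : G) : G := a * b * a⁻¹ * b⁻¹ * (D.th a b)⁻¹

theorem tz_spec (a b : G) : a * b * a⁻¹ = D.tz a b * D.th a b * b := by unfold tz; group

theorem tz_mem {a b : G} (ha : a ∈ D.A) (hb : b ∈ D.Bb) : D.tz a b ∈ D.Z := by
  obtain ⟨-, r, hr, h⟩ := th_spec ha hb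
  unfold tz
  rw [h]
  have : r * D.th a b * b * b⁻¹ * (D.th a b)⁻¹ = r := by group
  rw [this]; exact hr

theorem tz_eq {a b r : G} (h : a * b * a⁻¹ = r * D.th a b * b) : D.tz a b = r := by
  unfold tz; rw [h]; group

theorem tz_mul_left {a a' b : G} (ha : a ∈ D.A) (ha' : a' ∈ D.A) (hb : b ∈ D.Bb) :
    D.tz (a * a') b = D.tz a b * D.tz a' b * ph a (D.th a' b) := by
  have h1 := tz_mem ha hb
  have h2 := tz_mem ha' hb
  have hc := th_mem ha hb
  have hc' := th_mem ha' hb
  have hp := ph_mem ha hc'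
  have hz : D.tz a' b * ph a (D.th a' b) * D.tz a b = D.tz a b * D.tz a' b * ph a (D.th a' b) := by
    rw [mul_assoc, (cZZ hp h1).eq, ← mul_assoc, (cZZ h2 h1).eq]
  refine tz_eq ?_
  rw [th_mul_left ha ha' hb]
  calc a * a' * b * (a * a')⁻¹ = a * (a' * b * a'⁻¹) * a⁻¹ := by group
    _ = (a * D.tz a' b * a⁻¹) * (a * D.th a' b * a⁻¹) * (a * b * a⁻¹) := by
        rw [tz_spec (D := D) a' b]; group
    _ = D.tz a' b * (ph a (D.th a' b) * D.th a' b) * (D.tz a b * D.th a b * b) := by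
        rw [← (cZA h2 ha).eq, mul_inv_cancel_right, ph_spec, tz_spec (D := D) a b]
    _ = D.tz a' b * ph a (D.th a' b) * (D.th a' b * D.tz a b) * D.th a b * b := by group
    _ = D.tz a' b * ph a (D.th a' b) * D.tz a b * (D.th a' b * D.th a b) * b := by
        rw [← (cZC h1 hc').eq]; group
    _ = _ := by
        rw [(cCC hc' hc).eq, hz]

theorem tz_mul_right {a b b' : G} (ha : a ∈ D.A) (hb : b ∈ D.Bb) (hb' : b' ∈ D.Bb) :
    D.tz a (b * b') = D.tz a b * D.tz a b' := by
  have h2 := tz_mem ha hb'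
  have hc := th_mem ha hb
  have hc' := th_mem ha hb'
  refine tz_eq ?_
  rw [th_mul_right ha hb hb']
  calc a * (b * b') * a⁻¹ = (a * b * a⁻¹) * (a * b' * a⁻¹) := by group
    _ = D.tz a b * D.th a b * (b * D.tz a b') * D.th a b' * b' := by
        rw [tz_spec (D := D) a b, tz_spec (D := D) a b']; group
    _ = D.tz a b * (D.th a b * D.tz a b') * (b * D.th a b') * b' := by
        rw [← (cZB h2 hb).eq]; group
    _ = _ := by
        rw [← (cCB hc' hb).eq, ← (cZC h2 hc).eq]; group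

theorem tz_T {g a b : G} (hg : g ∈ E.T) (ha : a ∈ D.A) (hb : b ∈ D.Bb) :
    D.tz (g * a * g⁻¹) (g * b * g⁻¹) = g * D.tz a b * g⁻¹ := by
  refine tz_eq ?_
  rw [th_T hg ha hb]
  calc g * a * g⁻¹ * (g * b * g⁻¹) * (g * a * g⁻¹)⁻¹ = g * (a * b * a⁻¹) * g⁻¹ := by group
    _ = _ := by rw [tz_spec (D := D) a b]; group

end AGrown

/-- an eigenvalue of the operator `e`. -/
structure Eps (D : AGrown E) where
  e : F
  he : e * e + e = D.N
  hs : B.s e = e ∨ B.s e = e + 1

theorem exists_Eps [Finite G] (D : AGrown E) : Nonempty (Eps D) := by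
  have := finite_F E
  obtain ⟨ε, h1, h2⟩ := exists_eps B D.N_mem
  exact ⟨⟨ε, h1, h2⟩⟩

namespace Eps

variable {D : AGrown E} (P : Eps D)

/-- the two eigenvalues. -/
def ep (i : Bool) : F := bif i then P.e + 1 else P.e

theorem ep_not (i : Bool) : P.ep (!i) = P.ep i + 1 := by
  cases i
  · rfl
  · change P.e = P.e + 1 + 1
    rw [add_assoc, Bar.add_self, add_zero]

theorem ep_sq (i : Bool) : P.ep i * P.ep i + P.ep i = D.N := by
  cases i
  · exact P.he
  · change (P.e + 1) * (P.e + 1) + (P.e + 1) = D.N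
    have h1 := P.he
    have h2 := Bar.add_self (P.e + 1)
    linear_combination h1 + h2

theorem ep_ne (i : Bool) : P.ep i ≠ P.ep (!i) := by
  rw [ep_not]
  intro h
  exact one_ne_zero (left_eq_add.1 h)

/-- the eigenvectors. -/
def pv (i : Bool) (s : F) : F × F := ((P.ep i + 1) * s, s)

theorem pv_add (i : Bool) (s s' : F) : P.pv i (s + s') = P.pv i s + P.pv i s' :=
  Prod.ext (mul_add _ _ _) rfl

theorem pv_zero (i : Bool) : P.pv i 0 = 0 := Prod.ext (mul_zero _) rfl

theorem sc_pv (i : Bool) (x s : F) : AGrown.sc x (P.pv i s) = P.pv i (x * s) :=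
  Prod.ext (mul_left_comm _ _ _) rfl

theorem eop_pv (i : Bool) (s : F) : D.eop (P.pv i s) = P.pv i (P.ep i * s) := by
  refine Prod.ext ?_ ?_
  · change D.N * s = (P.ep i + 1) * (P.ep i * s)
    rw [← P.ep_sq i]; ring
  · change (P.ep i + 1) * s + s = P.ep i * s
    have := Bar.add_self s
    linear_combination this

theorem t_pv (i : Bool) (s : F) : ((P.pv i s).1 + (P.pv i s).2, (P.pv i s).2) = P.pv (!i) s := by
  refine Prod.ext ?_ rfl
  change (P.ep i + 1) * s + s = (P.ep (!i) + 1) * s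
  rw [ep_not]; ring

theorem exists_pv (p : F × F) : ∃ s s', p = P.pv false s + P.pv true s' := by
  refine ⟨p.1 + P.e * p.2, p.2 + (p.1 + P.e * p.2), Prod.ext ?_ ?_⟩
  · change p.1 = (P.e + 1) * (p.1 + P.e * p.2) + (P.e + 1 + 1) * (p.2 + (p.1 + P.e * p.2))
    have h1 := Bar.add_self (P.e * p.1 + P.e * P.e * p.2 + P.e * p.2 + (p.2 + (p.1 + P.e * p.2)))
    linear_combination -h1
  · change p.2 = p.1 + P.e * p.2 + (p.2 + (p.1 + P.e * p.2))
    have h1 := Bar.add_self (p.1 + P.e * p.2)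
    linear_combination -h1

theorem pv_uniq {s s' u u' : F} (h : P.pv false s + P.pv true s' = P.pv false u + P.pv true u') :
    s = u ∧ s' = u' := by
  have h1 : (P.e + 1) * s + (P.e + 1 + 1) * s' = (P.e + 1) * u + (P.e + 1 + 1) * u' :=
    congrArg Prod.fst h
  have h2 : s + s' = u + u' := congrArg Prod.snd h
  have h3 := Bar.add_self s'
  have h4 := Bar.add_self u'
  have h5 : s = u := by linear_combination h1 - P.e * h2 - h3 + h4
  refine ⟨h5, ?_⟩
  rw [h5] at h2
  exact add_left_cancel h2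

theorem pv_base (x : F) : (x, (0 : F)) = P.pv false x + P.pv true x := by
  refine Prod.ext ?_ ?_
  · change x = (P.e + 1) * x + (P.e + 1 + 1) * x
    have h1 := Bar.add_self (P.e * x + x)
    linear_combination -h1
  · exact (Bar.add_self x).symm

/-- root groups of `A`. -/
noncomputable def a (i : Bool) (s : F) : G := D.av (P.pv i s)

/-- root groups of `C`. -/
noncomputable def c (i : Bool) (s : F) : G := D.cv (P.pv i s)

/-- the elements of `B`. -/
noncomputable def bb (_ : Eps D) (k k' : B.K) : G := E.xb k * D.eb k'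

variable {P}

theorem a_mem (i : Bool) (s : F) : P.a i s ∈ D.A := AGrown.av_mem _
theorem c_mem (i : Bool) (s : F) : P.c i s ∈ D.C := AGrown.cv_mem _
theorem bb_mem (k k' : B.K) : P.bb k k' ∈ D.Bb := D.Bb.mul_mem (AGrown.xb_mem k) (AGrown.eb_mem k')

theorem a_add (i : Bool) (s s' : F) : P.a i (s + s') = P.a i s * P.a i s' := by
  unfold a; rw [pv_add, AGrown.av_add]

theorem c_add (i : Bool) (s s' : F) : P.c i (s + s') = P.c i s * P.c i s' := by
  unfold c; rw [pv_add, AGrown.cv_add]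

theorem bb_add (k k' l l' : B.K) : P.bb (k + l) (k' + l') = P.bb k k' * P.bb l l' := by
  unfold bb
  rw [E.xb_add, AGrown.eb_add]
  have h := AGrown.cBB (D := D) (AGrown.xb_mem l) (AGrown.eb_mem k')
  calc E.xb k * E.xb l * (D.eb k' * D.eb l') = E.xb k * (E.xb l * D.eb k') * D.eb l' := by group
    _ = _ := by rw [h.eq]; group

theorem a_zero (i : Bool) : P.a i 0 = 1 := WEnv.hom_zero (a_add i)
theorem c_zero (i : Bool) : P.c i 0 = 1 := WEnv.hom_zero (c_add i)

theorem exists_a {g : G} (hg : g ∈ D.A) : ∃ s s', g = P.a false s * P.a true s' := by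
  obtain ⟨p, rfl⟩ := AGrown.exists_av hg
  obtain ⟨s, s', h⟩ := P.exists_pv p
  exact ⟨s, s', by rw [h, AGrown.av_add]; rfl⟩

theorem exists_c {g : G} (hg : g ∈ D.C) : ∃ s s', g = P.c false s * P.c true s' := by
  obtain ⟨p, rfl⟩ := AGrown.exists_cv hg
  obtain ⟨s, s', h⟩ := P.exists_pv p
  exact ⟨s, s', by rw [h, AGrown.cv_add]; rfl⟩

theorem exists_b {g : G} (hg : g ∈ D.Bb) : ∃ k k', g = P.bb k k' := AGrown.B_form hg

theorem a_uniq {s s' u u' : F} (h : P.a false s * P.a true s' = P.a false u * P.a true u') :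
    s = u ∧ s' = u' := by
  unfold a at h
  rw [← AGrown.av_add, ← AGrown.av_add] at h
  exact P.pv_uniq (AGrown.av_inj h)

theorem c_uniq {s s' u u' : F} (h : P.c false s * P.c true s' = P.c false u * P.c true u') :
    s = u ∧ s' = u' := by
  unfold c at h
  rw [← AGrown.cv_add, ← AGrown.cv_add] at h
  exact P.pv_uniq (AGrown.cv_inj h)

theorem a_inj {i : Bool} {s u : F} (h : P.a i s = P.a i u) : s = u :=
  congrArg Prod.snd (AGrown.av_inj h)

theorem c_inj {i : Bool} {s u : F} (h : P.c i s = P.c i u) : s = u :=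
  congrArg Prod.snd (AGrown.cv_inj h)

theorem xa_eq (s : F) : E.xa s = P.a false s * P.a true s := by
  unfold a
  rw [← AGrown.av_add, ← P.pv_base]
  simp [AGrown.av, AGrown.ea_zero]

theorem xc_eq (s : F) : E.xc s = P.c false s * P.c true s := by
  unfold c
  rw [← AGrown.cv_add, ← P.pv_base]
  simp [AGrown.cv, AGrown.ec_zero]

theorem t_a (i : Bool) (s : F) : E.t * P.a i s * E.t⁻¹ = P.a (!i) s := by
  unfold a; rw [AGrown.t_av, P.t_pv]

theorem t_c (i : Bool) (s : F) : E.t * P.c i s * E.t⁻¹ = P.c (!i) s := by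
  unfold c; rw [AGrown.t_cv, P.t_pv]

theorem t_bb (k k' : B.K) : E.t * P.bb k k' * E.t⁻¹ = P.bb (k + k') k' := by
  unfold bb
  have ht : E.t * E.xb k * E.t⁻¹ = E.xb k := by rw [E.t_b, mul_inv_cancel_right]
  calc E.t * (E.xb k * D.eb k') * E.t⁻¹ = (E.t * E.xb k * E.t⁻¹) * (E.t * D.eb k' * E.t⁻¹) := by group
    _ = _ := by
        rw [ht, AGrown.t_eb, E.xb_add, ← (AGrown.cBB (D := D) (AGrown.xb_mem k') (AGrown.eb_mem k')).eq]
        group

theorem T_a {g : G} {μ : Fˣ} {ν : B.Kˣ} (hg : Wt E g μ ν) (i : Bool) (s : F) :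
    g * P.a i s * g⁻¹ = P.a i (μ * s) := by
  unfold a; rw [AGrown.T_av hg, P.sc_pv]

theorem T_c {g : G} {μ : Fˣ} {ν : B.Kˣ} (hg : Wt E g μ ν) (i : Bool) (s : F) :
    g * P.c i s * g⁻¹ = P.c i (μ * ((ν : B.K) : F) * s) := by
  unfold c; rw [AGrown.T_cv hg, P.sc_pv]

theorem T_b {g : G} {μ : Fˣ} {ν : B.Kˣ} (hg : Wt E g μ ν) (k k' : B.K) :
    g * P.bb k k' * g⁻¹ = P.bb (ν * k) (ν * k') := by
  unfold bb
  calc g * (E.xb k * D.eb k') * g⁻¹ = (g * E.xb k * g⁻¹) * (g * D.eb k' * g⁻¹) := by group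
    _ = _ := by rw [hg.b, AGrown.eb_T hg.mem hg.b]

theorem nb_a (i : Bool) (s : F) : D.nb * P.a i s * D.nb⁻¹ = P.c i s := AGrown.nb_av _
theorem nb_c (i : Bool) (s : F) : D.nb * P.c i s * D.nb⁻¹ = P.a i s := AGrown.nb_cv _

/-- the main relation. -/
theorem th_a_bb (i : Bool) (s : F) (k k' : B.K) :
    D.th (P.a i s) (P.bb k k') = P.c i (((k : F) + (k' : F) * P.ep i) * s) := by
  unfold a bb c
  rw [AGrown.th_av, P.eop_pv, P.sc_pv, P.sc_pv, ← P.pv_add]
  congr 2; ring

/-! ### Vanishing of the form -/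

theorem psi_vanish {i j : Bool} (h : B.s (P.ep j) ≠ P.ep i) (s s' : F) :
    D.psi (P.pv i s) (P.pv j s') = 1 := by
  have key : ∀ s, D.psi (P.pv i ((P.ep i + B.s (P.ep j)) * s)) (P.pv j s') = 1 := by
    intro s
    have h1 := AGrown.psi_e (D := D) (P.pv i s) (P.pv j s')
    rw [P.eop_pv, P.eop_pv, ← P.sc_pv j] at h1
    have h2 := AGrown.psi_bar (D := D) (B.s (P.ep j)) (P.pv i s) (P.pv j s')
    rw [B.invol, P.sc_pv] at h2
    rw [← h2] at h1
    rw [add_mul, P.pv_add, AGrown.psi_add_left, ← h1]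
    exact D.rootZ.sq _ (AGrown.psi_mem _ _)
  have h3 : P.ep i + B.s (P.ep j) ≠ 0 := by
    intro h4
    apply h
    have := Bar.add_self (P.ep i)
    linear_combination h4 - this
  have h5 := key ((P.ep i + B.s (P.ep j))⁻¹ * s)
  rwa [mul_inv_cancel_left₀ h3] at h5

theorem psi_move (i j : Bool) (s s' : F) :
    D.psi (P.pv i s) (P.pv j s') = D.psi (P.pv i (s * B.s s')) (P.pv j 1) := by
  have h2 := AGrown.psi_bar (D := D) (B.s s') (P.pv i s) (P.pv j 1)
  rw [B.invol, P.sc_pv, P.sc_pv, mul_one] at h2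
  rw [← h2, mul_comm]

theorem ph_a_c (i j : Bool) (s s' : F) : AGrown.ph (P.a i s) (P.c j s') = D.psi (P.pv i s) (P.pv j s') := rfl

/-- uniqueness of the coordinates in `B`. -/
theorem bb_uniq {k k' l l' : B.K} (h : P.bb k k' = P.bb l l') : k = l ∧ k' = l' := by
  have h1 : ∀ i, (k : F) + (k' : F) * P.ep i = l + (l' : F) * P.ep i := by
    intro i
    have h2 := th_a_bb (P := P) i 1 k k'
    rw [h, th_a_bb, mul_one, mul_one] at h2
    exact (c_inj h2).symm
  have h2 := h1 false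
  have h3 := h1 true
  have h4 : P.ep true = P.ep false + 1 := rfl
  rw [h4] at h3
  have h5 : (k' : F) = l' := by linear_combination h3 - h2
  have h6 : (k : F) = l := by
    rw [h5] at h2
    exact add_right_cancel h2
  exact ⟨Subtype.ext h6, Subtype.ext h5⟩

end Eps

end Cfsg.Agent.StdRank2.SC
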