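import Cfsg.Agent.StdRank2.SC.Eigen

/-!
# Structure constants, III: the form `psi`, `N ∈ K`, the two cases, eigenvectors

`av p = xa p.1 · ea p.2`, `cv p = xc p.1 · ec p.2`, `psi p q = [av p, cv q] ∈ Z`.
-/

set_option autoImplicit false
set_option linter.unusedSectionVars false

namespace Cfsg.Agent.StdRank2.SC

open Subgroup Cfsg.Agent.StdRank2.UFour

/-! ### Field lemmas -/

section Fld

variable {F : Type*} [Field F] [CharP F 2] (B : Bar F)

/-- `x ↦ x² + x`. -/
def asHom : B.K →+ B.K where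
  toFun x := x * x + x
  map_zero' := by simp
  map_add' x y := by
    have := B.K_add_self (x * y)
    linear_combination this

theorem asHom_ker (x : B.K) : asHom B x = 0 ↔ x = 0 ∨ x = 1 := by
  change x * x + x = 0 ↔ _
  have h2 : x * x + x = x * (x + 1) := by ring
  rw [h2, mul_eq_zero]
  constructor
  · rintro (h | h)
    · exact Or.inl h
    · right
      have h3 := B.K_add_self (1 : B.K)
      linear_combination h - h3
  · rintro (h | h)
    · exact Or.inl h
    · right; rw [h]; exact B.K_add_self 1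

theorem asHom_index [Finite F] : (asHom B).range.index = 2 := by
  have h1 := (asHom B).range.card_mul_index
  have h2 := (asHom B).ker.card_mul_index
  rw [AddSubgroup.index_ker] at h2
  have h3 : Nat.card (asHom B).ker = 2 := by
    rw [Nat.card_eq_two_iff]
    refine ⟨⟨0, by simp⟩, ⟨1, (asHom_ker B 1).2 (Or.inr rfl)⟩, ?_, ?_⟩
    · intro h
      exact zero_ne_one (congrArg Subtype.val h)
    · rw [Set.eq_univ_iff_forall]
      rintro ⟨x, hx⟩
      rcases (asHom_ker B x).1 hx with rfl | rfl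
      · exact Or.inl rfl
      · exact Or.inr rfl
  rw [h3] at h2
  have h4 : 0 < Nat.card (asHom B).range := Nat.card_pos
  have h5 : Nat.card (asHom B).range * (asHom B).range.index =
      Nat.card (asHom B).range * 2 := by rw [h1, ← h2, mul_comm]
  exact Nat.eq_of_mul_eq_mul_left h4 h5

/-- solutions of `ε² + ε = N`. -/
theorem exists_eps [Finite F] {N : F} (hN : B.s N = N) :
    ∃ ε : F, ε * ε + ε = N ∧ (B.s ε = ε ∨ B.s ε = ε + 1) := by
  by_cases h : (⟨N, hN⟩ : B.K) ∈ (asHom B).range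
  · obtain ⟨x, hx⟩ := h
    exact ⟨x, congrArg Subtype.val hx, Or.inl (B.s_K x)⟩
  · obtain ⟨w, hw⟩ := B.tr_surj 1
    have hw' : w + B.s w = 1 := congrArg Subtype.val hw
    have hsw : B.s w = w + 1 := by
      have := Bar.add_self w
      linear_combination hw' - this
    have hn : B.s (w * w + w) = w * w + w := by
      rw [map_add, map_mul, hsw]
      have := Bar.add_self (w + 1)
      linear_combination this
    have h2 : (⟨w * w + w, hn⟩ : B.K) ∉ (asHom B).range := by
      rintro ⟨x, hx⟩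
      have hx' : (x : F) * x + x = w * w + w := congrArg Subtype.val hx
      have h3 : ((x : F) + w) * (x + w + 1) = 0 := by
        have := Bar.add_self ((x : F) * w)
        have h4 := Bar.add_self (w * w + w)
        linear_combination hx' + this + h4
      have h4 : B.s w = w := by
        rcases mul_eq_zero.1 h3 with h5 | h5
        · have h6 : w = x := by
            have := Bar.add_self (x : F)
            linear_combination h5 - this
          rw [h6, B.s_K]
        · have h6 : w = x + 1 := by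
            have := Bar.add_self ((x : F) + 1)
            linear_combination h5 - this
          rw [h6, map_add, B.s_K, map_one]
      rw [h4] at hsw
      exact one_ne_zero (left_eq_add.1 hsw)
    have h3 : (⟨N, hN⟩ + ⟨w * w + w, hn⟩ : B.K) ∈ (asHom B).range := by
      rw [AddSubgroup.add_mem_iff_of_index_two (asHom_index B)]
      exact ⟨fun h5 => absurd h5 h, fun h5 => absurd h5 h2⟩
    obtain ⟨x, hx⟩ := h3
    have hx' : (x : F) * x + x = N + (w * w + w) := congrArg Subtype.val hx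
    refine ⟨x + w, ?_, Or.inr ?_⟩
    · have h4 := Bar.add_self (w * w + w)
      have h5 := Bar.add_self ((x : F) * w)
      linear_combination hx' + h4 + h5
    · rw [map_add, B.s_K, hsw, add_assoc]

end Fld

variable {F : Type*} [Field F] [CharP F 2] {B : Bar F} {G : Type*} [Group G]
variable {E : WEnv B G}

theorem finite_F (E : WEnv B G) [Finite G] : Finite F :=
  Finite.of_injective E.xc (fun _ _ h => xc_inj h)

namespace AGrown

variable (D : AGrown E)

/-- coordinates on `A`. -/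
noncomputable def av (p : F × F) : G := E.xa p.1 * D.ea p.2

/-- coordinates on `C`. -/
noncomputable def cv (p : F × F) : G := E.xc p.1 * D.ec p.2

/-- the operator `e` in coordinates. -/
noncomputable def eop (p : F × F) : F × F := (D.N * p.2, p.1 + p.2)

/-- scalars. -/
def sc (x : F) (p : F × F) : F × F := (x * p.1, x * p.2)

@[simp] theorem sc_fst (x : F) (p : F × F) : (sc x p).1 = x * p.1 := rfl
@[simp] theorem sc_snd (x : F) (p : F × F) : (sc x p).2 = x * p.2 := rfl

/-- the form. -/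
noncomputable def psi (p q : F × F) : G := ph (D.av p) (D.cv q)

variable {D}

theorem av_mem (p : F × F) : D.av p ∈ D.A := D.A.mul_mem (xa_mem _) (ea_mem _)
theorem cv_mem (p : F × F) : D.cv p ∈ D.C := D.C.mul_mem (xc_mem _) (ec_mem _)

theorem av_add (p q : F × F) : D.av (p + q) = D.av p * D.av q := by
  unfold av
  rw [Prod.fst_add, Prod.snd_add, E.xa_add, ea_add]
  have h := cAA (D := D) (xa_mem q.1) (ea_mem p.2)
  calc E.xa p.1 * E.xa q.1 * (D.ea p.2 * D.ea q.2) = E.xa p.1 * (E.xa q.1 * D.ea p.2) * D.ea q.2 := by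
        group
    _ = _ := by rw [h.eq]; group

theorem nb_av (p : F × F) : D.nb * D.av p * D.nb⁻¹ = D.cv p := by
  unfold av cv ec
  rw [← D.nb_a]; group

theorem nb_cv (p : F × F) : D.nb * D.cv p * D.nb⁻¹ = D.av p := by rw [← nb_av, D.nb_nb]

theorem cv_add (p q : F × F) : D.cv (p + q) = D.cv p * D.cv q := by
  rw [← nb_av, av_add, ← nb_av, ← nb_av]; group

theorem av_zero : D.av 0 = 1 := WEnv.hom_zero av_add
theorem cv_zero : D.cv 0 = 1 := WEnv.hom_zero cv_add

theorem av_inj {p q : F × F} (h : D.av p = D.av q) : p = q := by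
  obtain ⟨h1, h2⟩ := A_uniq h
  exact Prod.ext h1 h2

theorem cv_inj {p q : F × F} (h : D.cv p = D.cv q) : p = q := by
  obtain ⟨h1, h2⟩ := C_uniq h
  exact Prod.ext h1 h2

theorem exists_av {a : G} (ha : a ∈ D.A) : ∃ p, a = D.av p := by
  obtain ⟨s, s', h⟩ := A_form ha
  exact ⟨(s, s'), h⟩

theorem exists_cv {a : G} (ha : a ∈ D.C) : ∃ p, a = D.cv p := by
  obtain ⟨s, s', h⟩ := C_form ha
  exact ⟨(s, s'), h⟩

theorem T_av {g : G} {μ : Fˣ} {ν : B.Kˣ} (hg : Wt E g μ ν) (p : F × F) :
    g * D.av p * g⁻¹ = D.av (sc μ p) := by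
  calc g * D.av p * g⁻¹ = (g * E.xa p.1 * g⁻¹) * (g * D.ea p.2 * g⁻¹) := by unfold av; group
    _ = _ := by rw [hg.a, ea_T hg.mem hg.a]; rfl

theorem T_cv {g : G} {μ : Fˣ} {ν : B.Kˣ} (hg : Wt E g μ ν) (p : F × F) :
    g * D.cv p * g⁻¹ = D.cv (sc (μ * ((ν : B.K) : F)) p) := by
  calc g * D.cv p * g⁻¹ = (g * E.xc p.1 * g⁻¹) * (g * D.ec p.2 * g⁻¹) := by unfold cv; group
    _ = _ := by rw [hg.c, ec_T hg.mem hg.c]; rfl

theorem t_av (p : F × F) : E.t * D.av p * E.t⁻¹ = D.av (p.1 + p.2, p.2) := by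
  calc E.t * D.av p * E.t⁻¹ = (E.t * E.xa p.1 * E.t⁻¹) * (E.t * D.ea p.2 * E.t⁻¹) := by
        unfold av; group
    _ = E.xa p.1 * E.xa p.2 * D.ea p.2 := by
        rw [t_xa, t_ea, ← (cAA (D := D) (xa_mem p.2) (ea_mem p.2)).eq]; group
    _ = _ := by rw [← E.xa_add]; rfl

theorem t_cv (p : F × F) : E.t * D.cv p * E.t⁻¹ = D.cv (p.1 + p.2, p.2) := by
  have ht : E.t * D.nb = D.nb * E.t := D.t_nb
  rw [← nb_av, ← nb_av, ← t_av]
  calc E.t * (D.nb * D.av p * D.nb⁻¹) * E.t⁻¹ = (E.t * D.nb) * D.av p * (E.t * D.nb)⁻¹ := by group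
    _ = _ := by rw [ht]; group

theorem th_av_xb (p : F × F) (k : B.K) : D.th (D.av p) (E.xb k) = D.cv (sc (k : F) p) := by
  unfold av
  rw [th_mul_left (xa_mem _) (ea_mem _) (xb_mem k), th_xa_xb, th_ea_xb, mul_comm p.1]
  rfl

theorem th_av_eb (p : F × F) (k : B.K) : D.th (D.av p) (D.eb k) = D.cv (sc (k : F) (D.eop p)) := by
  unfold av
  rw [th_mul_left (xa_mem _) (ea_mem _) (eb_mem k), th_xa_eb, th_ea_eb]
  unfold cv eop sc
  have h := (cCC (D := D) (ec_mem ((k : F) * p.1)) (xc_mem (D.N * ((k : F) * p.2)))).eq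
  rw [← mul_assoc, h, mul_assoc, ← ec_add]
  congr 2
  · ring
  · ring

/-- general form: `b = xb k · eb k'`. -/
theorem th_av (p : F × F) (k k' : B.K) :
    D.th (D.av p) (E.xb k * D.eb k') = D.cv (sc (k : F) p + sc (k' : F) (D.eop p)) := by
  rw [th_mul_right (av_mem p) (xb_mem k) (eb_mem k'), th_av_xb, th_av_eb, cv_add]

/-! ### The form -/

theorem psi_mem (p q : F × F) : D.psi p q ∈ D.Z := ph_mem (av_mem p) (cv_mem q)

theorem psi_add_left (p p' q : F × F) : D.psi (p + p') q = D.psi p q * D.psi p' q := by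
  unfold psi; rw [av_add, ph_mul_left (av_mem _) (av_mem _) (cv_mem _)]

theorem psi_add_right (p q q' : F × F) : D.psi p (q + q') = D.psi p q * D.psi p q' := by
  unfold psi; rw [cv_add, ph_mul_right (av_mem _) (cv_mem _) (cv_mem _)]

theorem psi_zero_left (q : F × F) : D.psi 0 q = 1 := by
  unfold psi ph; rw [av_zero]; group

theorem psi_zero_right (p : F × F) : D.psi p 0 = 1 := by
  unfold psi ph; rw [cv_zero]; group

theorem sc_one (p : F × F) : sc 1 p = p := by unfold sc; simp

theorem psi_symm (p q : F × F) : D.psi p q = D.psi q p := by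
  have h := ph_symm (D := D) (av_mem p) (av_mem q) (xb_mem 1)
  rw [th_av_xb, th_av_xb, B.K.coe_one, sc_one, sc_one] at h
  exact h

theorem psi_e (p q : F × F) : D.psi p (D.eop q) = D.psi (D.eop p) q := by
  have h := ph_symm (D := D) (av_mem p) (av_mem q) (eb_mem 1)
  rw [th_av_eb, th_av_eb, B.K.coe_one, sc_one, sc_one] at h
  rw [psi_symm (D.eop p) q]
  exact h

theorem psi_T {g : G} {μ : Fˣ} {ν : B.Kˣ} (hg : Wt E g μ ν) (p q : F × F) :
    g * D.psi p q * g⁻¹ = D.psi (sc μ p) (sc (μ * ((ν : B.K) : F)) q) := by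
  unfold psi
  rw [← T_av hg, ← T_cv hg, ph_conj]

theorem psi_t (p q : F × F) :
    E.t * D.psi p q * E.t⁻¹ = D.psi (p.1 + p.2, p.2) (q.1 + q.2, q.2) := by
  unfold psi
  rw [← t_av, ← t_cv, ph_conj]

/-- `psi (x p) q = psi p (x̄ q)`. -/
theorem psi_bar (x : F) (p q : F × F) : D.psi (sc x p) q = D.psi p (sc (B.s x) q) := by
  by_cases hx : x = 0
  · have h0 : ∀ p, sc 0 p = (0 : F × F) := fun p => by unfold sc; simp
    rw [hx, map_zero, h0, h0, psi_zero_left, psi_zero_right]
  · -- the torus element with weights `x⁻¹`, `nm x`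
    have hn : B.nm x ≠ 0 := fun h => hx (B.nm_eq_zero.1 h)
    have hw := Wt.h E (Units.mk0 x hx)⁻¹ (Units.mk0 (B.nm x) hn)
    have h1 := psi_T (D := D) hw (sc x p) q
    have h2 : sc (((Units.mk0 x hx)⁻¹ : Fˣ) : F) (sc x p) = p := by
      rw [Units.val_inv_eq_inv_val, Units.val_mk0]
      refine Prod.ext ?_ ?_
      · change x⁻¹ * (x * p.1) = p.1
        rw [inv_mul_cancel_left₀ hx]
      · change x⁻¹ * (x * p.2) = p.2
        rw [inv_mul_cancel_left₀ hx]
    have h3 : (((Units.mk0 x hx)⁻¹ : Fˣ) : F) * (((Units.mk0 (B.nm x) hn : B.Kˣ) : B.K) : F) = B.s x := by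
      rw [Units.val_inv_eq_inv_val, Units.val_mk0, Units.val_mk0]
      change x⁻¹ * (x * B.s x) = B.s x
      rw [inv_mul_cancel_left₀ hx]
    rw [h2, h3] at h1
    rw [← h1]
    have h4 : Commute (E.h (Units.mk0 x hx)⁻¹ (Units.mk0 (B.nm x) hn)) (D.psi (sc x p) q) := by
      refine r_T_comm D.rootZ hw.mem (fun c => ?_) (psi_mem _ _)
      have h5 := hw.z c
      have h6 : B.nm (((Units.mk0 x hx)⁻¹ : Fˣ) : F) * ((Units.mk0 (B.nm x) hn : B.Kˣ) : B.K) = 1 := by
        rw [Units.val_mk0, ← B.nm_mul, Units.val_inv_eq_inv_val, Units.val_mk0, inv_mul_cancel₀ hx,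
          B.nm_one]
      rw [h6, one_mul] at h5
      exact WEnv.conj_eq_iff.1 h5
    rw [h4.eq, mul_inv_cancel_right]

theorem eop_eop (p : F × F) : D.eop (D.eop p) = sc D.N p + D.eop p := by
  unfold eop sc
  refine Prod.ext ?_ ?_
  · simp only [Prod.fst_add]; ring
  · simp only [Prod.snd_add]

theorem psi_N (p q : F × F) : D.psi (sc D.N p) q = D.psi p (sc D.N q) := by
  have h1 : D.psi (D.eop (D.eop p)) q = D.psi p (D.eop (D.eop q)) := by
    rw [← psi_e, ← psi_e]
  rw [eop_eop, eop_eop, psi_add_left, psi_add_right, psi_e] at h1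
  exact mul_right_cancel h1

theorem psi_base (s x : F) : D.psi (s, 0) (x, 0) = E.xz (B.tr (s * B.s x)) := by
  have h1 : D.av (s, 0) = E.xa s := by unfold av; rw [ea_zero, mul_one]
  have h2 : D.cv (x, 0) = E.xc x := by unfold cv; rw [ec_zero, mul_one]
  unfold psi
  rw [h1, h2, ph, E.a_c, mul_inv_cancel_right]

theorem N_mem : B.s D.N = D.N := by
  obtain ⟨w, hw⟩ := B.tr_surj 1
  have h1 := psi_N (D := D) (w, 0) (1, 0)
  have h2 : sc D.N (w, (0 : F)) = (D.N * w, 0) := by unfold sc; simp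
  have h3 : sc D.N ((1 : F), (0 : F)) = (D.N, 0) := by unfold sc; simp
  rw [h2, h3, psi_base, psi_base, map_one, mul_one] at h1
  have h4 : D.N * w + B.s (D.N * w) = w * B.s D.N + B.s (w * B.s D.N) :=
    congrArg Subtype.val (xz_inj h1)
  have hw' : w + B.s w = 1 := congrArg Subtype.val hw
  rw [map_mul, map_mul, B.invol] at h4
  have h5 : (D.N + B.s D.N) * (w + B.s w) = 0 := by
    have h6 := Bar.add_self (w * B.s D.N + B.s w * D.N)
    linear_combination h4 + h6
  rw [hw', mul_one] at h5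
  have h6 := Bar.add_self D.N
  linear_combination h5 - h6

end AGrown

end Cfsg.Agent.StdRank2.SC
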