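import Cfsg.Agent.StdRank2.SC.Four

/-!
# Structure constants, VI: the split case `ε̄ = ε`, groups `A`, `B`, `C`, `Z`

`zf i : K → Z`, `bi i : K → B`, `Z = zf 0 · zf 1`, `B = bi 0 · bi 1`,
`[aᵢ s, cⱼ s'] = 1` (`i ≠ j`), `[aᵢ s, cᵢ s'] = zf i (tr (s s̄'))`, `[aᵢ s, bⱼ k] = 1` (`i ≠ j`),
`[aᵢ s, bᵢ k] = (element of zf i) · cᵢ (k s)`.
-/

set_option autoImplicit false
set_option linter.unusedSectionVars false

namespace Cfsg.Agent.StdRank2.SC

open Subgroup Cfsg.Agent.StdRank2.UFour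

variable {F : Type*} [Field F] [CharP F 2] {B : Bar F} {G : Type*} [Group G]
variable {E : WEnv B G} {D : AGrown E}

namespace Eps

variable (P : Eps D)

/-- `f i x = [aᵢ x, cᵢ 1]` -/
noncomputable def fs (i : Bool) (x : F) : G := D.psi (P.pv i x) (P.pv i 1)

/-- an element of trace `k`. -/
noncomputable def lt (B : Bar F) (k : B.K) : F := (B.tr_surj k).choose

theorem tr_lt (k : B.K) : B.tr (lt B k) = k := (B.tr_surj k).choose_spec

/-- parametrisation of `Zᵢ`. -/
noncomputable def zf (i : Bool) (k : B.K) : G := P.fs i (lt B k)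

/-- `ep i` as an element of `K`. -/
def ek (hS : B.s P.e = P.e) (i : Bool) : B.K := ⟨P.ep i, by
  rw [Bar.mem_K]
  cases i
  · exact hS
  · change B.s (P.e + 1) = P.e + 1
    rw [map_add, map_one, hS]⟩

/-- parametrisation of `Bᵢ`. -/
noncomputable def bi (hS : B.s P.e = P.e) (i : Bool) (k : B.K) : G := P.bb (k * (P.ek hS i + 1)) k

variable {P}

section splitCase

variable (hS : B.s P.e = P.e)
include hS

theorem s_ep' (j : Bool) : B.s (P.ep j) = P.ep j := (P.ek hS j).2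

theorem psi_diff (i : Bool) (s s' : F) : D.psi (P.pv i s) (P.pv (!i) s') = 1 :=
  psi_vanish (by rw [s_ep' hS]; exact (P.ep_ne i).symm) s s'

theorem comm_a_c' (i : Bool) (s s' : F) : Commute (P.a i s) (P.c (!i) s') := by
  have h := psi_diff hS i s s'
  rw [← ph_a_c, AGrown.ph] at h
  exact mul_inv_eq_iff_eq_mul.1 (mul_inv_eq_one.1 h)

omit hS in
theorem fs_add (i : Bool) (x y : F) : P.fs i (x + y) = P.fs i x * P.fs i y := by
  unfold fs; rw [P.pv_add, AGrown.psi_add_left]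

omit hS in
theorem fs_mem (i : Bool) (x : F) : P.fs i x ∈ D.Z := AGrown.psi_mem _ _

omit hS in
theorem psi_fs (i : Bool) (s s' : F) : D.psi (P.pv i s) (P.pv i s') = P.fs i (s * B.s s') := psi_move _ _ _ _

omit hS in
theorem fs_s (i : Bool) (x : F) : P.fs i (B.s x) = P.fs i x := by
  have h := AGrown.psi_symm (D := D) (P.pv i x) (P.pv i 1)
  rw [psi_fs, psi_fs, map_one, mul_one, one_mul] at h
  exact h.symm

omit hS in
theorem fs_K (i : Bool) (k : B.K) : P.fs i (k : F) = 1 := by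
  obtain ⟨x, rfl⟩ := B.tr_surj k
  change P.fs i (x + B.s x) = 1
  rw [fs_add, fs_s]
  exact D.rootZ.sq _ (fs_mem i x)

omit hS in
theorem fs_eq (i : Bool) (x : F) : P.fs i x = P.zf i (B.tr x) := by
  unfold zf
  have h1 : B.s (x + lt B (B.tr x)) = x + lt B (B.tr x) := by
    have h2 : lt B (B.tr x) + B.s (lt B (B.tr x)) = x + B.s x := congrArg Subtype.val (tr_lt (B.tr x))
    rw [map_add]
    have h3 := Bar.add_self (B.s x)
    have h4 := Bar.add_self (lt B (B.tr x))
    linear_combination h2 + h3 - h4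
  have h4 := fs_K (P := P) i ⟨_, h1⟩
  change P.fs i (x + lt B (B.tr x)) = 1 at h4
  rw [fs_add] at h4
  have h5 := D.rootZ.sq _ (fs_mem (P := P) i (lt B (B.tr x)))
  exact mul_right_cancel (h4.trans h5.symm)

omit hS in
theorem psi_zf (i : Bool) (s s' : F) : D.psi (P.pv i s) (P.pv i s') = P.zf i (B.tr (s * B.s s')) := by
  rw [psi_fs, fs_eq]

omit hS in
theorem zf_add (i : Bool) (k l : B.K) : P.zf i (k + l) = P.zf i k * P.zf i l := by
  obtain ⟨x, rfl⟩ := B.tr_surj k
  obtain ⟨y, rfl⟩ := B.tr_surj l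
  rw [← B.tr_add, ← fs_eq, ← fs_eq, ← fs_eq, fs_add]

omit hS in
theorem zf_zero (i : Bool) : P.zf i 0 = 1 := WEnv.hom_zero (zf_add i)

omit hS in
theorem zf_mem (i : Bool) (x : B.K) : P.zf i x ∈ D.Z := fs_mem _ _

omit hS in
theorem zf_sq (i : Bool) (x : B.K) : P.zf i x * P.zf i x = 1 := D.rootZ.sq _ (zf_mem i x)

omit hS in
theorem t_zf (i : Bool) (k : B.K) : E.t * P.zf i k * E.t⁻¹ = P.zf (!i) k := by
  obtain ⟨x, rfl⟩ := B.tr_surj k
  rw [← fs_eq, ← fs_eq]
  unfold fs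
  rw [AGrown.psi_t, P.t_pv, P.t_pv]

theorem zf_mul (k : B.K) : P.zf false k * P.zf true k = E.xz k := by
  obtain ⟨x, rfl⟩ := B.tr_surj k
  have h := AGrown.psi_base (D := D) x 1
  have hd1 : D.psi (P.pv false x) (P.pv true 1) = 1 := psi_diff hS false x 1
  have hd2 : D.psi (P.pv true x) (P.pv false 1) = 1 := psi_diff hS true x 1
  rw [map_one, mul_one, P.pv_base x, P.pv_base 1, AGrown.psi_add_left, AGrown.psi_add_right,
    AGrown.psi_add_right, hd1, hd2, psi_fs, psi_fs, map_one, mul_one,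
    mul_one, one_mul] at h
  rw [← fs_eq, ← fs_eq]
  exact h

theorem exists_zf {r : G} (hr : r ∈ D.Z) : ∃ k l, r = P.zf false k * P.zf true l := by
  obtain ⟨k, hk⟩ := D.rootZ.conj_t r hr
  have h1 : P.zf false k * E.t * (P.zf false k)⁻¹ = E.xz k * E.t := by
    have h1 : (P.zf false k)⁻¹ = P.zf false k := WEnv.inv_of_sq (D.rootZ.sq _ (zf_mem false k))
    calc P.zf false k * E.t * (P.zf false k)⁻¹ = P.zf false k * (E.t * P.zf false k * E.t⁻¹) * E.t := by
          rw [h1]; group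
      _ = _ := by rw [t_zf]; change P.zf false k * P.zf true k * E.t = _; rw [zf_mul hS]
  obtain ⟨c, hc⟩ := r_eq_of D.rootZ hr (zf_mem false k) hk h1
  refine ⟨c + k, c, ?_⟩
  rw [hc, ← zf_mul hS, zf_add]
  have h2 := AGrown.cZZ (D := D) (zf_mem (P := P) true c) (zf_mem (P := P) false k)
  rw [mul_assoc, h2.eq, mul_assoc]

theorem zf_uniq {k l k' l' : B.K} (h : P.zf false k * P.zf true l = P.zf false k' * P.zf true l') :
    k = k' ∧ l = l' := by
  have h1 : P.zf false (k + k') = P.zf true (l + l') := by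
    rw [zf_add, zf_add]
    have h2 := AGrown.cZZ (D := D) (zf_mem (P := P) true l) (zf_mem (P := P) true l')
    have h3 := AGrown.cZZ (D := D) (zf_mem (P := P) false k) (zf_mem (P := P) false k')
    calc P.zf false k * P.zf false k' = P.zf false k' * (P.zf false k * P.zf true l) *
          P.zf true l := by
          rw [h3.eq]; simp only [mul_assoc]; rw [zf_sq, mul_one]
      _ = (P.zf false k' * P.zf false k') * P.zf true l' * P.zf true l := by rw [h]; group
      _ = _ := by rw [zf_sq, one_mul, h2.eq]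
  have h2 : P.zf true (k + k') = P.zf false (l + l') := by
    have := congrArg (fun g => E.t * g * E.t⁻¹) h1
    simp only [t_zf] at this
    exact this
  have h3 : E.xz (k + k') = E.xz (l + l') := by
    rw [← zf_mul hS, ← zf_mul hS, h1, h2]
    exact (AGrown.cZZ (D := D) (zf_mem _ _) (zf_mem _ _)).eq
  have h4 := xz_inj h3
  rw [← h4] at h2
  have h5 : E.xz (k + k') = 1 := by
    rw [← zf_mul hS, h2]; exact zf_sq _ _
  have h6 : k + k' = 0 := xz_inj (h5.trans E.xz_zero.symm)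
  have h7 : l + l' = 0 := by rw [← h4, h6]
  constructor
  · have := B.K_add_self k'
    exact add_right_cancel (h6.trans this.symm)
  · have := B.K_add_self l'
    exact add_right_cancel (h7.trans this.symm)

omit hS in
theorem T_zf {g : G} {μ : Fˣ} {ν : B.Kˣ} (hg : Wt E g μ ν) (i : Bool) (k : B.K) :
    g * P.zf i k * g⁻¹ = P.zf i (B.nm μ * ν * k) := by
  obtain ⟨x, rfl⟩ := B.tr_surj k
  rw [← fs_eq, ← B.tr_K_mul, ← fs_eq]
  unfold fs
  rw [AGrown.psi_T hg, P.sc_pv, P.sc_pv, psi_move, mul_one]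
  congr 2
  rw [map_mul, B.s_K]
  change μ * x * (B.s μ * ((ν : B.K) : F)) = μ * B.s μ * ((ν : B.K) : F) * x
  ring

/-! ### `B` -/

theorem bi_mem (i : Bool) (k : B.K) : P.bi hS i k ∈ D.Bb := bb_mem _ _

theorem bi_add (i : Bool) (k l : B.K) : P.bi hS i (k + l) = P.bi hS i k * P.bi hS i l := by
  unfold bi; rw [add_mul, bb_add]

theorem bi_zero (i : Bool) : P.bi hS i 0 = 1 := WEnv.hom_zero (bi_add hS i)

omit hS in
theorem ek_not (hS : B.s P.e = P.e) (i : Bool) : P.ek hS (!i) = P.ek hS i + 1 := Subtype.ext (P.ep_not i)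

theorem t_bi (i : Bool) (k : B.K) : E.t * P.bi hS i k * E.t⁻¹ = P.bi hS (!i) k := by
  unfold bi
  rw [t_bb, ek_not]
  congr 1
  ring

theorem exists_bi {g : G} (hg : g ∈ D.Bb) : ∃ k l, g = P.bi hS false k * P.bi hS true l := by
  obtain ⟨k, k', rfl⟩ := exists_b (P := P) hg
  have h0 : P.ek hS true = P.ek hS false + 1 := ek_not hS false
  refine ⟨k + k' * P.ek hS false, k + k' * P.ek hS true, ?_⟩
  unfold bi
  rw [← bb_add, h0]
  congr 1
  · have h2 := B.K_add_self (k' * P.ek hS false)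
    have h3 := B.K_add_self (k * P.ek hS false)
    have h4 := B.K_add_self (k' * P.ek hS false * P.ek hS false)
    have h5 := B.K_add_self k
    have h6 := B.K_add_self k'
    linear_combination -h3 - h4 - 2 * h2 - h5 - h6
  · have h1 := B.K_add_self (k + k' * P.ek hS false)
    linear_combination -h1

theorem bi_uniq {k l k' l' : B.K} (h : P.bi hS false k * P.bi hS true l = P.bi hS false k' * P.bi hS true l') :
    k = k' ∧ l = l' := by
  unfold bi at h
  rw [← bb_add, ← bb_add] at h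
  obtain ⟨h1, h2⟩ := bb_uniq h
  have h0 : P.ek hS true = P.ek hS false + 1 := ek_not hS false
  rw [h0] at h1
  have h3 := B.K_add_self l
  have h4 := B.K_add_self l'
  have h5 : k = k' := by linear_combination h1 - P.ek hS false * h2 - h3 + h4
  refine ⟨h5, ?_⟩
  rw [h5] at h2
  exact add_left_cancel h2

theorem xb_eq (k : B.K) : P.bi hS false k * P.bi hS true k = E.xb k := by
  unfold bi
  have h0 : P.ek hS true = P.ek hS false + 1 := ek_not hS false
  rw [← bb_add, h0, B.K_add_self]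
  unfold bb
  rw [AGrown.eb_zero, mul_one]
  congr 1
  have h1 := B.K_add_self (k * P.ek hS false + k)
  linear_combination h1

theorem T_bi {g : G} {μ : Fˣ} {ν : B.Kˣ} (hg : Wt E g μ ν) (i : Bool) (k : B.K) :
    g * P.bi hS i k * g⁻¹ = P.bi hS i (ν * k) := by
  unfold bi; rw [T_b hg, mul_assoc]

theorem th_a_bi (i : Bool) (s : F) (k : B.K) : D.th (P.a i s) (P.bi hS i k) = P.c i ((k : F) * s) := by
  unfold bi
  rw [th_a_bb]
  congr 1
  change ((k : F) * (P.ep i + 1) + k * P.ep i) * s = k * s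
  have := Bar.add_self ((k : F) * P.ep i * s)
  linear_combination this

theorem th_a_bi' (i : Bool) (s : F) (k : B.K) : D.th (P.a i s) (P.bi hS (!i) k) = 1 := by
  unfold bi
  rw [th_a_bb, ← c_zero (P := P) i]
  congr 1
  rw [ek_not]
  change ((k : F) * (P.ep i + 1 + 1) + k * P.ep i) * s = 0
  have := Bar.add_self ((k : F) * P.ep i * s)
  have h2 := Bar.add_self ((k : F) * s)
  linear_combination this + h2

/-! ### Exactness -/

/-- a map `F → Z`, additive modulo `Zⱼ`, with weight `nm`, has values in `Zⱼ` (general form). -/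
theorem zf_quad (j : Bool) (w : F → G) (hw : ∀ s, w s ∈ D.Z)
    (hadd : ∀ s s', ∃ k, w (s + s') = w s * w s' * P.zf j k)
    (hT : ∀ μ : Fˣ, ∀ s, ∃ k, w (μ * s) = E.h μ 1 * w s * (E.h μ 1)⁻¹ * P.zf j k) (s : F) :
    ∃ k, w s = P.zf j k := by
  -- coordinates
  have hz : ∀ s, ∃ k l, w s = P.zf j k * P.zf (!j) l := by
    intro s
    obtain ⟨k, l, h⟩ := exists_zf hS (hw s)
    cases j
    · exact ⟨k, l, h⟩
    · exact ⟨l, k, h.trans (AGrown.cZZ (D := D) (zf_mem _ _) (zf_mem _ _)).eq⟩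
  choose κ κ' hκ using hz
  have huniq : ∀ k l k' l', P.zf j k * P.zf (!j) l = P.zf j k' * P.zf (!j) l' → l = l' := by
    intro k l k' l' h
    cases j
    · exact (zf_uniq hS h).2
    · refine (zf_uniq hS (P := P) (k := l) (l := k) (k' := l') (l' := k') ?_).1
      rw [(AGrown.cZZ (D := D) (zf_mem (P := P) false l) (zf_mem (P := P) true k)).eq,
        (AGrown.cZZ (D := D) (zf_mem (P := P) false l') (zf_mem (P := P) true k')).eq]
      exact h
  have h1 : ∀ s s', κ' (s + s') = κ' s + κ' s' := by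
    intro s s'
    obtain ⟨k, hk⟩ := hadd s s'
    refine huniq (κ (s + s')) _ (κ s + κ s' + k) _ ?_
    rw [← hκ, hk, hκ s, hκ s', zf_add, zf_add, zf_add]
    have c1 := AGrown.cZZ (D := D) (zf_mem (P := P) (!j) (κ' s)) (zf_mem (P := P) j (κ s'))
    have c2 := AGrown.cZZ (D := D) (D.Z.mul_mem (zf_mem (P := P) (!j) (κ' s))
      (zf_mem (P := P) (!j) (κ' s'))) (zf_mem (P := P) j k)
    calc P.zf j (κ s) * P.zf (!j) (κ' s) * (P.zf j (κ s') * P.zf (!j) (κ' s')) * P.zf j k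
        = P.zf j (κ s) * (P.zf (!j) (κ' s) * P.zf j (κ s')) * P.zf (!j) (κ' s') * P.zf j k := by
          group
      _ = P.zf j (κ s) * P.zf j (κ s') * ((P.zf (!j) (κ' s) * P.zf (!j) (κ' s')) * P.zf j k) := by
          rw [c1.eq]; group
      _ = _ := by rw [c2.eq]; group
  have h2 : ∀ μ : Fˣ, ∀ s, κ' (μ * s) = B.nm μ * κ' s := by
    intro μ s
    obtain ⟨k, hk⟩ := hT μ s
    have hw := Wt.h E μ 1
    refine huniq (κ (μ * s)) _ (B.nm μ * κ s + k) _ ?_
    rw [← hκ, hk, hκ s]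
    have h3 : E.h μ 1 * (P.zf j (κ s) * P.zf (!j) (κ' s)) * (E.h μ 1)⁻¹ =
        (E.h μ 1 * P.zf j (κ s) * (E.h μ 1)⁻¹) * (E.h μ 1 * P.zf (!j) (κ' s) * (E.h μ 1)⁻¹) := by
      group
    rw [h3, T_zf hw, T_zf hw, Units.val_one, mul_one, zf_add]
    have c1 := AGrown.cZZ (D := D) (zf_mem (P := P) (!j) (B.nm μ * κ' s)) (zf_mem (P := P) j k)
    rw [mul_assoc, c1.eq, mul_assoc]
  have h4 := quad_zero B (κ := fun s => ((κ' s : B.K) : F)) (fun s s' => by rw [h1]; rfl)
    (fun μ s => by rw [h2]; rfl) s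
  have h5 : κ' s = 0 := Subtype.ext h4
  exact ⟨κ s, by rw [hκ, h5, zf_zero, mul_one]⟩

theorem h_comm_B (μ : Fˣ) {g : G} (hg : g ∈ D.Bb) : E.h μ 1 * g * (E.h μ 1)⁻¹ = g := by
  have hw := Wt.h E μ 1
  have h1 : Commute (E.h μ 1) g := r_T_comm D.rootB hw.mem (fun c => by
    have := hw.b c
    rw [Units.val_one, one_mul] at this
    exact WEnv.conj_eq_iff.1 this) hg
  rw [h1.eq, mul_inv_cancel_right]

/-- `[aᵢ s, bⱼ k] = 1` for `i ≠ j`. -/
theorem comm_a_b (i : Bool) (s : F) (k : B.K) : Commute (P.a i s) (P.bi hS (!i) k) := by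
  have hg := bi_mem (P := P) hS (!i) k
  have key : ∀ j, ∃ k', D.tz (P.a i s) (P.bi hS (!i) k) = P.zf j k' := by
    intro j
    refine zf_quad hS j (fun s => D.tz (P.a i s) (P.bi hS (!i) k)) (fun s => AGrown.tz_mem (a_mem i s) hg)
      (fun s s' => ⟨0, ?_⟩) (fun μ s => ⟨0, ?_⟩) s
    · rw [a_add, AGrown.tz_mul_left (a_mem i s) (a_mem i s') hg, th_a_bi' hS, zf_zero]
      congr 1
      unfold AGrown.ph; group
    · have hw := Wt.h E μ 1
      have h2 := AGrown.tz_T (D := D) hw.mem (a_mem (P := P) i s) hg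
      rw [T_a hw, h_comm_B hS μ hg] at h2
      rw [h2, zf_zero, mul_one]
  obtain ⟨k1, h1⟩ := key false
  obtain ⟨k2, h2⟩ := key true
  have h3 : P.zf false k1 * P.zf true 0 = P.zf false 0 * P.zf true k2 := by
    rw [zf_zero, zf_zero, one_mul, mul_one, ← h1, h2]
  have h4 := (zf_uniq hS h3).1
  rw [h4, zf_zero] at h1
  have h5 := AGrown.tz_spec (D := D) (P.a i s) (P.bi hS (!i) k)
  rw [h1, th_a_bi' hS, one_mul, one_mul] at h5
  exact WEnv.conj_eq_iff.1 h5

/-- `[aᵢ s, bᵢ k] = zᵢ cᵢ (k s)`. -/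
theorem conj_bi (i : Bool) (s : F) (k : B.K) : ∃ l, P.a i s * P.bi hS i k * (P.a i s)⁻¹ =
    P.zf i l * P.c i ((k : F) * s) * P.bi hS i k := by
  have hg := bi_mem (P := P) hS i k
  obtain ⟨l, hl⟩ := zf_quad hS i (fun s => D.tz (P.a i s) (P.bi hS i k))
    (fun s => AGrown.tz_mem (a_mem i s) hg)
    (fun s s' => by
      refine ⟨B.tr (s * B.s ((k : F) * s')), ?_⟩
      rw [a_add, AGrown.tz_mul_left (a_mem i s) (a_mem i s') hg, th_a_bi hS, ph_a_c, psi_zf])
    (fun μ s => by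
      refine ⟨0, ?_⟩
      have hw := Wt.h E μ 1
      have h2 := AGrown.tz_T (D := D) hw.mem (a_mem (P := P) i s) hg
      rw [T_a hw, h_comm_B hS μ hg] at h2
      rw [h2, zf_zero, mul_one]) s
  refine ⟨l, ?_⟩
  have h5 := AGrown.tz_spec (D := D) (P.a i s) (P.bi hS i k)
  rw [th_a_bi hS] at h5
  rw [h5]
  congr 2

end splitCase

end Eps

end Cfsg.Agent.StdRank2.SC
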