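import Cfsg.Agent.StdRank2.SC.FiveES
import Cfsg.Agent.StdRank2.SC.FiveSplitG

/-!
# `U₅(q)`, split case: the structure `SplitG`

`splitG (hS : B.s P.e = P.e) : SplitG Gr`.
-/

set_option autoImplicit false
set_option linter.unusedSectionVars false

open scoped commutatorElement

namespace Cfsg.Agent.StdRank2.SC.Five

open Subgroup Cfsg.Agent.StdRank2.UFour Cfsg.Agent.StdRank2.UFive
open Cfsg.Agent.StdRank2.SC.Eps (lt tr_lt)

variable {F : Type*} [Field F] [CharP F 2] {B : Bar F} {G : Type*} [Group G] [Finite G]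
variable {E : UFive.Env B G} {Gr : UFive.Grown E} {P : Eps (ag Gr)} {H : Hp E}
variable (hS : B.s P.e = P.e)
include hS

/-- `[aᵢ s, sig (!i) u] = 1`. -/
theorem a_sigS' (i : Bool) (s u : F) : Commute (P.a i s) (sig P H (!i) u) := by
  have h0 : ∀ l, zkc P l (al Gr (P.a i s) (sig P H (!i) u)) = 0 := by
    intro l
    obtain ⟨r, hr, h⟩ := zkc_al (P := P) (H := H) hS l i (!i) (by cases i <;> simp) s u
    rw [XX, if_neg (by cases i <;> simp), mul_one] at h
    rw [h]; exact hr.2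
  have hm : al Gr (P.a i s) (sig P H (!i) u) ∈ Gr.Z := by
    obtain ⟨r, hr, h⟩ := zkc_al (P := P) (H := H) hS false i (!i) (by cases i <;> simp) s u
    rw [XX, if_neg (by cases i <;> simp), mul_one] at h
    rw [h]; exact hr.1
  have h1 : al Gr (P.a i s) (sig P H (!i) u) = 1 :=
    zkc_ext (P := P) hS hm Gr.Z.one_mem fun l => by rw [h0, zkc_one hS]
  have h2 := conj_al (Gr := Gr) (P.a i s) (sig P H (!i) u)
  rw [h1, ac_diff hS, one_mul, one_mul] at h2
  exact WEnv.conj_eq_iff.1 h2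

/-- `[aᵢ s, sig i u] = zf i m · rho i (s̄ u) · cᵢ x`. -/
theorem a_sigS (i : Bool) (s u : F) : ∃ m x, P.a i s * sig P H i u * (P.a i s)⁻¹ =
    P.zf i m * rho P H i (B.s s * u) * P.c i x * sig P H i u := by
  obtain ⟨r, hr, h⟩ := zkc_al (P := P) (H := H) hS (!i) i i (by cases i <;> simp) s u
  obtain ⟨x, hx⟩ := ac_same (P := P) (H := H) hS i s u
  have h1 : r = P.zf i (zkc P i r) := by
    refine zkc_ext (P := P) hS hr.1 (zf_memZ _ _) fun l => ?_
    by_cases hl : l = i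
    · rw [hl, zkc_zf hS]
    · have h3 : l = !i := by cases l <;> cases i <;> simp_all
      rw [h3, hr.2, zkc_zf' hS]
  refine ⟨zkc P i r, x, ?_⟩
  rw [← h1, conj_al (Gr := Gr), hx, h, XX, if_pos rfl]

theorem rho_zeroS (i : Bool) : rho P H i 0 = 1 := by
  have h1 : tv Gr (pe P i (H.k0 * 0)) = tv Gr 1 := by rw [tv_pe, mul_zero, vi_zero, tv_one]
  rw [rho, Hp.phi_congr (pe_mem i _) Gr.P.one_mem h1, Hp.phi]; group

theorem sig_zeroS (i : Bool) : sig P H i 0 = 1 := by rw [sig, rho_zeroS hS]; group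

/-- `rho` and `sig` commute for different indices. -/
theorem rho_rhoS (i : Bool) (u v : F) : Commute (rho P H i u) (rho P H (!i) v) := by
  have h := pi_spec (rho P H i u) (rho P H (!i) v)
  rw [pi_rho, pi_split' hS, one_mul] at h
  exact WEnv.conj_eq_iff.1 h

theorem rho_sigS (i : Bool) (u v : F) : Commute (rho P H i u) (sig P H (!i) v) :=
  comm_of_ga (by rw [ga_rho, (ga_split hS i u v).1])

theorem rho_sigS' (i : Bool) (u v : F) :
    rho P H i u * sig P H i v * (rho P H i u)⁻¹ = P.c i (B.s u * v) * sig P H i v := by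
  rw [ga_spec, ga_rho, (ga_split hS i u v).2]

/-- `na cᵢ(s) na⁻¹ = cᵢ(s̄)`. -/
theorem na_cS (i : Bool) (s : F) : E.na * P.c i s * E.na⁻¹ = P.c i (B.s s) := by
  obtain ⟨H⟩ := exists_Hp (E := E)
  have h1 : P.c i s = ⁅rho P H i 1, sig P H i s⁆ := by
    rw [commutatorElement_def, rho_sigS' hS, map_one, one_mul, mul_inv_cancel_right]
  have h2 : P.c i (B.s s) = ⁅rho P H i s, sig P H i 1⁆ := by
    rw [commutatorElement_def, rho_sigS' hS, mul_one, mul_inv_cancel_right]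
  have h3 : P.c i (B.s s) = (P.c i (B.s s))⁻¹ :=
    (WEnv.inv_of_sq (Gr.rootC.sq _ (c_memC i (B.s s)))).symm
  rw [h3, h2, h1, commutatorElement_def, commutatorElement_def]
  have e : E.na * (rho P H i 1 * sig P H i s * (rho P H i 1)⁻¹ * (sig P H i s)⁻¹) * E.na⁻¹ =
      (E.na * rho P H i 1 * E.na⁻¹) * (E.na * sig P H i s * E.na⁻¹) * (E.na * rho P H i 1 * E.na⁻¹)⁻¹ *
        (E.na * sig P H i s * E.na⁻¹)⁻¹ := by group
  rw [e, na_sig, na_rho]; group

/-- the groups `A_i`. -/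
noncomputable def AAs (P : Eps (ag Gr)) (i : Bool) : Subgroup G where
  carrier := {g | ∃ s, g = P.a i s}
  mul_mem' := by
    rintro _ _ ⟨s, rfl⟩ ⟨s', rfl⟩
    exact ⟨s + s', (Eps.a_add i s s').symm⟩
  one_mem' := ⟨0, (Eps.a_zero i).symm⟩
  inv_mem' := by
    rintro _ ⟨s, rfl⟩
    exact ⟨s, WEnv.inv_of_sq (Gr.rootA.sq _ (a_memA i s))⟩

omit [Finite G] hS in
theorem mem_AAs {i : Bool} {g : G} : g ∈ AAs P i ↔ ∃ s, g = P.a i s := Iff.rfl

theorem rho_mulS (i : Bool) (u u' : F) :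
    ∃ k, rho P H i u * rho P H i u' = P.zf i k * rho P H i (u + u') := by
  obtain ⟨k, hk⟩ := rho_addS (P := P) (H := H) hS i u u'
  refine ⟨k, ?_⟩
  have c1 : Commute (P.zf i k) (rho P H i u * rho P H i u') :=
    cZP (zf_memZ i k) (Gr.P.mul_mem (rho_mem _ _) (rho_mem _ _))
  rw [hk, ← c1.eq, ← mul_assoc, Eps.zf_sq, one_mul]

theorem rho_invS (i : Bool) (u : F) : ∃ k, (rho P H i u)⁻¹ = P.zf i k * rho P H i u := by
  obtain ⟨k, hk⟩ := rho_mulS (P := P) (H := H) hS i u u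
  rw [Bar.add_self, rho_zeroS hS, mul_one] at hk
  refine ⟨k, ?_⟩
  have h1 : rho P H i u * rho P H i u * P.zf i k = 1 := by rw [hk, Eps.zf_sq]
  have c1 : Commute (P.zf i k) (rho P H i u) := cZP (zf_memZ i k) (rho_mem _ _)
  rw [inv_eq_iff_mul_eq_one, c1.eq, ← mul_assoc]
  exact h1

/-- the groups `P_i`. -/
noncomputable def PPs (P : Eps (ag Gr)) (H : Hp E) (hS : B.s P.e = P.e) (i : Bool) : Subgroup G where
  carrier := {g | ∃ k u, g = P.zf i k * rho P H i u}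
  mul_mem' := by
    rintro _ _ ⟨k, u, rfl⟩ ⟨k', u', rfl⟩
    obtain ⟨m, hm⟩ := rho_mulS (P := P) (H := H) hS i u u'
    refine ⟨k + k' + m, u + u', ?_⟩
    have c1 : Commute (P.zf i k') (rho P H i u) := cZP (zf_memZ i k') (rho_mem _ _)
    calc P.zf i k * rho P H i u * (P.zf i k' * rho P H i u')
        = P.zf i k * (rho P H i u * P.zf i k') * rho P H i u' := by group
      _ = (P.zf i k * P.zf i k') * (rho P H i u * rho P H i u') := by rw [← c1.eq]; group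
      _ = _ := by rw [hm, Eps.zf_add, Eps.zf_add]; group
  one_mem' := ⟨0, 0, by rw [Eps.zf_zero, rho_zeroS hS, one_mul]⟩
  inv_mem' := by
    rintro _ ⟨k, u, rfl⟩
    obtain ⟨m, hm⟩ := rho_invS (P := P) (H := H) hS i u
    refine ⟨k + m, u, ?_⟩
    have hz : (P.zf i k)⁻¹ = P.zf i k := WEnv.inv_of_sq (Eps.zf_sq i k)
    have c1 : Commute (P.zf i k) (P.zf i m * rho P H i u) :=
      cZP (zf_memZ i k) (Gr.P.mul_mem (Gr.Z_le (zf_memZ _ _)) (rho_mem _ _))
    rw [mul_inv_rev, hm, hz, ← c1.eq, Eps.zf_add, mul_assoc]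

omit hS in
theorem mem_PPs {hS : B.s P.e = P.e} {i : Bool} {g : G} :
    g ∈ PPs P H hS i ↔ ∃ k u, g = P.zf i k * rho P H i u := Iff.rfl

omit hS in
theorem nb_c_of {i : Bool} {c : G} (h : E.nb * c * E.nb⁻¹ ∈ AAs P i) : ∃ s, c = P.c i s := by
  obtain ⟨s, hs⟩ := h
  refine ⟨s, ?_⟩
  have h1 := Eps.nb_a (P := P) i s
  change E.nb * P.a i s * E.nb⁻¹ = P.c i s at h1
  rw [← h1, ← hs]
  calc c = (E.nb * E.nb) * c * (E.nb * E.nb)⁻¹ := by rw [E.nb_sq]; group
    _ = _ := by group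

omit hS in
theorem nb_c_mem (i : Bool) (s : F) : E.nb * P.c i s * E.nb⁻¹ ∈ AAs P i := ⟨s, Eps.nb_c (P := P) i s⟩

theorem na_g_of {i : Bool} {g : G} (h : E.na * g * E.na⁻¹ ∈ PPs P H hS i) :
    ∃ k u, g = P.bi hS i k * sig P H i u := by
  obtain ⟨k, u, hs⟩ := h
  refine ⟨k, u, ?_⟩
  have h1 := congrArg (fun g => E.na * g * E.na⁻¹) hs
  beta_reduce at h1
  rw [na_na] at h1
  rw [h1, ← na_zf hS]; unfold sig; group

theorem na_g_mem (i : Bool) (k : B.K) (u : F) : E.na * (P.bi hS i k * sig P H i u) * E.na⁻¹ ∈ PPs P H hS i := by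
  refine ⟨k, u, ?_⟩
  rw [← na_bi hS, ← na_sig]; group

/-- **the structure for helper649's `SplitG`.** -/
theorem exists_splitG : Nonempty (SplitG Gr) := by
  obtain ⟨H⟩ := exists_Hp (E := E)
  have zP : ∀ i k, P.zf i k ∈ Gr.P := fun i k => Gr.Z_le (zf_memZ i k)
  have key_gen : ∀ i (l : B.K), ∃ x, P.zf i l = ⁅P.a i x, P.c i 1⁆ := by
    intro i l
    obtain ⟨x, hx⟩ := B.tr_surj l
    refine ⟨x, ?_⟩
    have h1 := psi_zf' (P := P) i x 1
    rw [map_one, mul_one, hx] at h1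
    exact h1.symm
  refine ⟨{
    AA := AAs P
    PP := PPs P H hS
    A_le := ?_, P_le := ?_, t_A := ?_, t_P := ?_, A_sup := ?_, P_sup := ?_, A_inf := ?_, P_inf := ?_,
    T_A := ?_, T_P := ?_, nb_P := ?_, na_C := ?_, A_C := ?_, A_R := ?_, P_R := ?_, cA_C := ?_, cA_R := ?_,
    cP_P := ?_, cP_R := ?_, C_gen := ?_, P_gen := ?_ }⟩
  · rintro i _ ⟨s, rfl⟩; exact a_memA i s
  · rintro i _ ⟨k, u, rfl⟩; exact Gr.P.mul_mem (zP i k) (rho_mem _ _)
  · rintro i _ ⟨s, rfl⟩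
    exact ⟨s, Eps.t_a i s⟩
  · rintro i _ ⟨k, u, rfl⟩
    refine ⟨k, u, ?_⟩
    rw [← Eps.t_zf, ← rho_t]; group
  · intro g hg
    obtain ⟨s, s', h⟩ := Eps.exists_a (P := P) hg
    exact ⟨_, ⟨s, rfl⟩, _, ⟨s', rfl⟩, h⟩
  · intro g hg
    obtain ⟨u, v, h⟩ := exists_vi (P := P) (tv Gr g)
    have hm : rho P H false u * rho P H true v ∈ Gr.P := Gr.P.mul_mem (rho_mem _ _) (rho_mem _ _)
    have h1 : tv Gr g = tv Gr (rho P H false u * rho P H true v) := by
      rw [h, tv_mul (rho_mem _ _) (rho_mem _ _), tv_rho, tv_rho]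
    obtain ⟨r, hr, h2⟩ := (tv_eq_iff hg hm).1 h1
    obtain ⟨k, l, rfl⟩ := Eps.exists_zf (P := P) hS hr
    refine ⟨_, ⟨k, u, rfl⟩, _, ⟨l, v, rfl⟩, ?_⟩
    have c1 : Commute (P.zf true l) (rho P H false u) := cZP (zf_memZ _ _) (rho_mem _ _)
    rw [h2]
    calc P.zf false k * P.zf true l * (rho P H false u * rho P H true v)
        = P.zf false k * (P.zf true l * rho P H false u) * rho P H true v := by group
      _ = _ := by rw [c1.eq]; group
  · rintro _ ⟨s, rfl⟩ ⟨s', h⟩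
    have h1 : P.a false s * P.a true 0 = P.a false 0 * P.a true s' := by
      rw [Eps.a_zero, Eps.a_zero, mul_one, one_mul]; exact h
    rw [(Eps.a_uniq h1).1, Eps.a_zero]
  · rintro _ ⟨k, u, rfl⟩ ⟨l, v, h⟩
    have h1 := congrArg (tv Gr) h
    rw [tv_mul (zP _ _) (rho_mem _ _), tv_mul (zP _ _) (rho_mem _ _), tv_Z (zf_memZ _ _), tv_Z (zf_memZ _ _),
      zero_add, zero_add, tv_rho, tv_rho] at h1
    have h2 : vi P false u + vi P true 0 = vi P false 0 + vi P true v := by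
      rw [vi_zero, vi_zero, add_zero, zero_add, h1]
    obtain ⟨h3, h4⟩ := vi_uniq h2
    rw [h3, ← h4, rho_zeroS hS, rho_zeroS hS, mul_one, mul_one] at h
    have h5 : P.zf false k * P.zf true 0 = P.zf false 0 * P.zf true l := by
      rw [Eps.zf_zero, Eps.zf_zero, mul_one, one_mul]; exact h
    rw [h3, rho_zeroS hS, (Eps.zf_uniq hS h5).1, Eps.zf_zero, one_mul]
  · rintro i k hk _ ⟨s, rfl⟩
    obtain ⟨μ, ν, ω, hw⟩ := exists_W5 hk
    exact ⟨_, Eps.T_a hw.toWt i s⟩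
  · rintro i k hk _ ⟨l, u, rfl⟩
    obtain ⟨μ, ν, ω, hw⟩ := exists_W5 hk
    refine ⟨B.nm μ * ν * l, B.s μ * ω * u, ?_⟩
    rw [← Eps.T_zf hw.toWt, ← rho_T hw]; group
  · intro g hg; exact rule5 hg
  · rintro i _ ⟨s, rfl⟩
    have h1 : E.nb * P.a i s * E.nb⁻¹ = P.c i s := Eps.nb_a (P := P) i s
    rw [h1, na_cS hS]
    exact ⟨P.a i (B.s s), ⟨_, rfl⟩, Eps.nb_a (P := P) i (B.s s)⟩
  · rintro i _ ⟨s, rfl⟩ c hc
    obtain ⟨x, rfl⟩ := nb_c_of hc
    refine ⟨_, ⟨B.tr (s * B.s x), 0, rfl⟩, ?_⟩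
    rw [rho_zeroS hS, mul_one, ← psi_zf' (P := P) i s x]
    exact AGrown.ph_spec _ _
  · rintro i _ ⟨s, rfl⟩ g hg
    obtain ⟨k, u, rfl⟩ := na_g_of hS hg
    obtain ⟨l, hl⟩ := Eps.conj_bi hS i s k
    obtain ⟨m, x, hx⟩ := a_sigS (P := P) (H := H) hS i s u
    refine ⟨P.zf i (l + m) * rho P H i (B.s s * u), ⟨_, _, rfl⟩, P.c i ((k : F) * s) * P.c i x, ?_, ?_⟩
    · rw [← Eps.c_add]; exact nb_c_mem i _
    · have c1 : Commute (P.bi hS i k) (P.zf i m) := (cZB (zf_memZ i m) (bi_memB hS i k)).symm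
      have c2 : Commute (P.bi hS i k) (rho P H i (B.s s * u)) := (cPB (rho_mem _ _) (bi_memB hS i k)).symm
      have c3 : Commute (P.bi hS i k) (P.c i x) := (cCB (c_memC i x) (bi_memB hS i k)).symm
      have c4 : Commute (P.c i ((k : F) * s)) (P.zf i m * rho P H i (B.s s * u)) :=
        cCP (c_memC _ _) (Gr.P.mul_mem (zP _ _) (rho_mem _ _))
      calc P.a i s * (P.bi hS i k * sig P H i u) * (P.a i s)⁻¹
          = (P.a i s * P.bi hS i k * (P.a i s)⁻¹) * (P.a i s * sig P H i u * (P.a i s)⁻¹) := by group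
        _ = P.zf i l * P.c i ((k : F) * s) * (P.bi hS i k *
              (P.zf i m * rho P H i (B.s s * u) * P.c i x)) * sig P H i u := by rw [hl, hx]; group
        _ = P.zf i l * (P.c i ((k : F) * s) * (P.zf i m * rho P H i (B.s s * u))) * P.c i x *
              P.bi hS i k * sig P H i u := by
            rw [((c1.mul_right c2).mul_right c3).eq]; group
        _ = _ := by rw [c4.eq, Eps.zf_add]; group
  · rintro i _ ⟨k, u, rfl⟩ g hg
    obtain ⟨l, v, rfl⟩ := na_g_of hS hg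
    refine ⟨P.c i (B.s u * v), nb_c_mem i _, ?_⟩
    have c1 : Commute (P.zf i k) (P.bi hS i l * sig P H i v) :=
      (cZB (zf_memZ i k) (bi_memB hS i l)).mul_right (cZR (zf_memZ i k) (sig_mem _ _))
    have c2 : Commute (rho P H i u) (P.bi hS i l) := cPB (rho_mem _ _) (bi_memB hS i l)
    have c3 : Commute (P.bi hS i l) (P.c i (B.s u * v)) := (cCB (c_memC i _) (bi_memB hS i l)).symm
    have c4 : Commute (P.zf i k) (P.c i (B.s u * v)) := cZC (zf_memZ i k) (c_memC i _)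
    calc P.zf i k * rho P H i u * (P.bi hS i l * sig P H i v) * (P.zf i k * rho P H i u)⁻¹
        = P.zf i k * ((rho P H i u * P.bi hS i l) * sig P H i v * (rho P H i u)⁻¹) * (P.zf i k)⁻¹ := by group
      _ = P.zf i k * (P.bi hS i l * (rho P H i u * sig P H i v * (rho P H i u)⁻¹)) * (P.zf i k)⁻¹ := by
          rw [c2.eq]; group
      _ = P.zf i k * (P.bi hS i l * P.c i (B.s u * v) * sig P H i v) * (P.zf i k)⁻¹ := by
          rw [rho_sigS' hS]; group
      _ = (P.zf i k * P.c i (B.s u * v)) * (P.bi hS i l * sig P H i v) * (P.zf i k)⁻¹ := by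
          rw [c3.eq]; group
      _ = P.c i (B.s u * v) * (P.zf i k * (P.bi hS i l * sig P H i v)) * (P.zf i k)⁻¹ := by rw [c4.eq]; group
      _ = _ := by rw [c1.eq, mul_assoc, mul_inv_cancel_right]
  · rintro i _ ⟨s, rfl⟩ c hc
    obtain ⟨x, rfl⟩ := nb_c_of hc
    exact (Eps.comm_a_c' hS i s x).symm.eq
  · rintro i _ ⟨s, rfl⟩ g hg
    obtain ⟨k, u, rfl⟩ := na_g_of hS hg
    exact ((Eps.comm_a_b hS i s k).mul_right (a_sigS' hS i s u)).symm.eq
  · rintro i _ ⟨k, u, rfl⟩ _ ⟨l, v, rfl⟩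
    have c1 : Commute (P.zf i k) (P.zf (!i) l * rho P H (!i) v) :=
      cZP (zf_memZ i k) (Gr.P.mul_mem (zP _ _) (rho_mem _ _))
    have c2 : Commute (rho P H i u) (P.zf (!i) l * rho P H (!i) v) :=
      (cZP (zf_memZ (!i) l) (rho_mem i u)).symm.mul_right (rho_rhoS hS i u v)
    exact (c1.mul_left c2).symm.eq
  · rintro i _ ⟨k, u, rfl⟩ g hg
    obtain ⟨l, v, rfl⟩ := na_g_of hS hg
    have c1 : Commute (P.zf i k) (P.bi hS (!i) l * sig P H (!i) v) :=
      (cZB (zf_memZ i k) (bi_memB hS (!i) l)).mul_right (cZR (zf_memZ i k) (sig_mem _ _))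
    have c2 : Commute (rho P H i u) (P.bi hS (!i) l * sig P H (!i) v) :=
      (cPB (rho_mem _ _) (bi_memB hS (!i) l)).mul_right (rho_sigS hS i u v)
    exact (c1.mul_left c2).symm.eq
  · intro i c hc
    obtain ⟨s, rfl⟩ := nb_c_of hc
    obtain ⟨l, hl⟩ := Eps.conj_bi hS i s 1
    obtain ⟨x, hx⟩ := key_gen i l
    refine ⟨P.a i s, ⟨_, rfl⟩, P.bi hS i 1 * sig P H i 0, na_g_mem hS i 1 0, P.a i x, ⟨_, rfl⟩, P.c i 1,
      nb_c_mem i 1, ?_⟩
    rw [← hx, sig_zeroS hS, mul_one, commutatorElement_def, hl, mul_inv_cancel_right, B.K.coe_one, one_mul]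
    have c1 : Commute (P.zf i l) (P.c i s) := cZC (zf_memZ i l) (c_memC i s)
    rw [c1.eq, mul_assoc, Eps.zf_sq, mul_one]
  · rintro i _ ⟨k, u, rfl⟩
    obtain ⟨m, x, hx⟩ := a_sigS (P := P) (H := H) hS i 1 u
    obtain ⟨y, hy⟩ := key_gen i (k + m)
    refine ⟨P.a i 1, ⟨_, rfl⟩, P.bi hS i 0 * sig P H i u, na_g_mem hS i 0 u, P.c i x, nb_c_mem i x, P.a i y,
      ⟨_, rfl⟩, P.c i 1, nb_c_mem i 1, ?_⟩
    rw [← hy, Eps.bi_zero, one_mul, commutatorElement_def, hx, mul_inv_cancel_right, map_one, one_mul]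
    have hc : P.c i x * P.c i x = 1 := Gr.rootC.sq _ (c_memC i x)
    have c1 : Commute (P.zf i m) (rho P H i u) := cZP (zf_memZ _ _) (rho_mem _ _)
    have c2 : Commute (rho P H i u) (P.zf i (k + m)) := (cZP (zf_memZ _ _) (rho_mem _ _)).symm
    calc P.zf i k * rho P H i u = P.zf i (m + (k + m)) * rho P H i u := by
          congr 2
          have := B.K_add_self m
          linear_combination -this
      _ = P.zf i m * (P.zf i (k + m) * rho P H i u) := by rw [Eps.zf_add]; group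
      _ = P.zf i m * rho P H i u * P.zf i (k + m) := by rw [← c2.eq]; group
      _ = P.zf i m * rho P H i u * (P.c i x * P.c i x) * P.zf i (k + m) := by rw [hc, mul_one]
      _ = _ := by group

end Cfsg.Agent.StdRank2.SC.Five
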